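import Mathlib.LinearAlgebra.Matrix.ToLin
import Mathlib.LinearAlgebra.Matrix.NonsingularInverse
import Mathlib.LinearAlgebra.Dimension.Finrank
import Mathlib.LinearAlgebra.FiniteDimensional.Lemmas
import Mathlib.Algebra.Polynomial.Roots
import Mathlib.Algebra.MvPolynomial.CommRing

/-!
# Ranks of a pencil of commuting operators

Families of polynomial vectors independent at one point stay independent at a general point; for
commuting `N`, `M` the ranks of `N + t M` and of its `q`-th power dominate those of `N` plus those
of the map induced by `M` on the homology of `N`.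
-/

set_option autoImplicit false
set_option maxHeartbeats 1000000

namespace CfsgLib.BlockA.AbelianIso

open Matrix Module

/-- Polynomial vectors independent after evaluation have an independence certificate `d`. -/
theorem exists_indep_cert {R k κ r : Type*} [CommRing R] [Field k] [Fintype κ] [Fintype r]
    (e : R →+* k) (C : k →+* R) (hC : ∀ x, e (C x) = x) (P : r → κ → R)
    (h : LinearIndependent k fun i => fun j => e (P i j)) :
    ∃ d : R, e d = 1 ∧ ∀ (F : Type*) [Field F] (φ : R →+* F), φ d ≠ 0 →
      LinearIndependent F fun i => fun j => φ (P i j) := by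
  classical
  set V : Matrix κ r k := Matrix.of fun j i => e (P i j) with hV
  have hker : LinearMap.ker V.mulVecLin = ⊥ := by
    rw [ker_mulVecLin_eq_bot_iff]
    intro c hc
    funext i
    refine Fintype.linearIndependent_iff.1 h c ?_ i
    funext j
    simpa [hV, mulVec, dotProduct, mul_comm] using congrFun hc j
  obtain ⟨g, hg⟩ := V.mulVecLin.exists_leftInverse_of_injective hker
  set L : Matrix r κ k := LinearMap.toMatrix' g with hL
  have hLV : L * V = 1 := by
    apply Matrix.toLin'.injective
    rw [Matrix.toLin'_mul, Matrix.toLin'_one, hL, Matrix.toLin'_toMatrix']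
    exact hg
  set VR : Matrix κ r R := Matrix.of fun j i => P i j
  refine ⟨(L.map C * VR).det, ?_, fun F _ φ hd => ?_⟩
  · rw [RingHom.map_det, RingHom.mapMatrix_apply, Matrix.map_mul]
    have h1 : (L.map C).map e = L := by ext i j; simp [hC]
    rw [h1, show VR.map e = V from rfl, hLV, det_one]
  · rw [RingHom.map_det, RingHom.mapMatrix_apply, Matrix.map_mul] at hd
    rw [Fintype.linearIndependent_iff]
    intro c hc i
    have h1 : ((L.map C).map φ * VR.map φ) *ᵥ c = 0 := by
      rw [← mulVec_mulVec]
      have hv : VR.map φ *ᵥ c = 0 := by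
        funext j
        simpa [VR, mulVec, dotProduct, mul_comm] using congrFun hc j
      rw [hv, Matrix.mulVec_zero]
    have h2 : c = 0 := by
      have hu := Matrix.mulVec_injective_iff_isUnit.2 ((Matrix.isUnit_iff_isUnit_det _).2 hd.isUnit)
      exact hu (h1.trans (Matrix.mulVec_zero _).symm)
    exact congrFun h2 i

/-- A polynomial family independent at `0` is independent at some nonzero point. -/
theorem exists_indep_point {k κ r : Type*} [Field k] [Infinite k] [Fintype κ] [Fintype r]
    (P : r → κ → Polynomial k) (h : LinearIndependent k fun i => fun j => (P i j).eval 0) :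
    ∃ d : Polynomial k, d ≠ 0 ∧
      ∀ t : k, d.eval t ≠ 0 → LinearIndependent k fun i => fun j => (P i j).eval t := by
  obtain ⟨d, hd, hind⟩ := exists_indep_cert (Polynomial.evalRingHom (0 : k)) Polynomial.C
    (fun x => Polynomial.eval_C) P h
  refine ⟨d, fun h0 => ?_, fun t ht => hind k (Polynomial.evalRingHom t) ht⟩
  rw [h0, map_zero] at hd
  exact zero_ne_one hd

variable {k E : Type*} [Field k] [AddCommGroup E] [Module k E]

theorem commute_add_smul {N M : Module.End k E} (hc : Commute N M) (t : k) :
    Commute N (N + t • M) :=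
  (Commute.refl N).add_right (hc.smul_right t)

/-- On the kernel of `N` the powers of `N + t M` are those of `t M`. -/
theorem pow_apply_ker {N M : Module.End k E} (hc : Commute N M) (t : k) {h : E} (hh : N h = 0) :
    ∀ q : ℕ, ((N + t • M) ^ q) h = t ^ q • (M ^ q) h ∧ N ((M ^ q) h) = 0 := by
  intro q
  induction q with
  | zero => simp [hh]
  | succ q ih =>
    have h2 : N ((M ^ (q + 1)) h) = 0 := by
      have := congrArg (fun f : Module.End k E => f h) (hc.pow_right (q + 1)).eq
      simp only [Module.End.mul_apply] at this
      rw [this, hh, map_zero]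
    refine ⟨?_, h2⟩
    rw [pow_succ' (N + t • M), Module.End.mul_apply, ih.1, map_smul, LinearMap.add_apply, ih.2,
      zero_add, LinearMap.smul_apply, smul_smul, ← pow_succ, pow_succ' M, Module.End.mul_apply]

/-- **The two-stage bound.** `π` is the homology of `N` with the map `M'` induced by `M`. -/
theorem exists_pencil [FiniteDimensional k E] {F : Type*} [AddCommGroup F] [Module k F] [FiniteDimensional k F]
    [Infinite k] {N M : Module.End k E} (hc : Commute N M) {p : ℕ} (hp : 2 ≤ p)
    (π : LinearMap.ker N →ₗ[k] F) (hπ : Function.Surjective π)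
    (hker : ∀ v : LinearMap.ker N, π v = 0 ↔ (v : E) ∈ LinearMap.range (N ^ (p - 1)))
    (hNN : ∀ v : E, N (N v) = 0 → N v ∈ LinearMap.range (N ^ (p - 1)))
    (M' : Module.End k F) (hM' : ∀ v w : LinearMap.ker N, (w : E) = M (v : E) → π w = M' (π v))
    (b : ℕ) (hb : finrank k F ≤
      finrank k (LinearMap.range M') + finrank k (LinearMap.range (M' ^ (p - 1))) + b) :
    ∃ t : k, finrank k E ≤ finrank k (LinearMap.range (N + t • M)) +
      finrank k (LinearMap.range ((N + t • M) ^ (p - 1))) + b := by
  classical
  have hMker : ∀ (v : LinearMap.ker N) (q : ℕ), N ((M ^ q) (v : E)) = 0 := fun v q =>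
    (pow_apply_ker hc 0 v.2 q).2
  have hM'pow : ∀ (q : ℕ) (v : LinearMap.ker N),
      π ⟨(M ^ q) (v : E), hMker v q⟩ = (M' ^ q) (π v) := by
    intro q
    induction q with
    | zero => intro v; rfl
    | succ q ih =>
      intro v
      rw [pow_succ' M', Module.End.mul_apply, ← ih v]
      exact hM' _ _ (LinearMap.congr_fun (pow_succ' M q) (v : E))
  -- vectors for a power `q`: `N ^ q` images and the lifts of the images of `M' ^ q`
  have key : ∀ q : ℕ, 0 < q →
      (∀ v : E, N ((N ^ q) v) = 0 → (N ^ q) v ∈ LinearMap.range (N ^ (p - 1))) →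
      ∃ d : Polynomial k, d ≠ 0 ∧ ∀ t : k, t ≠ 0 → d.eval t ≠ 0 →
        finrank k (LinearMap.range (N ^ q)) + finrank k (LinearMap.range (M' ^ q)) ≤
          finrank k (LinearMap.range ((N + t • M) ^ q)) := by
    intro q hq hint
    obtain ⟨u, hu⟩ : ∃ u : Fin (finrank k (LinearMap.range (N ^ q))) → E,
        LinearIndependent k fun i => (N ^ q) (u i) := by
      let bR := Module.finBasis k (LinearMap.range (N ^ q))
      choose u hu using fun i => LinearMap.mem_range.1 (bR i).2
      refine ⟨u, ?_⟩
      simp only [hu]
      exact bR.linearIndependent.map' (LinearMap.range (N ^ q)).subtype (Submodule.ker_subtype _)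
    obtain ⟨h, hh⟩ : ∃ h : Fin (finrank k (LinearMap.range (M' ^ q))) → LinearMap.ker N,
        LinearIndependent k fun i => (M' ^ q) (π (h i)) := by
      let bR := Module.finBasis k (LinearMap.range (M' ^ q))
      choose z hz using fun i => LinearMap.mem_range.1 (bR i).2
      choose h hh using fun i => hπ (z i)
      refine ⟨h, ?_⟩
      simp only [hh, hz]
      exact bR.linearIndependent.map' (LinearMap.range (M' ^ q)).subtype (Submodule.ker_subtype _)
    have hind : LinearIndependent k
        (Sum.elim (fun i => (N ^ q) (u i)) fun i => (M ^ q) (h i : E)) := by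
      rw [Fintype.linearIndependent_iff]
      intro c hc0
      rw [Fintype.sum_sum_type] at hc0
      simp only [Sum.elim_inl, Sum.elim_inr] at hc0
      set x := ∑ i, c (Sum.inl i) • u i with hx
      have hy : ∑ i, c (Sum.inl i) • (N ^ q) (u i) = (N ^ q) x := by simp [hx]
      set w : LinearMap.ker N :=
        ∑ i, c (Sum.inr i) • (⟨(M ^ q) (h i : E), hMker (h i) q⟩ : LinearMap.ker N) with hw
      have hw' : (w : E) = ∑ i, c (Sum.inr i) • (M ^ q) (h i : E) := by simp [hw]
      rw [hy, ← hw'] at hc0
      have hx0 : N ((N ^ q) x) = 0 := by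
        rw [eq_neg_of_add_eq_zero_left hc0, map_neg, show N (w : E) = 0 from w.2, neg_zero]
      have hπw : π w = 0 := by
        rw [hker, eq_neg_of_add_eq_zero_right hc0]
        exact (LinearMap.range (N ^ (p - 1))).neg_mem (hint x hx0)
      have hcr : ∀ i, c (Sum.inr i) = 0 := by
        refine Fintype.linearIndependent_iff.1 hh _ ?_
        rw [← hπw, hw, map_sum]
        simp only [map_smul, hM'pow]
      have hcl : ∀ i, c (Sum.inl i) = 0 := by
        refine Fintype.linearIndependent_iff.1 hu _ ?_
        have : (w : E) = 0 := by simp [hw', hcr]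
        rw [hy]; simpa [this] using hc0
      rintro (i | i)
      · exact hcl i
      · exact hcr i
    -- the same vectors along the pencil
    let bE := Module.finBasis k E
    set eM := LinearMap.toMatrixAlgEquiv bE
    let T : Matrix (Fin (finrank k E)) (Fin (finrank k E)) (Polynomial k) :=
      (eM N).map Polynomial.C + (Polynomial.X : Polynomial k) • (eM M).map Polynomial.C
    let P : _ → Fin (finrank k E) → Polynomial k :=
      Sum.elim (fun i => (T ^ q) *ᵥ fun j => Polynomial.C (bE.repr (u i) j))
        fun i => fun j => Polynomial.C (bE.repr ((M ^ q) (h i : E)) j)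
    have hTeval : ∀ t : k, (T ^ q).map (Polynomial.evalRingHom t) = eM ((N + t • M) ^ q) := by
      intro t
      rw [← RingHom.mapMatrix_apply, map_pow, map_pow]
      congr 1
      ext i j
      simp [T]
      exact mul_comm _ _
    have hval : ∀ (t : k) (i), (fun j => (P i j).eval t) =
        fun j => bE.repr (Sum.elim (fun i => ((N + t • M) ^ q) (u i))
          (fun i => (M ^ q) (h i : E)) i) j := by
      intro t i
      rcases i with i | i
      · funext j
        show Polynomial.evalRingHom t ((((T ^ q) *ᵥ fun j => Polynomial.C (bE.repr (u i) j))) j) = _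
        rw [RingHom.map_mulVec, hTeval]
        have h1 : (⇑(Polynomial.evalRingHom t) ∘ fun j => Polynomial.C (bE.repr (u i) j)) =
            ⇑(bE.repr (u i)) := by
          funext j; simp
        rw [h1, Sum.elim_inl]
        exact congrFun (LinearMap.toMatrix_mulVec_repr bE bE ((N + t • M) ^ q) (u i)) j
      · funext j; simp [P]
    have hfun : ∀ v : (Fin (finrank k (LinearMap.range (N ^ q))) ⊕
        Fin (finrank k (LinearMap.range (M' ^ q)))) → E, LinearIndependent k v →
        LinearIndependent k fun i => bE.equivFun.toLinearMap (v i) := fun v hv =>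
      hv.map' bE.equivFun.toLinearMap (LinearEquiv.ker _)
    obtain ⟨d, hd, hdt⟩ := exists_indep_point P (by
      have h0 := funext (hval 0)
      rw [h0]
      have h1 := hfun _ hind
      convert h1 using 2 with i
      funext j
      simp [zero_smul])
    refine ⟨d, hd, fun t ht hdt0 => ?_⟩
    have hi := hdt t hdt0
    rw [funext (hval t)] at hi
    have hi' : LinearIndependent k (Sum.elim (fun i => ((N + t • M) ^ q) (u i))
        fun i => (M ^ q) (h i : E)) :=
      LinearIndependent.of_comp bE.equivFun.toLinearMap hi
    have hsub : Submodule.span k (Set.range (Sum.elim (fun i => ((N + t • M) ^ q) (u i))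
        fun i => (M ^ q) (h i : E))) ≤ LinearMap.range ((N + t • M) ^ q) := by
      rw [Submodule.span_le]
      rintro _ ⟨i | i, rfl⟩
      · exact ⟨u i, rfl⟩
      · refine ⟨(t ^ q)⁻¹ • (h i : E), ?_⟩
        rw [map_smul, (pow_apply_ker hc t (h i).2 q).1, smul_smul,
          inv_mul_cancel₀ (pow_ne_zero _ ht), one_smul]
        rfl
    have := Submodule.finrank_mono hsub
    rw [finrank_span_eq_card hi', Fintype.card_sum, Fintype.card_fin, Fintype.card_fin] at this
    exact this
  obtain ⟨d1, hd1, h1⟩ := key 1 one_pos (by simpa using hNN)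
  obtain ⟨d2, hd2, h2⟩ := key (p - 1) (by omega) (fun v _ => ⟨v, rfl⟩)
  obtain ⟨t, ht⟩ := ((Polynomial.finite_setOfPred_isRoot
    (mul_ne_zero (mul_ne_zero hd1 hd2) (Polynomial.X_ne_zero (R := k)))).infinite_compl).nonempty
  simp only [Set.mem_compl_iff, Set.mem_ofPred_eq, Polynomial.IsRoot, Polynomial.eval_mul,
    Polynomial.eval_X, mul_eq_zero, not_or] at ht
  refine ⟨t, ?_⟩
  have e1 := h1 t ht.2 ht.1.1
  have e2 := h2 t ht.2 ht.1.2
  rw [pow_one, pow_one, pow_one] at e1
  have e3 := N.finrank_range_add_finrank_ker
  have e4 := π.finrank_range_add_finrank_ker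
  have e5 : finrank k (LinearMap.range π) = finrank k F := by
    rw [LinearMap.range_eq_top.2 hπ, finrank_top]
  have e6 : finrank k (LinearMap.ker π) ≤ finrank k (LinearMap.range (N ^ (p - 1))) := by
    refine LinearMap.finrank_le_finrank_of_injective
      (f := ((LinearMap.ker N).subtype.comp (LinearMap.ker π).subtype).codRestrict _
        fun v => (hker v.1).1 v.2) ?_
    exact Function.Injective.codRestrict _
      (Subtype.val_injective.comp Subtype.val_injective)
  omega

end CfsgLib.BlockA.AbelianIso
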