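import Cfsg.Agent.Lib.BlockA.AbelianIso.Omega
import Cfsg.Agent.Lib.BlockA.AbelianIso.Rank

/-!
# The homology of the commutator with a general element of the acting group

For an abelian group `S` of operators of exponent `p` on `K` there is a point `a` at which the
ranks of `ad (∑ a w • τ w)` and of its `(p-1)`-st power leave at most the dimension of the matrix
algebra of the correspondent on the fixed points.
-/

set_option autoImplicit false
set_option maxHeartbeats 1000000
set_option linter.unusedSectionVars false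

namespace CfsgLib.BlockA.AbelianIso

open Matrix Module
open scoped Classical

universe u v

variable {G : Type u} [Group G] [Finite G] {k : Type v} [Field k]

/-- Conjugation by an element of the normalizer. -/
noncomputable def conjOn (C : Subgroup G) (w : G) (hw : w ∈ Subgroup.normalizer (C : Set G)) :
    C ≃* C where
  toFun c := ⟨w * c * w⁻¹, (Subgroup.mem_normalizer_iff.1 hw c).1 c.2⟩
  invFun c := ⟨w⁻¹ * c * w, (Subgroup.mem_normalizer_iff''.1 hw c).1 c.2⟩
  left_inv c := Subtype.ext (by show w⁻¹ * (w * c * w⁻¹) * w = c; group)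
  right_inv c := Subtype.ext (by show w * (w⁻¹ * c * w) * w⁻¹ = c; group)
  map_mul' a b := Subtype.ext (by show w * (a * b) * w⁻¹ = w * a * w⁻¹ * (w * b * w⁻¹); group)

theorem conjOn_apply (C : Subgroup G) (w : G) (hw : w ∈ Subgroup.normalizer (C : Set G)) (c : C) :
    ((conjOn C w hw c : C) : G) = w * c * w⁻¹ := rfl

theorem conjOn_iterate (C : Subgroup G) (w : G) (hw : w ∈ Subgroup.normalizer (C : Set G)) :
    ∀ (j : ℕ) (c : C), (((⇑(conjOn C w hw))^[j] c : C) : G) = w ^ j * c * (w ^ j)⁻¹ := by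
  intro j
  induction j with
  | zero => simp
  | succ j ih =>
    intro c
    rw [Function.iterate_succ_apply', conjOn_apply, ih, pow_succ']
    group

/-- A group of operators of exponent `p` acting on an invariant spanning representation. -/
structure Ops (G : Type u) [Group G] (k : Type v) [Field k] (p : ℕ) where
  K : Subgroup G
  S : Subgroup G
  n : ℕ
  ρ : K →* Matrix (Fin n) (Fin n) k
  spans : Spans ρ
  ndiv : ¬ p ∣ Nat.card K
  comm : ∀ x ∈ S, ∀ y ∈ S, x * y = y * x
  norm : S ≤ Subgroup.normalizer (K : Set G)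
  exp : ∀ x ∈ S, ∀ a ∈ K, x ^ p * a = a * x ^ p
  inv : ∀ x ∈ S, ∀ (a b : K), (b : G) = x * a * x⁻¹ → (ρ b).trace = (ρ a).trace
  inter : ∀ T ≤ S, ∃ (r : ℕ)
    (σ : (K ⊓ Subgroup.centralizer (T : Set G) : Subgroup G) →* Matrix (Fin r) (Fin r) k),
    r ≠ 0 ∧ Spans σ ∧ Linked ρ σ

variable {p : ℕ} [hp : Fact p.Prime] [CharP k p] [IsAlgClosed k] (D : Ops G k p)

/-- The fixed points of a subgroup of operators. -/
abbrev Ops.fix (T : Subgroup G) : Subgroup G := D.K ⊓ Subgroup.centralizer (T : Set G)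

theorem Ops.card_ne_zero {C : Subgroup G} [Fintype C] (hC : C ≤ D.K) :
    (Fintype.card C : k) ≠ 0 := by
  rw [Ne, CharP.cast_eq_zero_iff k p]
  intro h
  exact D.ndiv (h.trans (by rw [← Nat.card_eq_fintype_card]; exact Subgroup.card_dvd_of_le hC))

theorem Ops.mem_norm {T : Subgroup G} (hT : T ≤ D.S) {w : G} (hw : w ∈ D.S) :
    w ∈ Subgroup.normalizer ((D.fix T : Subgroup G) : Set G) := by
  have hcomm : ∀ t ∈ T, w * t = t * w := fun t ht => D.comm w hw t (hT ht)
  rw [Subgroup.mem_normalizer_iff]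
  intro c
  have hK := Subgroup.mem_normalizer_iff.1 (D.norm hw) c
  constructor
  · rintro ⟨hcK, hcC⟩
    refine ⟨hK.1 hcK, Subgroup.mem_centralizer_iff.2 fun t ht => ?_⟩
    have h1 := Subgroup.mem_centralizer_iff.1 hcC t ht
    have h2 := hcomm t ht
    calc t * (w * c * w⁻¹) = (t * w) * c * w⁻¹ := by group
      _ = w * (t * c) * w⁻¹ := by rw [← h2]; group
      _ = w * c * (t * w⁻¹) := by rw [h1]; group
      _ = _ := by
        rw [show t * w⁻¹ = w⁻¹ * t from (Commute.inv_left (show Commute w t from h2)).eq.symm]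
        group
  · rintro ⟨hcK, hcC⟩
    refine ⟨hK.2 hcK, Subgroup.mem_centralizer_iff.2 fun t ht => ?_⟩
    have h1 := Subgroup.mem_centralizer_iff.1 hcC t ht
    have h2 := hcomm t ht
    calc t * c = w⁻¹ * (w * t) * c := by group
      _ = w⁻¹ * (t * (w * c * w⁻¹)) * w := by rw [h2]; group
      _ = c * (w⁻¹ * t * w) := by rw [h1]; group
      _ = c * t := by rw [mul_assoc w⁻¹ t w, ← h2]; group

/-- The invariance of the intermediate correspondents. -/
theorem Ops.inv_fix {T : Subgroup G} (hT : T ≤ D.S) {r : ℕ}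
    {σ : D.fix T →* Matrix (Fin r) (Fin r) k} (hl : Linked D.ρ σ) (w : D.S) (c : D.fix T) :
    (σ (conjOn (D.fix T) w (D.mem_norm hT w.2) c)).trace = (σ c).trace := by
  obtain ⟨m, hm, hlk⟩ := hl
  refine mul_left_cancel₀ hm ?_
  rw [← hlk c ⟨(c : G), c.2.1⟩ rfl, ← hlk _ ⟨_, (conjOn (D.fix T) (w : G) (D.mem_norm hT w.2) c).2.1⟩ rfl]
  exact D.inv w w.2 _ _ rfl

theorem Ops.exp_fix {T : Subgroup G} (hT : T ≤ D.S) (w : D.S) (c : D.fix T) :
    (⇑(conjOn (D.fix T) w (D.mem_norm hT w.2)))^[p] c = c := by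
  apply Subtype.ext
  rw [conjOn_iterate, D.exp w w.2 _ c.2.1, mul_assoc, mul_inv_cancel, mul_one]

/-- `t` is the family of implementers of order dividing `p` of the operators on `σ`. -/
def Ops.IsImp {T : Subgroup G} (hT : T ≤ D.S) {r : ℕ}
    (σ : D.fix T →* Matrix (Fin r) (Fin r) k) (t : D.S → Matrix (Fin r) (Fin r) k) : Prop :=
  ∀ w : D.S, t w ^ p = 1 ∧
    ∀ c, t w * σ c = σ (conjOn (D.fix T) w (D.mem_norm hT w.2) c) * t w

theorem Ops.exists_imp {T : Subgroup G} (hT : T ≤ D.S) [Fintype (D.fix T)] {r : ℕ} [NeZero r]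
    {σ : D.fix T →* Matrix (Fin r) (Fin r) k} (hσ : Spans σ) (hl : Linked D.ρ σ) :
    ∃ t, D.IsImp hT σ t := by
  have h : ∀ w : D.S, _ := fun w => hσ.existsUnique_pow (p := p) (D.card_ne_zero inf_le_left)
    (conjOn (D.fix T) w (D.mem_norm hT w.2)) (D.inv_fix hT hl w) (D.exp_fix hT w)
  exact ⟨fun w => (h w).exists.choose, fun w => (h w).exists.choose_spec⟩

theorem Ops.imp_eq {T : Subgroup G} (hT : T ≤ D.S) [Fintype (D.fix T)] {r : ℕ} [NeZero r]
    {σ : D.fix T →* Matrix (Fin r) (Fin r) k} (hσ : Spans σ) (hl : Linked D.ρ σ)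
    {t : D.S → Matrix (Fin r) (Fin r) k} (ht : D.IsImp hT σ t) (w : D.S)
    {A : Matrix (Fin r) (Fin r) k} (hA : A ^ p = 1)
    (hAi : ∀ c, A * σ c = σ (conjOn (D.fix T) w (D.mem_norm hT w.2) c) * A) : A = t w :=
  (hσ.existsUnique_pow (p := p) (D.card_ne_zero inf_le_left)
    (conjOn (D.fix T) w (D.mem_norm hT w.2)) (D.inv_fix hT hl w) (D.exp_fix hT w)).unique
      ⟨hA, hAi⟩ (ht w)

theorem Ops.imp_commute {T : Subgroup G} (hT : T ≤ D.S) [Fintype (D.fix T)] {r : ℕ} [NeZero r]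
    {σ : D.fix T →* Matrix (Fin r) (Fin r) k} (hσ : Spans σ) (hl : Linked D.ρ σ)
    {t : D.S → Matrix (Fin r) (Fin r) k} (ht : D.IsImp hT σ t) (w x : D.S) :
    Commute (t w) (t x) := by
  obtain ⟨u, hu⟩ : IsUnit (t w) := (isUnit_pow_iff hp.out.ne_zero).1 ((ht w).1 ▸ isUnit_one)
  have key : (↑u : Matrix (Fin r) (Fin r) k) * t x * (↑u⁻¹ : Matrix (Fin r) (Fin r) k) = t x := by
    refine D.imp_eq hT hσ hl ht x ?_ fun c => ?_
    · rw [Units.conj_pow, (ht x).1, mul_one, Units.mul_inv]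
    · set φ := conjOn (D.fix T) (w : G) (D.mem_norm hT w.2) with hφ
      set ψ := conjOn (D.fix T) (x : G) (D.mem_norm hT x.2) with hψ
      have hc : c = φ (φ.symm c) := (φ.apply_symm_apply c).symm
      have h1 : (↑u⁻¹ : Matrix (Fin r) (Fin r) k) * σ c = σ (φ.symm c) * (↑u⁻¹ : Matrix (Fin r) (Fin r) k) := by
        apply (Units.mul_right_inj u).1
        rw [← mul_assoc, Units.mul_inv, one_mul, ← mul_assoc, hu, (ht w).2, ← hc, ← hu, mul_assoc,
          Units.mul_inv, mul_one]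
      have h2 : φ (ψ (φ.symm c)) = ψ c := by
        conv_rhs => rw [hc]
        generalize φ.symm c = d
        refine Subtype.ext ?_
        simp only [hφ, hψ, conjOn_apply]
        have hwx := D.comm w w.2 x x.2
        calc (w : G) * ((x : G) * d * (x : G)⁻¹) * (w : G)⁻¹
            = ((w : G) * x) * d * ((w : G) * x)⁻¹ := by group
          _ = _ := by rw [hwx]; group
      rw [mul_assoc, h1, ← mul_assoc, mul_assoc (↑u : Matrix (Fin r) (Fin r) k) (t x), (ht x).2,
        hu, ← mul_assoc, (ht w).2, h2, mul_assoc (σ (ψ c)), mul_assoc]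
  show t w * t x = t x * t w
  conv_rhs => rw [← key]
  rw [← hu, mul_assoc _ (↑u⁻¹ : Matrix (Fin r) (Fin r) k), Units.inv_mul, mul_one]

/-- **A point with small homology.** -/
theorem Ops.exists_point [Fintype D.S] {s : ℕ} (hs : s ≠ 0) {σ₀ : D.fix D.S →* Matrix (Fin s) (Fin s) k}
    (hσ₀ : Spans σ₀) (hl₀ : Linked D.ρ σ₀) {T : Subgroup G} (hT : T ≤ D.S) {r : ℕ} (hr : r ≠ 0)
    {σ : D.fix T →* Matrix (Fin r) (Fin r) k} (hσ : Spans σ) (hl : Linked D.ρ σ)
    {t : D.S → Matrix (Fin r) (Fin r) k} (ht : D.IsImp hT σ t) :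
    ∃ a : D.S → k, r * r ≤ finrank k (LinearMap.range (ad (∑ w, a w • t w))) +
      finrank k (LinearMap.range ((ad (∑ w, a w • t w)) ^ (p - 1))) + s * s := by
  induction hN : Nat.card D.S - Nat.card T using Nat.strong_induction_on generalizing T r with
  | _ N ih =>
  have := Fintype.ofFinite (D.fix T)
  have : NeZero r := ⟨hr⟩
  have hfinM : ∀ q : ℕ, finrank k (Matrix (Fin q) (Fin q) k) = q * q := fun q => by
    rw [Module.finrank_matrix, Fintype.card_fin, finrank_self, mul_one]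
  by_cases hTS : D.S ≤ T
  · -- at the top `σ` and `σ₀` have the same degree
    have := Fintype.ofFinite (D.fix D.S)
    have : NeZero s := ⟨hs⟩
    have hfix : D.fix T ≤ D.fix D.S := le_of_eq (by rw [le_antisymm hT hTS])
    have hfix' : D.fix D.S ≤ D.fix T := le_of_eq (by rw [le_antisymm hT hTS])
    obtain ⟨m, hm, hlk⟩ := hl
    obtain ⟨m₀, hm₀, hlk₀⟩ := hl₀
    have hlink : ∀ (c : D.fix D.S) (a : D.fix T), (a : G) = c →
        (σ a).trace = m⁻¹ * m₀ * (σ₀ c).trace := fun c a e => by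
      rw [mul_assoc, ← hlk₀ c ⟨(c : G), c.2.1⟩ rfl, hlk a ⟨(c : G), c.2.1⟩ e.symm, ← mul_assoc,
        inv_mul_cancel₀ hm, one_mul]
    have hinj : Function.Injective (om hfix' σ σ₀) := by
      refine (injective_iff_map_eq_zero _).2 fun X hX => ?_
      have h := mem_range_of_om_eq_zero hfix' σ σ₀ (MulEquiv.refl _)
        (fun a => iff_of_true rfl (hfix a.2)) (τ := 1) (fun a => by rw [one_mul, mul_one]; rfl)
        (p := p) (one_pow p) (D.card_ne_zero inf_le_left) (D.card_ne_zero inf_le_left) hσ hσ₀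
        (fun a => Function.iterate_fixed (f := ⇑(MulEquiv.refl (D.fix T))) rfl p)
        (mul_ne_zero (inv_ne_zero hm) hm₀) hlink (Commute.one_left X) hX
      obtain ⟨Z, hZ⟩ := h
      have h0 : ad (1 : Matrix (Fin r) (Fin r) k) = 0 :=
        LinearMap.ext fun X => by rw [ad_apply, one_mul, mul_one, sub_self]; rfl
      rw [h0, zero_pow (Nat.sub_ne_zero_of_lt hp.out.one_lt)] at hZ
      rw [← hZ]; rfl
    have hle := LinearMap.finrank_le_finrank_of_injective hinj
    rw [hfinM, hfinM] at hle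
    exact ⟨0, by omega⟩
  obtain ⟨x, hxS, hxT⟩ := SetLike.not_le_iff_exists.1 hTS
  set T' := T ⊔ Subgroup.zpowers x with hT'def
  have hT' : T' ≤ D.S := sup_le hT (Subgroup.zpowers_le.2 hxS)
  have hlt : T < T' := lt_of_le_of_ne le_sup_left fun e =>
    hxT (e ▸ (le_sup_right : Subgroup.zpowers x ≤ T') (Subgroup.mem_zpowers x))
  have hCC : D.fix T' ≤ D.fix T :=
    inf_le_inf_left _ (Subgroup.centralizer_le (SetLike.coe_subset_coe.2 (le_sup_left : T ≤ T')))
  obtain ⟨r', σ', hr', hσ', hl'⟩ := D.inter T' hT'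
  have := Fintype.ofFinite (D.fix T')
  have : NeZero r' := ⟨hr'⟩
  obtain ⟨t', ht'⟩ := D.exists_imp hT' hσ' hl'
  have hcard : Nat.card D.S - Nat.card T' < N := by
    have h1 : Nat.card T < Nat.card T' := Set.Finite.card_lt_card (Set.toFinite _) hlt
    have h2 : Nat.card T' ≤ Nat.card D.S := Subgroup.card_le_of_le hT'
    omega
  obtain ⟨a, ha⟩ := ih _ hcard hT' hr' hσ' hl' ht' rfl
  set x' : D.S := ⟨x, hxS⟩ with hx'
  set φ := conjOn (D.fix T) x (D.mem_norm hT hxS) with hφdef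
  have hC : ∀ c : D.fix T, φ c = c ↔ (c : G) ∈ D.fix T' := by
    intro c
    rw [Subtype.ext_iff, conjOn_apply, mul_inv_eq_iff_eq_mul]
    constructor
    · intro h
      refine ⟨c.2.1, ?_⟩
      show (c : G) ∈ Subgroup.centralizer (T' : Set G)
      rw [hT'def, Subgroup.mem_centralizer_iff]
      intro g hg
      have hle : T ⊔ Subgroup.zpowers x ≤ Subgroup.centralizer ({(c : G)} : Set G) := by
        refine sup_le (fun g hg => ?_) (Subgroup.zpowers_le.2 ?_)
        · rw [Subgroup.mem_centralizer_singleton_iff]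
          exact Subgroup.mem_centralizer_iff.1 c.2.2 g hg
        · rw [Subgroup.mem_centralizer_singleton_iff]; exact h
      exact Subgroup.mem_centralizer_singleton_iff.1 (hle hg)
    · rintro ⟨-, h⟩
      exact Subgroup.mem_centralizer_iff.1 h x
        ((le_sup_right : Subgroup.zpowers x ≤ T') (Subgroup.mem_zpowers x))
  obtain ⟨m, hm, hlk⟩ := hl
  obtain ⟨m', hm', hlk'⟩ := hl'
  have hlink : ∀ (c : D.fix T') (b : D.fix T), (b : G) = c →
      (σ b).trace = m⁻¹ * m' * (σ' c).trace := fun c b e => by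
    rw [mul_assoc, ← hlk' c ⟨(c : G), c.2.1⟩ rfl, hlk b ⟨(c : G), c.2.1⟩ e.symm, ← mul_assoc,
      inv_mul_cancel₀ hm, one_mul]
  have hτ := (ht x').2
  have hτp := (ht x').1
  have hmm := mul_ne_zero (inv_ne_zero hm) hm'
  have hKk := D.card_ne_zero (C := D.fix T) inf_le_left
  have hCk := D.card_ne_zero (C := D.fix T') inf_le_left
  have hφp := D.exp_fix hT x'
  set ω := om hCC σ σ' with hω
  have hmul : ∀ {X Y : Matrix (Fin r) (Fin r) k}, Commute (t x') X → Commute (t x') Y →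
      ω (X * Y) = ω X * ω Y :=
    fun h h' => om_mul hCC σ σ' φ hC hτ hτp hKk hCk hσ hσ' hφp hmm hlink h h'
  have hrep := om_rep hCC σ σ' φ hC hτ hτp hKk hCk hσ hσ' hφp hmm hlink
  have hone := om_one hCC σ σ' φ hC hτ hτp hKk hCk hσ hσ' hφp hmm hlink
  have hcr := commute_rep hCC σ φ hC hτ
  have hcomm : ∀ w, Commute (t x') (t w) := fun w => D.imp_commute hT hσ ⟨m, hm, hlk⟩ ht x' w
  have hωt : ∀ w, ω (t w) = t' w := by
    intro w
    refine D.imp_eq hT' hσ' ⟨m', hm', hlk'⟩ ht' w ?_ fun c => ?_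
    · have hpow : ∀ j : ℕ, ω (t w ^ j) = ω (t w) ^ j := by
        intro j
        induction j with
        | zero => rw [pow_zero, pow_zero]; exact hone
        | succ j ih => rw [pow_succ, hmul ((hcomm w).pow_right j) (hcomm w), ih, pow_succ]
      rw [← hpow, (ht w).1]; exact hone
    · rw [← hrep c, ← hmul (hcomm w) (hcr c), (ht w).2,
        ← hrep (conjOn (D.fix T') w (D.mem_norm hT' w.2) c)]
      have e : conjOn (D.fix T) (w : G) (D.mem_norm hT w.2) ⟨(c : G), hCC c.2⟩ =
          ⟨_, hCC (conjOn (D.fix T') (w : G) (D.mem_norm hT' w.2) c).2⟩ := Subtype.ext rfl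
      rw [e]
      exact hmul (hcr _) (hcomm w)
  set Y := ∑ w, a w • t w with hY
  have hYc : Commute (t x') Y := Commute.sum_right _ _ _ fun w _ => (hcomm w).smul_right _
  have hωY : ω Y = ∑ w, a w • t' w := by simp [hY, hωt]
  have hker : ∀ v : LinearMap.ker (ad (t x')), Commute (t x') (v : Matrix (Fin r) (Fin r) k) :=
    fun v => sub_eq_zero.1 (show ad (t x') v.1 = 0 from v.2)
  let π := ω.comp (LinearMap.ker (ad (t x'))).subtype
  have hπ : Function.Surjective π := by
    rw [← LinearMap.range_eq_top, eq_top_iff, ← hσ']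
    refine Submodule.span_le.2 ?_
    rintro _ ⟨c, rfl⟩
    refine ⟨⟨σ ⟨(c : G), hCC c.2⟩, ?_⟩, hrep c⟩
    show ad (t x') _ = 0
    rw [ad_apply, (hcr c).eq, sub_self]
  obtain ⟨z, hz⟩ := exists_pencil (commute_ad hYc) hp.out.two_le π hπ
    (fun v => ⟨fun h => mem_range_of_om_eq_zero hCC σ σ' φ hC hτ hτp hKk hCk hσ hσ' hφp hmm hlink
        (hker v) h, fun ⟨Z, hZ⟩ => by
        show ω (v : Matrix (Fin r) (Fin r) k) = 0
        rw [← hZ]
        exact om_ad_pow hCC σ σ' φ hC hτ hτp hKk hCk hσ hσ' hφp hmm hlink Z⟩)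
    (fun v hv => by
      have hc : Commute (t x') (ad (t x') v) := sub_eq_zero.1 hv
      exact mem_range_of_om_eq_zero hCC σ σ' φ hC hτ hτp hKk hCk hσ hσ' hφp hmm hlink hc
        (om_ad hCC σ σ' φ hC hτ hτp hKk hCk hσ hσ' hφp hmm hlink hc))
    (ad (∑ w, a w • t' w))
    (fun v w hvw => by
      show ω (w : Matrix (Fin r) (Fin r) k) = ad _ (ω (v : Matrix (Fin r) (Fin r) k))
      rw [hvw, ad_apply, ad_apply, map_sub, hmul hYc (hker v), hmul (hker v) hYc, hωY])
    (s * s) (by rw [hfinM]; exact ha)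
  refine ⟨fun w => (if w = x' then 1 else 0) + z * a w, ?_⟩
  have e : ad (∑ w, ((if w = x' then 1 else 0) + z * a w) • t w) = ad (t x') + z • ad Y := by
    rw [← ad_smul, ← ad_add]
    congr 1
    simp only [add_smul, Finset.sum_add_distrib, ite_smul, one_smul, zero_smul,
      Finset.sum_ite_eq', Finset.mem_univ, if_true, hY, Finset.smul_sum, smul_smul]
  rw [e]
  rw [hfinM] at hz
  exact hz

end CfsgLib.BlockA.AbelianIso
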