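import Mathlib.GroupTheory.Perm.Cycle.Type
import Mathlib.Algebra.CharP.Basic
import Mathlib.Algebra.Ring.Commute
import Mathlib.Data.Nat.Choose.Sum
import Mathlib.Data.Nat.Choose.Dvd
import Mathlib.Algebra.MvPolynomial.CommRing
import Mathlib.Algebra.Field.ZMod
import Mathlib.Data.Matrix.Basic

/-!
# Sums of invariant functions in characteristic `p`

An invariant function under a permutation of order dividing `p` sums to its fixed part, and is a
full orbit sum off the fixed points; `(x - y) ^ (p - 1) = ∑ x ^ i y ^ (p - 1 - i)`.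
-/

set_option autoImplicit false

namespace CfsgLib.BlockA.AbelianIso

variable {k : Type*} [CommRing k] (p : ℕ) [hp : Fact p.Prime] [CharP k p]

/-- An invariant function sums to its sum over the fixed points. -/
theorem sum_eq_sum_fixed {α : Type*} [Fintype α] [DecidableEq α] (σ : Equiv.Perm α)
    (hσ : σ ^ p = 1) (f : α → k) (hf : ∀ a, f (σ a) = f a) :
    ∑ a, f a = ∑ a ∈ Finset.univ.filter (fun a => σ a = a), f a := by
  classical
  rw [← Finset.sum_filter_add_sum_filter_not Finset.univ (fun a => σ a = a)]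
  refine add_eq_left.2 ?_
  set s := Finset.univ.filter (fun a => ¬ σ a = a) with hs
  rw [← Finset.sum_fiberwise_of_maps_to (g := f) (fun a ha => Finset.mem_image_of_mem f ha)]
  refine Finset.sum_eq_zero fun v _ => ?_
  rw [Finset.sum_congr rfl fun a ha => (Finset.mem_filter.1 ha).2, Finset.sum_const,
    nsmul_eq_mul]
  suffices h : p ∣ (s.filter fun a => f a = v).card by
    obtain ⟨c, hc⟩ := h
    rw [hc, Nat.cast_mul, CharP.cast_eq_zero k p, zero_mul, zero_mul]
  have hinv : ∀ a, f (σ a) = v ↔ f a = v := fun a => by rw [hf]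
  let τ : Equiv.Perm {a // f a = v} := σ.subtypePerm hinv
  have hτ : τ ^ p ^ 1 = 1 := by
    rw [pow_one]
    ext ⟨a, ha⟩
    show ((τ ^ p) ⟨a, ha⟩ : α) = a
    rw [Equiv.Perm.subtypePerm_pow]
    simp [hσ]
  have h := Equiv.Perm.card_compl_support_modEq hτ
  have h1 : τ.supportᶜ.card + τ.support.card = Fintype.card {a // f a = v} :=
    Finset.card_compl_add_card _
  have h2 : p ∣ τ.support.card := by
    rw [← h1] at h
    have := (Nat.modEq_iff_dvd' (Nat.le_add_right _ _)).1 h
    rwa [Nat.add_sub_cancel_left] at this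
  convert h2 using 1
  refine Finset.card_bij (fun a ha => ⟨a, (Finset.mem_filter.1 ha).2⟩) (fun a ha => ?_)
    (fun a _ b _ h => congrArg Subtype.val h) fun b hb => ⟨b.1, ?_, rfl⟩
  · rw [Equiv.Perm.mem_support]
    intro h
    exact (Finset.mem_filter.1 (Finset.mem_filter.1 ha).1).2 (congrArg Subtype.val h)
  · rw [Equiv.Perm.mem_support] at hb
    exact Finset.mem_filter.2 ⟨Finset.mem_filter.2 ⟨Finset.mem_univ _,
      fun h => hb (Subtype.ext h)⟩, b.2⟩

/-- `(x - y) ^ (p - 1) = ∑ x ^ i y ^ (p - 1 - i)` for commuting elements. -/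
theorem sub_pow_pred {R : Type*} [Ring R] [CharP R p] {x y : R} (h : Commute x y) :
    (x - y) ^ (p - 1) = ∑ i ∈ Finset.range p, x ^ i * y ^ (p - 1 - i) := by
  rcases subsingleton_or_nontrivial R with hR | hR
  · exact Subsingleton.elim _ _
  have hp1 : p - 1 + 1 = p := Nat.sub_add_cancel hp.out.one_le
  rw [sub_eq_add_neg, h.neg_right.add_pow, hp1]
  refine Finset.sum_congr rfl fun i hi => ?_
  have hi' : i ≤ p - 1 := Nat.le_sub_one_of_lt (Finset.mem_range.1 hi)
  have hkey : ((Nat.choose (p - 1) i : R)) * (-1) ^ (p - 1 - i) = 1 := by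
    have hZ : ((Nat.choose (p - 1) i : ℕ) : ZMod p) * (-1) ^ (p - 1 - i) = 1 := by
      have key : ∀ j, j ≤ p - 1 → ((Nat.choose (p - 1) j : ℕ) : ZMod p) = (-1) ^ j := by
        intro j
        induction j with
        | zero => simp
        | succ j ih =>
          intro hj
          have h0 : ((Nat.choose p (j + 1) : ℕ) : ZMod p) = 0 :=
            (ZMod.natCast_eq_zero_iff _ _).2 (hp.out.dvd_choose_self (Nat.succ_ne_zero j) (by omega))
          rw [show Nat.choose p (j + 1) = Nat.choose (p - 1) j + Nat.choose (p - 1) (j + 1) from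
            (congrArg (Nat.choose · (j + 1)) hp1.symm).trans (Nat.choose_succ_succ _ _),
            Nat.cast_add, ih (by omega)] at h0
          rw [pow_succ, mul_neg_one]
          exact eq_neg_of_add_eq_zero_right h0
      rw [key i hi', ← pow_add, Nat.add_sub_cancel' hi']
      rcases hp.out.eq_two_or_odd with h2 | h2
      · subst h2; rw [show (-1 : ZMod 2) = 1 from rfl, one_pow]
      · exact Even.neg_one_pow (Nat.even_iff.2 (by omega))
    have := congrArg (ZMod.castHom dvd_rfl R) hZ
    simpa using this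
  rw [neg_pow, mul_assoc, mul_assoc, ← Nat.cast_comm, ← mul_assoc ((-1 : R) ^ (p - 1 - i)),
    ((Nat.cast_commute _ _).symm).eq, hkey, one_mul]

end CfsgLib.BlockA.AbelianIso
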