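import Cfsg.Agent.Lib.BlockA.AbelianIso.Factor
import Mathlib.GroupTheory.PGroup

/-!
# From one step to the whole chain of correspondents

For an abelian `p`-group `P` acting on the `p'`-group `K`, the elements of `P` killed by `p ^ i`
give a chain of correspondents, each step of which has operators of exponent `p`. Equal factor sets
for each step give equal factor sets for the two ends.
-/

set_option autoImplicit false
set_option linter.unusedSectionVars false

namespace CfsgLib.BlockA.AbelianIso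

open Matrix
open scoped Classical

universe u v

variable {G : Type u} [Group G] [Finite G] {k : Type v} [Field k] {p : ℕ} [hp : Fact p.Prime]
  [CharP k p] [IsAlgClosed k]

/-- The statement of one step of the chain. -/
def StepFactor (G : Type u) [Group G] (k : Type v) [Field k] (p : ℕ) : Prop :=
  ∀ (D : Ops G k p) {s : ℕ}, D.n ≠ 0 → s ≠ 0 →
    ∀ σ₀ : (D.K ⊓ Subgroup.centralizer (D.S : Set G) : Subgroup G) →* Matrix (Fin s) (Fin s) k,
    Spans σ₀ → Linked D.ρ σ₀ → ∀ H : Subgroup G, H ≤ Subgroup.normalizer (D.K : Set G) →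
    H ≤ Subgroup.normalizer (D.S : Set G) →
    D.K ⊓ H ≤ D.K ⊓ Subgroup.centralizer (D.S : Set G) →
    ∀ A : H → Matrix (Fin D.n) (Fin D.n) k, Implements H D.ρ A →
    ∀ B : H → Matrix (Fin s) (Fin s) k, Implements H σ₀ B →
    ∃ f : H → k, (∀ h, f h ≠ 0) ∧
      (∀ h h' : H, (h' : G) * (h : G)⁻¹ ∈ D.K → f h = f h') ∧ SameFactor A (fun h => f h • B h)

/-- The elements of an abelian subgroup killed by `m`. -/
def torsPart (P : Subgroup G) (hab : ∀ x ∈ P, ∀ y ∈ P, x * y = y * x) (m : ℕ) : Subgroup G where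
  carrier := {x | x ∈ P ∧ x ^ m = 1}
  mul_mem' := fun {a b} ha hb =>
    ⟨mul_mem ha.1 hb.1, by rw [(show Commute a b from hab a ha.1 b hb.1).mul_pow, ha.2, hb.2, one_mul]⟩
  one_mem' := ⟨one_mem P, one_pow m⟩
  inv_mem' := fun {a} ha => ⟨inv_mem ha.1, by rw [inv_pow, ha.2, inv_one]⟩

theorem mem_torsPart {P : Subgroup G} {hab : ∀ x ∈ P, ∀ y ∈ P, x * y = y * x} {m : ℕ} {x : G} :
    x ∈ torsPart P hab m ↔ x ∈ P ∧ x ^ m = 1 :=
  Iff.rfl

theorem normalizer_le_torsPart (P : Subgroup G) (hab : ∀ x ∈ P, ∀ y ∈ P, x * y = y * x) (m : ℕ) :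
    Subgroup.normalizer (P : Set G) ≤ Subgroup.normalizer (torsPart P hab m : Set G) := by
  intro g hg
  rw [Subgroup.mem_normalizer_iff] at hg ⊢
  intro x
  rw [mem_torsPart, mem_torsPart, ← hg x, conj_pow]
  refine and_congr_right fun _ => ?_
  constructor
  · intro h; rw [h, mul_one, mul_inv_cancel]
  · intro h
    rwa [mul_inv_eq_one, mul_eq_left] at h

/-- A normal `p'`-subgroup meets the normalizer of a `p`-group in its centralizer. -/
theorem inf_normalizer_le_centralizer (K P : Subgroup G) [K.Normal] (hKp : ¬ p ∣ Nat.card K)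
    (hP : IsPGroup p P) :
    K ⊓ Subgroup.normalizer (P : Set G) ≤ Subgroup.centralizer (P : Set G) := by
  have hbot : K ⊓ P = ⊥ := by
    refine (Subgroup.disjoint_of_coprime_natCard ?_).eq_bot
    obtain ⟨a, ha⟩ := IsPGroup.iff_card.1 hP
    rw [ha]
    exact Nat.Coprime.pow_right _ ((Nat.Prime.coprime_iff_not_dvd hp.out).2 hKp).symm
  intro x hx
  rw [Subgroup.mem_centralizer_iff]
  intro y hy
  have h1 : y * x * y⁻¹ * x⁻¹ ∈ K ⊓ P := by
    refine Subgroup.mem_inf.2 ⟨mul_mem (Subgroup.Normal.conj_mem ‹K.Normal› x hx.1 y)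
      (inv_mem hx.1), ?_⟩
    rw [show y * x * y⁻¹ * x⁻¹ = y * (x * y⁻¹ * x⁻¹) by group]
    exact mul_mem hy ((Subgroup.mem_normalizer_iff.1 hx.2 y⁻¹).1 (inv_mem hy))
  rw [hbot, Subgroup.mem_bot] at h1
  exact mul_inv_eq_iff_eq_mul.1 (mul_inv_eq_one.1 h1)

/-- The fixed points in a normal subgroup are normalized by the normalizer of the operators. -/
theorem normalizer_le_inf_centralizer (K U : Subgroup G) [K.Normal] :
    Subgroup.normalizer (U : Set G) ≤
      Subgroup.normalizer ((K ⊓ Subgroup.centralizer (U : Set G) : Subgroup G) : Set G) := by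
  intro g hg
  have hU := Subgroup.mem_normalizer_iff.1 hg
  rw [Subgroup.mem_normalizer_iff]
  intro x
  refine and_congr ⟨fun h => Subgroup.Normal.conj_mem ‹K.Normal› x h g, fun h => by
    simpa [mul_assoc] using Subgroup.Normal.conj_mem ‹K.Normal› _ h g⁻¹⟩ ?_
  simp only [SetLike.mem_coe]
  constructor
  · intro h u hu
    have h1 := h (g⁻¹ * u * g) ((hU _).2 (by simpa [mul_assoc] using hu))
    calc u * (g * x * g⁻¹) = g * (g⁻¹ * u * g * x) * g⁻¹ := by group
      _ = g * x * g⁻¹ * u := by rw [h1]; group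
  · intro h u hu
    have h1 := h (g * u * g⁻¹) ((hU u).1 hu)
    calc u * x = g⁻¹ * (g * u * g⁻¹ * (g * x * g⁻¹)) * g := by group
      _ = x * u := by rw [h1]; group

/-- Representations linked to `ρ` are linked to each other. -/
theorem Linked.of_linked {K C C' : Subgroup G} {n r s : ℕ} {ρ : K →* Matrix (Fin n) (Fin n) k}
    {τ : C →* Matrix (Fin r) (Fin r) k} {τ' : C' →* Matrix (Fin s) (Fin s) k} (hCK : C ≤ K)
    (hl : Linked ρ τ) (hl' : Linked ρ τ') : Linked τ τ' := by
  obtain ⟨m, hm, h⟩ := hl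
  obtain ⟨m', hm', h'⟩ := hl'
  refine ⟨m⁻¹ * m', mul_ne_zero (inv_ne_zero hm) hm', fun y x e => ?_⟩
  refine mul_left_cancel₀ hm ?_
  rw [← mul_assoc, ← mul_assoc, mul_inv_cancel₀ hm, one_mul, ← h x ⟨(x : G), hCK x.2⟩ rfl]
  exact h' y ⟨(x : G), hCK x.2⟩ e

/-- A linked representation inherits the invariance of the traces. -/
theorem Linked.trace_conj {K C : Subgroup G} {n r : ℕ} {ρ : K →* Matrix (Fin n) (Fin n) k}
    {τ : C →* Matrix (Fin r) (Fin r) k} (hCK : C ≤ K) (hl : Linked ρ τ)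
    (hinv : ∀ g : G, ∀ (a b : K), (b : G) = g * a * g⁻¹ → (ρ b).trace = (ρ a).trace)
    (g : G) (a b : C) (e : (b : G) = g * a * g⁻¹) : (τ b).trace = (τ a).trace := by
  obtain ⟨m, hm, h⟩ := hl
  refine mul_left_cancel₀ hm ?_
  rw [← h a ⟨(a : G), hCK a.2⟩ rfl, ← h b ⟨(b : G), hCK b.2⟩ rfl]
  exact hinv g _ _ e

/-- Invariant spanning representations have implementers. -/
theorem exists_implementing {C : Subgroup G} {r : ℕ} [NeZero r]
    {τ : C →* Matrix (Fin r) (Fin r) k} (hτ : Spans τ) (hC : ¬ p ∣ Nat.card C) (H : Subgroup G)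
    (hnorm : H ≤ Subgroup.normalizer (C : Set G))
    (hinv : ∀ g : G, ∀ a b : C, (b : G) = g * a * g⁻¹ → (τ b).trace = (τ a).trace) :
    ∃ A : H → Matrix (Fin r) (Fin r) k, Implements H τ A := by
  have := Fintype.ofFinite C
  have hCk : (Fintype.card C : k) ≠ 0 := by
    rw [Ne, CharP.cast_eq_zero_iff k p, ← Nat.card_eq_fintype_card]; exact hC
  have hex : ∀ h : H, ∃ A : Matrix (Fin r) (Fin r) k, IsUnit A ∧
      ∀ x x' : C, (x' : G) = h * x * (h : G)⁻¹ → A * τ x = τ x' * A := by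
    intro h
    obtain ⟨A, hA, hAc⟩ := hτ.exists_implementer hCk (conjOn C (h : G) (hnorm h.2)) fun x =>
      hinv h x _ (conjOn_apply _ _ _ _)
    exact ⟨A, hA, fun x x' e => by
      rw [hAc, show conjOn C (h : G) (hnorm h.2) x = x' from
        Subtype.ext ((conjOn_apply _ _ _ _).trans e.symm)]⟩
  choose A₀ hu hA₀c using hex
  let D : Subgroup H := C.subgroupOf H
  let q : H → H := fun h => (Quotient.mk (QuotientGroup.rightRel D) h).out
  have hq : ∀ h, h * (q h)⁻¹ ∈ D := fun h => QuotientGroup.rightRel_apply.1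
    (Quotient.exact (Quotient.out_eq (Quotient.mk (QuotientGroup.rightRel D) h)))
  have hq' : ∀ (h h' : H), h' * h⁻¹ ∈ D → q h' = q h := fun h h' e => congrArg Quotient.out
    ((Quotient.sound (QuotientGroup.rightRel_apply.2 e)).symm)
  let x₀ : H → C := fun h => ⟨((h * (q h)⁻¹ : H) : G), hq h⟩
  refine ⟨fun h => τ (x₀ h) * A₀ (q h), fun h => (isUnit_rep τ _).mul (hu _),
    fun h x x' e => ?_, fun h h' x e => ?_⟩
  · show τ (x₀ h) * A₀ (q h) * τ x = τ x' * (τ (x₀ h) * A₀ (q h))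
    rw [mul_assoc, hA₀c (q h) x ⟨((q h : H) : G) * x * ((q h : H) : G)⁻¹,
      (Subgroup.mem_normalizer_iff.1 (hnorm (q h).2) x).1 x.2⟩ rfl,
      ← mul_assoc, ← map_mul, ← mul_assoc, ← map_mul]
    congr 2
    exact Subtype.ext (by simp [x₀, e, mul_assoc])
  · have hx : h' * h⁻¹ ∈ D := by
      show ((h' * h⁻¹ : H) : G) ∈ C
      rw [Subgroup.coe_mul, Subgroup.coe_inv, e, mul_inv_cancel_right]
      exact x.2
    show τ (x₀ h') * A₀ (q h') = τ x * (τ (x₀ h) * A₀ (q h))
    rw [hq' h h' hx, ← mul_assoc, ← map_mul]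
    congr 2
    exact Subtype.ext (by simp [x₀, hq' h h' hx, e, mul_assoc])

theorem eq_of_smul_unit {r : ℕ} [NeZero r] {a b : k} {X : Matrix (Fin r) (Fin r) k} (hX : IsUnit X)
    (h : a • X = b • X) : a = b := by
  obtain ⟨u, rfl⟩ := hX
  refine sub_eq_zero.1 (eq_zero_of_smul_one (n := r) ?_)
  rw [sub_smul, sub_eq_zero, ← Units.mul_inv u, ← smul_mul_assoc, ← smul_mul_assoc, h]

/-- Equalities of factor sets compose. -/
theorem SameFactor.comp {H : Subgroup G} {n r s : ℕ} [NeZero r]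
    {A : H → Matrix (Fin n) (Fin n) k} {A' : H → Matrix (Fin r) (Fin r) k}
    {B : H → Matrix (Fin s) (Fin s) k} (hA' : ∀ h, IsUnit (A' h)) {f g : H → k}
    (h1 : SameFactor A (fun h => f h • A' h)) (h2 : SameFactor A' (fun h => g h • B h)) :
    SameFactor A (fun h => (f h * g h) • B h) := by
  intro h h'
  obtain ⟨c, hc, hc'⟩ := h1 h h'
  obtain ⟨e, he, he'⟩ := h2 h h'
  refine ⟨c, hc, ?_⟩
  beta_reduce at hc' he' ⊢
  rw [smul_mul_smul_comm, he, smul_smul, smul_smul] at hc'
  have key := eq_of_smul_unit (hA' _) hc'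
  rw [smul_mul_smul_comm, smul_smul] at he' ⊢
  calc (f h * g h * (f h' * g h')) • (B h * B h')
      = (f h * f h') • ((g h * g h') • (B h * B h')) := by rw [smul_smul]; congr 1; ring
    _ = (f h * f h' * e * g (h * h')) • B (h * h') := by rw [he', smul_smul, ← mul_assoc]
    _ = (c * (f (h * h') * g (h * h'))) • B (h * h') := by rw [key, mul_assoc]

/-- One step, between the centralizers of `U ≤ S`. -/
theorem factor_step (hstep : StepFactor G k p) (K P : Subgroup G) [K.Normal]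
    (hKp : ¬ p ∣ Nat.card K) (hP : IsPGroup p P) (hab : ∀ x ∈ P, ∀ y ∈ P, x * y = y * x) {n : ℕ}
    {ρ : K →* Matrix (Fin n) (Fin n) k}
    (hinv : ∀ g : G, ∀ (a b : K), (b : G) = g * a * g⁻¹ → (ρ b).trace = (ρ a).trace)
    (hinter : ∀ T ≤ P, ∃ (r : ℕ)
      (τ : (K ⊓ Subgroup.centralizer (T : Set G) : Subgroup G) →* Matrix (Fin r) (Fin r) k),
      r ≠ 0 ∧ Spans τ ∧ Linked ρ τ)
    {U S : Subgroup G} (hUS : U ≤ S) (hSP : S ≤ P)
    (hHU : Subgroup.normalizer (P : Set G) ≤ Subgroup.normalizer (U : Set G))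
    (hHS : Subgroup.normalizer (P : Set G) ≤ Subgroup.normalizer (S : Set G))
    (hexp : ∀ x ∈ S, x ^ p ∈ U)
    {C : Subgroup G} (hC : C = K ⊓ Subgroup.centralizer (U : Set G)) {r : ℕ} (hr : r ≠ 0)
    {τ : C →* Matrix (Fin r) (Fin r) k} (hτ : Spans τ) (hl : Linked ρ τ)
    {A : Subgroup.normalizer (P : Set G) → Matrix (Fin r) (Fin r) k}
    (hA : Implements (Subgroup.normalizer (P : Set G)) τ A)
    {C' : Subgroup G} (hC' : C' = K ⊓ Subgroup.centralizer (S : Set G)) {s : ℕ} (hs : s ≠ 0)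
    {σ : C' →* Matrix (Fin s) (Fin s) k} (hσ : Spans σ) (hl' : Linked ρ σ)
    {B : Subgroup.normalizer (P : Set G) → Matrix (Fin s) (Fin s) k}
    (hB : Implements (Subgroup.normalizer (P : Set G)) σ B) :
    ∃ f : Subgroup.normalizer (P : Set G) → k, (∀ h, f h ≠ 0) ∧
      (∀ h h' : Subgroup.normalizer (P : Set G), (h' : G) * (h : G)⁻¹ ∈ K → f h = f h') ∧
      SameFactor A (fun h => f h • B h) := by
  have hCK : C ≤ K := hC ▸ inf_le_left
  have hHC : Subgroup.normalizer (P : Set G) ≤ Subgroup.normalizer (C : Set G) :=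
    hC ▸ hHU.trans (normalizer_le_inf_centralizer K U)
  have hCC : C' = C ⊓ Subgroup.centralizer (S : Set G) := by
    rw [hC', hC, inf_assoc]
    congr 1
    exact (inf_eq_right.2 (Subgroup.centralizer_le (SetLike.coe_subset_coe.2 hUS))).symm
  subst hCC
  let D : Ops G k p :=
    { K := C
      S := S
      n := r
      ρ := τ
      spans := hτ
      ndiv := fun h => hKp (h.trans (Subgroup.card_dvd_of_le hCK))
      comm := fun x hx y hy => hab x (hSP hx) y (hSP hy)
      norm := (hSP.trans Subgroup.le_normalizer).trans hHC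
      exp := fun x hx a ha => by
        rw [hC] at ha
        exact Subgroup.mem_centralizer_iff.1 ha.2 _ (hexp x hx)
      inv := fun x _ a b e => hl.trace_conj hCK hinv x a b e
      inter := fun T hT => by
        have heq : C ⊓ Subgroup.centralizer (T : Set G) =
            K ⊓ Subgroup.centralizer ((U ⊔ T : Subgroup G) : Set G) := by
          rw [hC, inf_assoc]
          congr 1
          refine le_antisymm (fun x hx => ?_) (le_inf (Subgroup.centralizer_le
            (SetLike.coe_subset_coe.2 le_sup_left)) (Subgroup.centralizer_le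
            (SetLike.coe_subset_coe.2 le_sup_right)))
          have hle : U ⊔ T ≤ Subgroup.centralizer ({x} : Set G) := sup_le
            (fun u hu => Subgroup.mem_centralizer_singleton_iff.2
              (Subgroup.mem_centralizer_iff.1 hx.1 u hu))
            (fun u hu => Subgroup.mem_centralizer_singleton_iff.2
              (Subgroup.mem_centralizer_iff.1 hx.2 u hu))
          exact Subgroup.mem_centralizer_iff.2 fun u hu =>
            Subgroup.mem_centralizer_singleton_iff.1 (hle hu)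
        rw [heq]
        obtain ⟨r', τ', hr', hτ', hl''⟩ := hinter _ (sup_le (hUS.trans hSP) (hT.trans hSP))
        exact ⟨r', τ', hr', hτ', hl.of_linked hCK hl''⟩ }
  have hKH : C ⊓ Subgroup.normalizer (P : Set G) ≤ C ⊓ Subgroup.centralizer (S : Set G) :=
    fun x hx => ⟨hx.1, Subgroup.centralizer_le (SetLike.coe_subset_coe.2 hSP)
      (inf_normalizer_le_centralizer K P hKp hP ⟨hCK hx.1, hx.2⟩)⟩
  obtain ⟨f, hf, hfc, hsame⟩ := hstep D hr hs σ hσ (hl.of_linked hCK hl')
    (Subgroup.normalizer (P : Set G)) hHC hHS hKH A hA B hB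
  refine ⟨f, hf, fun h h' e => hfc h h' ?_, hsame⟩
  show (h' : G) * (h : G)⁻¹ ∈ C
  rw [hC]
  exact ⟨e, Subgroup.centralizer_le (SetLike.coe_subset_coe.2 (hUS.trans hSP))
    (inf_normalizer_le_centralizer K P hKp hP ⟨e, (Subgroup.normalizer (P : Set G)).mul_mem h'.2
      ((Subgroup.normalizer (P : Set G)).inv_mem h.2)⟩)⟩

/-- **Equal factor sets for `ρ` and its correspondent, from the steps.** -/
theorem exists_factor_abelian_of_step (hstep : StepFactor G k p) (K P : Subgroup G) [K.Normal]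
    (hKp : ¬ p ∣ Nat.card K) (hP : IsPGroup p P) (hab : ∀ x ∈ P, ∀ y ∈ P, x * y = y * x)
    {n s : ℕ} (hn : n ≠ 0) (hs : s ≠ 0) (ρ : K →* Matrix (Fin n) (Fin n) k)
    (σ : (K ⊓ Subgroup.normalizer (P : Set G) : Subgroup G) →* Matrix (Fin s) (Fin s) k)
    (hρ : Spans ρ) (hσ : Spans σ) (hl : Linked ρ σ)
    (hinv : ∀ g : G, ∀ (a b : K), (b : G) = g * a * g⁻¹ → (ρ b).trace = (ρ a).trace)
    (hinter : ∀ T ≤ P, ∃ (r : ℕ)
      (τ : (K ⊓ Subgroup.centralizer (T : Set G) : Subgroup G) →* Matrix (Fin r) (Fin r) k),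
      r ≠ 0 ∧ Spans τ ∧ Linked ρ τ)
    (A : Subgroup.normalizer (P : Set G) → Matrix (Fin n) (Fin n) k)
    (hA : Implements (Subgroup.normalizer (P : Set G)) ρ A)
    (B : Subgroup.normalizer (P : Set G) → Matrix (Fin s) (Fin s) k)
    (hB : Implements (Subgroup.normalizer (P : Set G)) σ B) :
    ∃ f : Subgroup.normalizer (P : Set G) → k, (∀ h, f h ≠ 0) ∧
      (∀ h h' : Subgroup.normalizer (P : Set G), (h' : G) * (h : G)⁻¹ ∈ K → f h = f h') ∧
      SameFactor A (fun h => f h • B h) := by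
  have hnorm := normalizer_le_torsPart P hab
  have main : ∀ (i : ℕ) (C : Subgroup G),
      C = K ⊓ Subgroup.centralizer (torsPart P hab (p ^ i) : Set G) →
      ∀ (r : ℕ) (τ : C →* Matrix (Fin r) (Fin r) k), r ≠ 0 → Spans τ → Linked ρ τ →
      ∀ A' : Subgroup.normalizer (P : Set G) → Matrix (Fin r) (Fin r) k,
        Implements (Subgroup.normalizer (P : Set G)) τ A' →
      ∃ f : Subgroup.normalizer (P : Set G) → k, (∀ h, f h ≠ 0) ∧
        (∀ h h' : Subgroup.normalizer (P : Set G), (h' : G) * (h : G)⁻¹ ∈ K → f h = f h') ∧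
        SameFactor A (fun h => f h • A' h) := by
    intro i
    induction i with
    | zero =>
      intro C hC r τ hr hτ hlτ A' hA'
      refine factor_step hstep K P hKp hP hab hinv hinter (U := ⊥)
        (bot_le : ⊥ ≤ torsPart P hab (p ^ 0)) (fun x hx => hx.1) ?_ (hnorm _) (fun x hx => ?_)
        (C := K) ?_ hn hρ ⟨1, one_ne_zero, fun y x e => by
          rw [one_mul, Subtype.ext e]⟩ hA hC hr hτ hlτ hA'
      · intro g _
        rw [Subgroup.mem_normalizer_iff]
        intro x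
        simp
      · rw [Subgroup.mem_bot]
        obtain ⟨-, hx⟩ := hx
        rw [pow_zero, pow_one] at hx
        rw [hx, one_pow]
      · refine le_antisymm (le_inf le_rfl fun x _ => Subgroup.mem_centralizer_iff.2 ?_) inf_le_left
        intro u hu
        rw [Subgroup.mem_bot.1 hu, one_mul, mul_one]
    | succ i ih =>
      intro C hC r τ hr hτ hlτ A' hA'
      obtain ⟨r₁, τ₁, hr₁, hτ₁, hl₁⟩ := hinter (torsPart P hab (p ^ i)) fun x hx => hx.1
      have : NeZero r₁ := ⟨hr₁⟩
      obtain ⟨A₁, hA₁⟩ := exists_implementing (p := p) hτ₁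
        (fun h => hKp (h.trans (Subgroup.card_dvd_of_le inf_le_left)))
        (Subgroup.normalizer (P : Set G)) ((hnorm _).trans (normalizer_le_inf_centralizer K _))
        (fun g a b e => hl₁.trace_conj inf_le_left hinv g a b e)
      obtain ⟨f, hf, hfc, hfs⟩ := ih _ rfl r₁ τ₁ hr₁ hτ₁ hl₁ A₁ hA₁
      obtain ⟨g, hg, hgc, hgs⟩ := factor_step hstep K P hKp hP hab hinv hinter
        (U := torsPart P hab (p ^ i)) (S := torsPart P hab (p ^ (i + 1)))
        (fun x hx => ⟨hx.1, by rw [pow_succ, pow_mul, hx.2, one_pow]⟩) (fun x hx => hx.1)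
        (hnorm _) (hnorm _)
        (fun x hx => ⟨pow_mem hx.1 p, by rw [← pow_mul, ← pow_succ']; exact hx.2⟩)
        rfl hr₁ hτ₁ hl₁ hA₁ hC hr hτ hlτ hA'
      exact ⟨fun h => f h * g h, fun h => mul_ne_zero (hf h) (hg h),
        fun h h' e => by beta_reduce; rw [hfc h h' e, hgc h h' e], hfs.comp hA₁.1 hgs⟩
  obtain ⟨a, ha⟩ := IsPGroup.iff_card.1 hP
  have htop : torsPart P hab (p ^ a) = P := by
    refine le_antisymm (fun x hx => hx.1) fun x hx => ⟨hx, ?_⟩
    have h := congrArg Subtype.val (pow_card_eq_one' (x := (⟨x, hx⟩ : P)))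
    rw [ha] at h
    simpa using h
  refine main a (K ⊓ Subgroup.normalizer (P : Set G)) ?_ s σ hs hσ hl B hB
  rw [htop]
  exact le_antisymm (le_inf inf_le_left (inf_normalizer_le_centralizer K P hKp hP))
    (inf_le_inf_left _ (Subgroup.centralizer_le_normalizer _))

/-- **Equal factor sets for `ρ` and its correspondent.** -/
theorem exists_factor_abelian (K P : Subgroup G) [K.Normal]
    (hKp : ¬ p ∣ Nat.card K) (hP : IsPGroup p P) (hab : ∀ x ∈ P, ∀ y ∈ P, x * y = y * x)
    {n s : ℕ} (hn : n ≠ 0) (hs : s ≠ 0) (ρ : K →* Matrix (Fin n) (Fin n) k)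
    (σ : (K ⊓ Subgroup.normalizer (P : Set G) : Subgroup G) →* Matrix (Fin s) (Fin s) k)
    (hρ : Spans ρ) (hσ : Spans σ) (hl : Linked ρ σ)
    (hinv : ∀ g : G, ∀ (a b : K), (b : G) = g * a * g⁻¹ → (ρ b).trace = (ρ a).trace)
    (hinter : ∀ T ≤ P, ∃ (r : ℕ)
      (τ : (K ⊓ Subgroup.centralizer (T : Set G) : Subgroup G) →* Matrix (Fin r) (Fin r) k),
      r ≠ 0 ∧ Spans τ ∧ Linked ρ τ)
    (A : Subgroup.normalizer (P : Set G) → Matrix (Fin n) (Fin n) k)
    (hA : Implements (Subgroup.normalizer (P : Set G)) ρ A)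
    (B : Subgroup.normalizer (P : Set G) → Matrix (Fin s) (Fin s) k)
    (hB : Implements (Subgroup.normalizer (P : Set G)) σ B) :
    ∃ f : Subgroup.normalizer (P : Set G) → k, (∀ h, f h ≠ 0) ∧
      (∀ h h' : Subgroup.normalizer (P : Set G), (h' : G) * (h : G)⁻¹ ∈ K → f h = f h') ∧
      SameFactor A (fun h => f h • B h) :=
  exists_factor_abelian_of_step (fun D {_} => D.exists_factor) K P hKp hP hab hn hs ρ σ hρ hσ hl
    hinv hinter A hA B hB

end CfsgLib.BlockA.AbelianIso
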