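import Cfsg.Prelude.Def_Blocks
import Cfsg.Prelude.Def_Characters
import Mathlib.LinearAlgebra.Matrix.Trace
import Mathlib.LinearAlgebra.Matrix.NonsingularInverse

/-!
# Abelian defect groups of `p`-solvable groups: the vocabulary

Implementers of the action of `H` on an invariant representation of `K`, equality of their factor
sets, and the datum (`HasTwist`) that carries the characters over `β` to those over `θ`.
-/

set_option autoImplicit false

namespace CfsgLib.BlockA.AbelianIso

open Cfsg

universe u v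

variable {G : Type u} [Group G]

/-- The irreducible characters lying over `θ`. -/
def Over (K : Subgroup G) [Fintype K] (θ : K → ℂ) : Set (IrrCharacter G) :=
  {χ | classInner (fun x : K => (χ : G → ℂ) x) θ ≠ 0}

variable {k : Type v} [Field k] {n s : ℕ}

/-- An absolutely irreducible matrix representation: the images span all matrices. -/
def Spans {K : Subgroup G} (ρ : K →* Matrix (Fin n) (Fin n) k) : Prop :=
  Submodule.span k (Set.range ρ) = ⊤

/-- Invertible matrices `A h` implementing the conjugation by `h ∈ H` on `ρ`, compatible with `ρ`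
on `K ⊓ H`. -/
def Implements {K : Subgroup G} (H : Subgroup G) (ρ : K →* Matrix (Fin n) (Fin n) k)
    (A : H → Matrix (Fin n) (Fin n) k) : Prop :=
  (∀ h, IsUnit (A h)) ∧
    (∀ (h : H) (x x' : K), (x' : G) = h * x * (h : G)⁻¹ → A h * ρ x = ρ x' * A h) ∧
    ∀ (h h' : H) (x : K), (h' : G) = (x : G) * h → A h' = ρ x * A h

/-- Two families of matrices on `H` have one factor set. -/
def SameFactor {H : Subgroup G} (A : H → Matrix (Fin n) (Fin n) k)
    (B : H → Matrix (Fin s) (Fin s) k) : Prop :=
  ∀ h h' : H, ∃ c : k, A h * A h' = c • A (h * h') ∧ B h * B h' = c • B (h * h')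

/-- `θ` and `β` are afforded by representations whose implementers on `H` share a factor set. -/
def HasTwist (K H : Subgroup G) (θ : K → ℂ) (β : K.subgroupOf H → ℂ) : Prop :=
  ∃ (n s : ℕ) (ρ : K →* Matrix (Fin n) (Fin n) ℂ)
    (σ : (K ⊓ H : Subgroup G) →* Matrix (Fin s) (Fin s) ℂ)
    (A : H → Matrix (Fin n) (Fin n) ℂ) (B : H → Matrix (Fin s) (Fin s) ℂ),
    Spans ρ ∧ Spans σ ∧ (∀ x, θ x = (ρ x).trace) ∧
      (∀ (x : K.subgroupOf H) (y : (K ⊓ H : Subgroup G)), (y : G) = ((x : H) : G) →
        β x = (σ y).trace) ∧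
      Implements H ρ A ∧ Implements H σ B ∧ SameFactor A B

/-- `β` is the correspondent of `θ` read modulo `M`: the restriction of `θ` is congruent to a
multiple of `β` prime to `p`. -/
def IsCorrespondent (p : ℕ) (M : Ideal AlgInt) (K H : Subgroup G) (θ : K → ℂ)
    (β : K.subgroupOf H → ℂ) : Prop :=
  ∃ m : ℕ, ¬ p ∣ m ∧ ∀ x : K.subgroupOf H,
    MemLocalIdeal M (θ ⟨((x : H) : G), x.2⟩ - (m : ℂ) * β x)

/-- The modular form of the linking of `ρ` and `σ`: traces proportional on the smaller group. -/
def Linked {K C : Subgroup G} (ρ : K →* Matrix (Fin n) (Fin n) k)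
    (σ : C →* Matrix (Fin s) (Fin s) k) : Prop :=
  ∃ m : k, m ≠ 0 ∧ ∀ (y : C) (x : K), (x : G) = y → (ρ x).trace = m * (σ y).trace

end CfsgLib.BlockA.AbelianIso
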