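import Mathlib.RingTheory.UniqueFactorizationDomain.Basic
import Mathlib.RingTheory.Localization.FractionRing
import Mathlib.Algebra.BigOperators.Finsupp.Basic
import Mathlib.Data.Finsupp.Basic
import Mathlib.Data.Finsupp.SMul

/-!
# Constants split by a rational function split by constants

If a finite group acts on a factorial domain fixing the units, a factor set of units which becomes a
coboundary in the fraction field is already a coboundary of units: the divisors form a permutation
lattice.
-/

set_option autoImplicit false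

namespace CfsgLib.BlockA.AbelianIso

open UniqueFactorizationMonoid

variable {R : Type*} [CommRing R] [IsDomain R] [UniqueFactorizationMonoid R]

/-- The divisor of an element. -/
noncomputable def dvs (r : R) : Associates R →₀ ℤ :=
  (((factors r).map Associates.mk).map fun π => Finsupp.single π (1 : ℤ)).sum

theorem dvs_mul {a b : R} (ha : a ≠ 0) (hb : b ≠ 0) : dvs (a * b) = dvs a + dvs b := by
  have h : (factors (a * b)).map Associates.mk = (factors a + factors b).map Associates.mk :=
    Multiset.map_mk_eq_map_mk_of_rel (UniqueFactorizationMonoid.factors_mul ha hb)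
  unfold dvs
  rw [h, Multiset.map_add, Multiset.map_add, Multiset.sum_add]

theorem dvs_irreducible {a : R} (ha : Irreducible a) :
    dvs a = Finsupp.single (Associates.mk a) 1 := by
  have h : Multiset.Rel Associated (factors a) {a} :=
    factors_unique (fun x hx => irreducible_of_factor x hx)
      (fun x hx => by rw [Multiset.mem_singleton.1 hx]; exact ha)
      (by rw [Multiset.prod_singleton]; exact factors_prod ha.ne_zero)
  have h' : (factors a).map Associates.mk = ({a} : Multiset R).map Associates.mk :=
    Multiset.map_mk_eq_map_mk_of_rel h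
  unfold dvs
  rw [h', Multiset.map_singleton, Multiset.map_singleton,
    Multiset.sum_singleton]

theorem irreducible_out_of_dvs_ne_zero (r : R) (π : Associates R)
    (hπ : dvs r π ≠ 0) : Irreducible (Quotient.out π) := by
  have hmem : π ∈ (factors r).map Associates.mk := by
    by_contra hne
    apply hπ
    unfold dvs
    generalize (factors r).map Associates.mk = m at hne ⊢
    induction m using Multiset.induction with
    | empty => simp
    | cons a s ih =>
      rw [Multiset.mem_cons, not_or] at hne
      rw [Multiset.map_cons, Multiset.sum_cons, Finsupp.add_apply,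
        Finsupp.single_eq_of_ne hne.1, zero_add]
      exact ih hne.2
  obtain ⟨x, hx, rfl⟩ := Multiset.mem_map.1 hmem
  have h1 : Associated x (Quotient.out (Associates.mk x)) :=
    (Associates.mk_eq_mk_iff_associated.1 (Quotient.out_eq (Associates.mk x))).symm
  exact h1.irreducible (irreducible_of_factor x hx)

theorem associated_of_dvs_eq {a b : R} (ha : a ≠ 0) (hb : b ≠ 0) (h : dvs a = dvs b) :
    Associated a b := by
  classical
  have key : ∀ r : R, ∀ π, dvs r π = (((factors r).map Associates.mk).count π : ℤ) := by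
    intro r π
    unfold dvs
    induction (factors r).map Associates.mk using Multiset.induction with
    | empty => simp
    | cons a s ih =>
      rw [Multiset.map_cons, Multiset.sum_cons, Finsupp.add_apply, ih, Multiset.count_cons,
        Finsupp.single_apply]
      by_cases hh : π = a
      · subst hh; push_cast; simp; ring
      · rw [if_neg (Ne.symm hh), if_neg hh]; simp
  have h2 : (factors a).map Associates.mk = (factors b).map Associates.mk := by
    refine Multiset.ext.2 fun π => ?_
    have := key a π
    rw [h, key b π] at this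
    exact_mod_cast this.symm
  rw [← Associates.mk_eq_mk_iff_associated,
    ← Associates.mk_eq_mk_iff_associated.2 (factors_prod ha),
    ← Associates.mk_eq_mk_iff_associated.2 (factors_prod hb), ← Associates.prod_mk,
    ← Associates.prod_mk, h2]

theorem map_mk_ringEquiv (g : R ≃+* R) {a b : R} (h : Associates.mk a = Associates.mk b) :
    Associates.mk (g a) = Associates.mk (g b) :=
  Associates.mk_eq_mk_iff_associated.2
    ((Associates.mk_eq_mk_iff_associated.1 h).map g.toMonoidHom)

/-- The permutation of the divisor classes. -/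
noncomputable def amap (g : R ≃+* R) (π : Associates R) : Associates R :=
  Associates.mk (g (Quotient.out π))

theorem amap_mk (g : R ≃+* R) (a : R) : amap g (Associates.mk a) = Associates.mk (g a) :=
  map_mk_ringEquiv g (Quotient.out_eq (Associates.mk a))

theorem amap_symm (g : R ≃+* R) (π : Associates R) : amap g.symm (amap g π) = π := by
  obtain ⟨a, rfl⟩ := Associates.mk_surjective π
  rw [amap_mk, amap_mk, RingEquiv.symm_apply_apply]

theorem amap_injective (g : R ≃+* R) : Function.Injective (amap g) := fun a b h => by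
  rw [← amap_symm g a, h, amap_symm]

theorem dvs_map (g : R ≃+* R) {a : R} (ha : a ≠ 0) :
    dvs (g a) = Finsupp.mapDomain (amap g) (dvs a) := by
  have h : Multiset.Rel Associated (factors (g a)) ((factors a).map g) :=
    factors_unique (fun x hx => irreducible_of_factor x hx)
      (fun x hx => by
        obtain ⟨y, hy, rfl⟩ := Multiset.mem_map.1 hx
        exact (MulEquiv.irreducible_iff g).2 (irreducible_of_factor y hy))
      ((factors_prod (g.map_ne_zero_iff.2 ha)).trans (by
        rw [Multiset.prod_hom]
        exact ((factors_prod ha).map g.toMonoidHom).symm))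
  have h' : (factors (g a)).map Associates.mk = ((factors a).map g).map Associates.mk :=
    Multiset.map_mk_eq_map_mk_of_rel h
  unfold dvs
  rw [h']
  induction factors a using Multiset.induction with
  | empty => simp
  | cons x s ih =>
    simp only [Multiset.map_cons, Multiset.sum_cons]
    rw [Finsupp.mapDomain_add, Finsupp.mapDomain_single, amap_mk]
    exact congrArg _ ih

variable {F : Type*} [Field F] [Algebra R F] [IsFractionRing R F]

/-- The divisor of a rational function. -/
noncomputable def fdvs (R : Type*) [CommRing R] [IsDomain R] [UniqueFactorizationMonoid R]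
    {F : Type*} [Field F] [Algebra R F] [IsFractionRing R F] (x : F) : Associates R →₀ ℤ :=
  dvs (IsLocalization.sec (nonZeroDivisors R) x).1 -
    dvs ((IsLocalization.sec (nonZeroDivisors R) x).2 : R)

theorem fdvs_spec {x : F} (hx : x ≠ 0) {a b : R} (hb : b ≠ 0)
    (h : x * algebraMap R F b = algebraMap R F a) :
    a ≠ 0 ∧ fdvs R x = dvs a - dvs b := by
  have hinj := IsFractionRing.injective R F
  have ha : a ≠ 0 := fun e => by
    rw [e, map_zero] at h
    rcases mul_eq_zero.1 h with h1 | h1
    · exact hx h1
    · exact hb (hinj (h1.trans (map_zero _).symm))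
  refine ⟨ha, ?_⟩
  have hs := IsLocalization.sec_spec (nonZeroDivisors R) x
  set c := (IsLocalization.sec (nonZeroDivisors R) x).1
  set d := ((IsLocalization.sec (nonZeroDivisors R) x).2 : R) with hd
  have hd0 : d ≠ 0 := nonZeroDivisors.coe_ne_zero _
  have hc0 : c ≠ 0 := fun e => by
    rw [e, map_zero] at hs
    rcases mul_eq_zero.1 hs with h1 | h1
    · exact hx h1
    · exact hd0 (hinj (h1.trans (map_zero _).symm))
  have hcb : c * b = a * d := hinj (by
    rw [map_mul, map_mul, ← hs, ← h]; ring)
  have := congrArg dvs hcb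
  rw [dvs_mul hc0 hb, dvs_mul ha hd0] at this
  show dvs c - dvs d = _
  rw [eq_sub_iff_add_eq, sub_add_eq_add_sub, this, add_sub_cancel_right]

theorem exists_num_den (x : F) : ∃ a b : R, b ≠ 0 ∧ x * algebraMap R F b = algebraMap R F a :=
  ⟨_, _, nonZeroDivisors.coe_ne_zero _, IsLocalization.sec_spec (nonZeroDivisors R) x⟩

theorem fdvs_mul {x y : F} (hx : x ≠ 0) (hy : y ≠ 0) :
    fdvs R (x * y) = fdvs R x + fdvs R y := by
  obtain ⟨a, b, hb, h⟩ := exists_num_den (R := R) x
  obtain ⟨c, d, hd, h'⟩ := exists_num_den (R := R) y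
  obtain ⟨ha, e⟩ := fdvs_spec hx hb h
  obtain ⟨hc, e'⟩ := fdvs_spec hy hd h'
  obtain ⟨-, e''⟩ := fdvs_spec (a := a * c) (mul_ne_zero hx hy) (mul_ne_zero hb hd) (by
    rw [map_mul, map_mul, ← h, ← h']; ring)
  rw [e, e', e'', dvs_mul ha hc, dvs_mul hb hd]
  abel

theorem fdvs_algebraMap {a : R} (ha : a ≠ 0) : fdvs R (algebraMap R F a) = dvs a := by
  have h1 : dvs (1 : R) = 0 := by
    have h := dvs_mul (one_ne_zero (α := R)) one_ne_zero
    rw [one_mul] at h
    exact left_eq_add.1 h
  obtain ⟨-, e⟩ := fdvs_spec (x := algebraMap R F a) (a := a) (b := (1 : R))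
    ((map_ne_zero_iff _ (IsFractionRing.injective R F)).2 ha) one_ne_zero (by rw [map_one, mul_one])
  rw [e, h1, sub_zero]

theorem fdvs_prod {ι : Type*} (s : Finset ι) (f : ι → F) (hf : ∀ i ∈ s, f i ≠ 0) :
    fdvs R (∏ i ∈ s, f i) = ∑ i ∈ s, fdvs R (f i) := by
  classical
  induction s using Finset.induction_on with
  | empty =>
    rw [Finset.prod_empty, Finset.sum_empty]
    have h := fdvs_mul (R := R) (one_ne_zero (α := F)) one_ne_zero
    rw [one_mul] at h
    exact left_eq_add.1 h
  | insert i s hi ih =>
    rw [Finset.prod_insert hi, Finset.sum_insert hi,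
      fdvs_mul (hf i (Finset.mem_insert_self _ _))
        (Finset.prod_ne_zero_iff.2 fun j hj => hf j (Finset.mem_insert_of_mem hj)),
      ih fun j hj => hf j (Finset.mem_insert_of_mem hj)]

theorem fdvs_zpow {x : F} (hx : x ≠ 0) (j : ℤ) : fdvs R (x ^ j) = j • fdvs R x := by
  induction j using Int.induction_on with
  | zero =>
    rw [zpow_zero, zero_smul]
    have h := fdvs_mul (R := R) (one_ne_zero (α := F)) one_ne_zero
    rw [one_mul] at h
    exact left_eq_add.1 h
  | succ i ih => rw [zpow_add_one₀ hx, fdvs_mul (zpow_ne_zero _ hx) hx, ih, add_smul, one_smul]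
  | pred i ih =>
    have h : x ^ (-(i : ℤ)) = x ^ (-(i : ℤ) - 1) * x := by
      rw [← zpow_add_one₀ hx]; ring_nf
    rw [h, fdvs_mul (zpow_ne_zero _ hx) hx] at ih
    rw [sub_smul, one_smul, ← ih, add_sub_cancel_right]

/-- **The splitting by constants.** -/
theorem exists_unit_splitting {H : Type*} [Group H] [Finite H] (γ : H →* RingAut R)
    (γF : H →* RingAut F) (hγ : ∀ h r, γF h (algebraMap R F r) = algebraMap R F (γ h r))
    (hU : ∀ h (c : Rˣ), γ h c = c) (f : H → F) (hf : ∀ h, f h ≠ 0) (c : H → H → Rˣ)
    (hfc : ∀ h h', f h * γF h (f h') = algebraMap R F (c h h') * f (h * h')) :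
    ∃ e : H → Rˣ, (∀ h h', e h * e h' = c h h' * e (h * h')) ∧
      ∀ h h', f h = f h' → γF h = γF h' → e h = e h' := by
  classical
  have := Fintype.ofFinite H
  have hinj := IsFractionRing.injective R F
  have hunit : ∀ u : Rˣ, fdvs R (algebraMap R F (u : R)) = 0 := by
    intro u
    rw [fdvs_algebraMap u.ne_zero]
    unfold dvs
    rw [show (factors (u : R)) = 0 by
      by_contra hne
      obtain ⟨x, hx⟩ := Multiset.exists_mem_of_ne_zero hne
      exact (irreducible_of_factor x hx).not_isUnit
        (isUnit_of_dvd_unit (dvd_of_mem_factors hx) u.isUnit)]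
    simp
  have hmapF : ∀ h, ∀ x : F, x ≠ 0 →
      fdvs R (γF h x) = Finsupp.mapDomain (amap (γ h)) (fdvs R x) := by
    intro h x hx
    obtain ⟨a, b, hb, he⟩ := exists_num_den (R := R) x
    obtain ⟨ha, e⟩ := fdvs_spec hx hb he
    have hb' : γ h b ≠ 0 := (map_ne_zero_iff _ (RingEquiv.injective (γ h))).2 hb
    obtain ⟨-, e'⟩ := fdvs_spec (x := γF h x) (a := γ h a)
      ((map_ne_zero_iff _ (RingEquiv.injective (γF h))).2 hx) hb'
      (by rw [← hγ, ← hγ, ← map_mul, he])
    rw [e', e, dvs_map _ ha, dvs_map _ hb, Finsupp.mapDomain_sub]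
  set v : H → Associates R →₀ ℤ := fun h => fdvs R (f h) with hv
  have hcoc : ∀ h h', v h + Finsupp.mapDomain (amap (γ h)) (v h') = v (h * h') := by
    intro h h'
    have := congrArg (fdvs R) (hfc h h')
    rwa [fdvs_mul (hf h) ((map_ne_zero_iff _ (RingEquiv.injective (γF h))).2 (hf h')),
      fdvs_mul ((map_ne_zero_iff _ hinj).2 (c h h').ne_zero) (hf _), hunit, zero_add,
      hmapF h _ (hf h')] at this
  set U : Associates R →₀ ℤ := ∑ h, v h with hUdef
  set N : ℤ := (Fintype.card H : ℤ) with hN
  have hN0 : N ≠ 0 := by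
    rw [hN, Nat.cast_ne_zero]; exact Fintype.card_ne_zero
  set U' : Associates R →₀ ℤ := Finsupp.mapRange (fun z => z / N) (Int.zero_ediv N) U with hU'def
  have hUh : ∀ h, N • v h + Finsupp.mapDomain (amap (γ h)) U = U := by
    intro h
    rw [hN, natCast_zsmul, ← Finset.card_univ, ← Finset.sum_const, hUdef,
      Finsupp.mapDomain_finsetSum, ← Finset.sum_add_distrib]
    exact Fintype.sum_equiv (Equiv.mulLeft h) _ _ fun h' => hcoc h h'
  have hU'h : ∀ h, v h + Finsupp.mapDomain (amap (γ h)) U' = U' := by
    intro h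
    ext π
    obtain ⟨π', rfl⟩ : ∃ π', amap (γ h) π' = π :=
      ⟨amap (γ h).symm π, amap_symm (γ h).symm π⟩
    have e := DFunLike.congr_fun (hUh h) (amap (γ h) π')
    rw [Finsupp.add_apply, Finsupp.mapDomain_apply (amap_injective _), Finsupp.smul_apply,
      smul_eq_mul] at e
    rw [Finsupp.add_apply, Finsupp.mapDomain_apply (amap_injective _), hU'def,
      Finsupp.mapRange_apply, Finsupp.mapRange_apply, ← e, add_comm, add_comm (N * _),
      Int.add_mul_ediv_left _ _ hN0]
  have hirr : ∀ π ∈ U'.support, Irreducible (Quotient.out π) := by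
    intro π hπ
    rw [Finsupp.mem_support_iff, hU'def, Finsupp.mapRange_apply] at hπ
    have h1 : U π ≠ 0 := fun e => hπ (by rw [e, Int.zero_ediv])
    rw [hUdef, Finsupp.finsetSum_apply] at h1
    obtain ⟨h, -, h2⟩ := Finset.exists_ne_zero_of_sum_ne_zero h1
    rw [hv] at h2
    simp only [fdvs, Finsupp.sub_apply] at h2
    by_cases h3 : dvs (IsLocalization.sec (nonZeroDivisors R) (f h)).1 π = 0
    · exact irreducible_out_of_dvs_ne_zero _ π fun e => h2 (by rw [h3, e, sub_zero])
    · exact irreducible_out_of_dvs_ne_zero _ π h3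
  set w : Associates R → F := fun π => algebraMap R F (Quotient.out π) with hw
  have hw0 : ∀ π ∈ U'.support, w π ≠ 0 := fun π hπ =>
    (map_ne_zero_iff _ hinj).2 (hirr π hπ).ne_zero
  set u : F := ∏ π ∈ U'.support, w π ^ U' π with hudef
  have hu : u ≠ 0 := Finset.prod_ne_zero_iff.2 fun π hπ => zpow_ne_zero _ (hw0 π hπ)
  have hvu : fdvs R u = U' := by
    rw [hudef, fdvs_prod _ _ fun π hπ => zpow_ne_zero _ (hw0 π hπ)]
    conv_rhs => rw [← Finsupp.sum_single U']
    refine Finset.sum_congr rfl fun π hπ => ?_
    rw [fdvs_zpow (hw0 π hπ), hw, fdvs_algebraMap (hirr π hπ).ne_zero,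
      dvs_irreducible (hirr π hπ), Finsupp.smul_single, smul_eq_mul, mul_one,
      show Associates.mk (Quotient.out π) = π from Quotient.out_eq π]
  have key : ∀ h, ∃ e : Rˣ, f h * γF h u = algebraMap R F (e : R) * u := by
    intro h
    have hg0 : f h * γF h u ≠ 0 :=
      mul_ne_zero (hf h) ((map_ne_zero_iff _ (RingEquiv.injective (γF h))).2 hu)
    set x : F := f h * γF h u / u with hx
    have hx0 : x ≠ 0 := div_ne_zero hg0 hu
    have hxv : fdvs R x = 0 := by
      have h1 : fdvs R (x * u) = fdvs R (f h * γF h u) := by rw [hx, div_mul_cancel₀ _ hu]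
      rw [fdvs_mul hx0 hu, fdvs_mul (hf h)
        ((map_ne_zero_iff _ (RingEquiv.injective (γF h))).2 hu), hmapF h u hu, hvu,
        hU'h h, add_eq_right] at h1
      exact h1
    obtain ⟨a, b, hb, he⟩ := exists_num_den (R := R) x
    obtain ⟨ha, e⟩ := fdvs_spec hx0 hb he
    obtain ⟨z, hz⟩ := associated_of_dvs_eq hb ha (sub_eq_zero.1 (e.symm.trans hxv)).symm
    refine ⟨z, ?_⟩
    have hxe : x = algebraMap R F (z : R) := by
      have hb' : algebraMap R F b ≠ 0 := (map_ne_zero_iff _ hinj).2 hb
      refine mul_right_cancel₀ hb' ?_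
      rw [he, ← hz, map_mul, mul_comm]
    rw [← hxe, hx, div_mul_cancel₀ _ hu]
  choose e he using key
  refine ⟨e, fun h h' => ?_, fun h h' hff hγγ => ?_⟩
  · apply Units.ext
    apply hinj
    refine mul_right_cancel₀ hu ?_
    rw [Units.val_mul, Units.val_mul, map_mul, map_mul, mul_assoc, mul_assoc, ← he (h * h'),
      map_mul γF, RingAut.mul_apply, ← mul_assoc (algebraMap R F _) (f (h * h')), ← hfc, mul_assoc,
      ← map_mul (γF h), he h', map_mul (γF h), hγ, hU, mul_left_comm (f h), he h]
    ring
  · apply Units.ext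
    apply hinj
    refine mul_right_cancel₀ hu ?_
    rw [← he, ← he, hff, hγγ]

end CfsgLib.BlockA.AbelianIso
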