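import Cfsg.Agent.Lib.BlockA.AbelianIso.Homology
import Cfsg.Agent.Lib.BlockA.AbelianIso.Divisor
import Mathlib.Algebra.MvPolynomial.Nilpotent
import Mathlib.Algebra.MvPolynomial.Rename
import Mathlib.RingTheory.Polynomial.UniqueFactorization

/-!
# One step: the implementers of `θ` and of its correspondent share a factor set

The semilinear maps induced on the homology of the general element intertwine the correspondent, so
the quotient of the factor sets splits over the rational functions, hence over the constants.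
-/

set_option autoImplicit false
set_option maxHeartbeats 1000000
set_option linter.unusedSectionVars false

namespace CfsgLib.BlockA.AbelianIso

open Matrix Module
open scoped Classical

universe u v

variable {G : Type u} [Group G] [Finite G] {k : Type v} [Field k]

/-- Two implementers multiply to a third up to a nonzero scalar. -/
theorem exists_factor_scalar {K H : Subgroup G} {n : ℕ} (hn : n ≠ 0)
    {ρ : K →* Matrix (Fin n) (Fin n) k} (hρ : Spans ρ) (hHK : H ≤ Subgroup.normalizer (K : Set G))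
    {A : H → Matrix (Fin n) (Fin n) k} (hA : Implements H ρ A) (h h' : H) :
    ∃ c : k, c ≠ 0 ∧ A h * A h' = c • A (h * h') := by
  have : NeZero n := ⟨hn⟩
  have := Fintype.ofFinite K
  have hnorm : ((h * h' : H) : G) ∈ Subgroup.normalizer (K : Set G) := hHK (h * h').2
  obtain ⟨c, hc⟩ := hρ.implementer_unique (φ := fun x => conjOn K _ hnorm x) (hA.1 (h * h'))
    (fun x => hA.2.1 (h * h') x _ rfl) (B := A h * A h') fun x => by
      obtain ⟨x₁, hx₁⟩ : ∃ x₁ : K, (x₁ : G) = h' * x * (h' : G)⁻¹ :=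
        ⟨⟨_, (Subgroup.mem_normalizer_iff.1 (hHK h'.2) x).1 x.2⟩, rfl⟩
      rw [mul_assoc, hA.2.1 h' x x₁ hx₁, ← mul_assoc,
        hA.2.1 h x₁ (conjOn K _ hnorm x) (by rw [conjOn_apply, hx₁, Subgroup.coe_mul]; group),
        mul_assoc]
  refine ⟨c, ?_, hc⟩
  rintro rfl
  rw [zero_smul] at hc
  exact not_isUnit_zero (hc ▸ (hA.1 h).mul (hA.1 h'))

variable {p : ℕ} [hp : Fact p.Prime] [CharP k p] [IsAlgClosed k] (D : Ops G k p) [Fintype D.S]
  [Fintype D.K]

/-- **One step.** -/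
theorem Ops.exists_factor_aux {s : ℕ} (hn : D.n ≠ 0) (hs : s ≠ 0)
    (σ₀ : D.fix D.S →* Matrix (Fin s) (Fin s) k) [Fintype (D.fix D.S)] (hσ₀ : Spans σ₀)
    (hl₀ : Linked D.ρ σ₀) (H : Subgroup G) (hHK : H ≤ Subgroup.normalizer (D.K : Set G))
    (hHS : H ≤ Subgroup.normalizer (D.S : Set G)) (hKH : D.K ⊓ H ≤ D.fix D.S)
    (A : H → Matrix (Fin D.n) (Fin D.n) k) (hA : Implements H D.ρ A)
    (B : H → Matrix (Fin s) (Fin s) k) (hB : Implements H σ₀ B) :
    ∃ f : H → k, (∀ h, f h ≠ 0) ∧ (∀ h h' : H, (h' : G) * (h : G)⁻¹ ∈ D.K → f h = f h') ∧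
      SameFactor A (fun h => f h • B h) := by
  have : NeZero D.n := ⟨hn⟩
  have : NeZero s := ⟨hs⟩
  obtain ⟨t, ht⟩ := D.exists_impK hn
  obtain ⟨U, V, hyU, hVy, hVU, hVρ, hres⟩ := D.exists_homology σ₀ hn hs hσ₀ hl₀ ht
  have hHC : H ≤ Subgroup.normalizer ((D.fix D.S : Subgroup G) : Set G) := by
    intro h hh
    rw [Subgroup.mem_normalizer_iff]
    intro c
    have hK := Subgroup.mem_normalizer_iff.1 (hHK hh) c
    have hS := hHS hh
    constructor
    · rintro ⟨hcK, hcC⟩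
      refine ⟨hK.1 hcK, Subgroup.mem_centralizer_iff.2 fun w hw => ?_⟩
      have h1 := Subgroup.mem_centralizer_iff.1 hcC _
        ((Subgroup.mem_normalizer_iff''.1 hS w).1 hw)
      calc w * (h * c * h⁻¹) = h * ((h⁻¹ * w * h) * c) * h⁻¹ := by group
        _ = h * (c * (h⁻¹ * w * h)) * h⁻¹ := by rw [h1]
        _ = h * c * h⁻¹ * w := by group
    · rintro ⟨hcK, hcC⟩
      refine ⟨hK.2 hcK, Subgroup.mem_centralizer_iff.2 fun w hw => ?_⟩
      have h1 := Subgroup.mem_centralizer_iff.1 hcC _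
        ((Subgroup.mem_normalizer_iff.1 hS w).1 hw)
      calc w * c = h⁻¹ * ((h * w * h⁻¹) * (h * c * h⁻¹)) * h := by group
        _ = h⁻¹ * ((h * c * h⁻¹) * (h * w * h⁻¹)) * h := by rw [h1]
        _ = c * w := by group
  choose cA hcA0 hcA using exists_factor_scalar hn D.spans hHK hA
  choose cB hcB0 hcB using exists_factor_scalar hs hσ₀ hHC hB
  -- the action on the rational functions
  let π : H → Equiv.Perm D.S := fun h => (conjOn D.S (h : G) (hHS h.2)).toEquiv
  have hπ : ∀ h w, ((π h w : D.S) : G) = h * w * (h : G)⁻¹ := fun h w => rfl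
  let γ : H →* RingAut D.R := MonoidHom.mk'
    (fun h => (MvPolynomial.renameEquiv k (π h)).toRingEquiv) fun h h' => by
      refine RingEquiv.ext fun r => ?_
      show MvPolynomial.rename _ r = MvPolynomial.rename _ (MvPolynomial.rename _ r)
      rw [MvPolynomial.rename_rename]
      congr 2
      funext w
      apply Subtype.ext
      show _ = ((π h (π h' w) : D.S) : G)
      rw [hπ, hπ, hπ, Subgroup.coe_mul]
      group
  let γF : H →* RingAut D.F := (IsFractionRing.ringEquivOfRingEquivHom D.R D.F).comp γ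
  have hγ : ∀ h r, γF h (algebraMap D.R D.F r) = algebraMap D.R D.F (γ h r) := fun h r =>
    IsFractionRing.ringEquivOfRingEquiv_algebraMap _ r
  have hU : ∀ (h : H) (c : D.Rˣ), γ h c = c := by
    intro h c
    obtain ⟨r, -, hr⟩ := MvPolynomial.isUnit_iff_eq_C_of_isReduced.1 c.isUnit
    rw [hr]
    exact MvPolynomial.rename_C _ _
  have hinc : ∀ h c, γF h (D.inc c) = D.inc c := fun h c => by
    show γF h (algebraMap D.R D.F _) = _
    rw [hγ]
    exact congrArg (algebraMap D.R D.F) (MvPolynomial.rename_C _ _)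
  have hvar : ∀ h w, γF h (D.var w) = D.var (π h w) := fun h w => by
    rw [Ops.var, hγ]
    exact congrArg (algebraMap D.R D.F) (MvPolynomial.rename_X _ _)
  have hmapinc : ∀ h {a b : ℕ} (X : Matrix (Fin a) (Fin b) k),
      (X.map D.inc).map (γF h) = X.map D.inc := fun h a b X => by
    ext i j; exact hinc h _
  -- the semilinear maps
  let Γ : H → ∀ {a : ℕ}, (Fin a → D.F) → (Fin a → D.F) := fun h {a} v i => γF h (v i)
  have hΓmul : ∀ h {a b : ℕ} (X : Matrix (Fin a) (Fin b) D.F) v,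
      Γ h (X *ᵥ v) = X.map (γF h) *ᵥ Γ h v := fun h a b X v => funext fun i =>
    RingHom.map_mulVec (γF h : D.F →+* D.F) X v i
  have hΓΓ : ∀ h h' {a : ℕ} (v : Fin a → D.F), Γ h (Γ h' v) = Γ (h * h') v :=
    fun h h' a v => funext fun i => by
      show γF h (γF h' (v i)) = γF (h * h') (v i)
      rw [map_mul]
      rfl
  set y := D.gy t with hy
  have hAy : ∀ h : H, (A h).map D.inc * y.map (γF h) = y * (A h).map D.inc := by
    intro h
    have hAt : ∀ w, A h * t w = t (π h w) * A h := by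
      intro w
      obtain ⟨u, hu⟩ := hA.1 h
      have hZ : (↑u : Matrix (Fin D.n) (Fin D.n) k) * t w * (↑u⁻¹ : Matrix (Fin D.n) (Fin D.n) k) =
          t (π h w) := by
        refine D.impK_eq hn ht _ ?_ fun a b hab => ?_
        · rw [Units.conj_pow, (ht w).1, mul_one, Units.mul_inv]
        · obtain ⟨a', ha'⟩ : ∃ a' : D.K, (a' : G) = (h : G)⁻¹ * a * h :=
            ⟨⟨_, (Subgroup.mem_normalizer_iff''.1 (hHK h.2) a).1 a.2⟩, rfl⟩
          obtain ⟨b', hb'⟩ : ∃ b' : D.K, (b' : G) = w * a' * (w : G)⁻¹ :=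
            ⟨⟨_, (Subgroup.mem_normalizer_iff.1 (D.norm w.2) a').1 a'.2⟩, rfl⟩
          have h1 : (↑u⁻¹ : Matrix (Fin D.n) (Fin D.n) k) * D.ρ a =
              D.ρ a' * (↑u⁻¹ : Matrix (Fin D.n) (Fin D.n) k) := by
            apply (Units.mul_right_inj u).1
            rw [← mul_assoc, Units.mul_inv, one_mul, ← mul_assoc, hu,
              hA.2.1 h a' a (by rw [ha']; group), ← hu, mul_assoc, Units.mul_inv, mul_one]
          rw [mul_assoc, h1, ← mul_assoc, mul_assoc (↑u : Matrix (Fin D.n) (Fin D.n) k) (t w),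
            (ht w).2 a' b' hb', hu, ← mul_assoc, hA.2.1 h b' b (by
              rw [hab, hπ, hb', ha']; group), mul_assoc (D.ρ b), mul_assoc]
      rw [← hZ, ← hu, mul_assoc _ (↑u⁻¹ : Matrix (Fin D.n) (Fin D.n) k), Units.inv_mul, mul_one]
    simp only [hy, Ops.gy, ← RingHom.mapMatrix_apply, Finset.sum_mul]
    rw [show (∑ w, D.var w • (D.inc.mapMatrix (t w) - 1)).map (γF h) =
      ∑ w, D.var (π h w) • (D.inc.mapMatrix (t w) - 1) by
        ext i j
        by_cases hij : i = j <;>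
          simp [Matrix.sum_apply, Matrix.one_apply, hij, hvar, hinc]]
    rw [Finset.mul_sum]
    refine Fintype.sum_equiv (π h) _ _ fun w => ?_
    rw [mul_smul_comm, smul_mul_assoc, mul_sub, sub_mul, mul_one, one_mul, ← map_mul, ← map_mul,
      hAt]
  let L : H → (Fin D.n → D.F) → (Fin D.n → D.F) := fun h v => (A h).map D.inc *ᵥ Γ h v
  have hLker : ∀ h v, y *ᵥ v = 0 → y *ᵥ L h v = 0 := by
    intro h v hv
    show y *ᵥ ((A h).map D.inc *ᵥ Γ h v) = 0
    rw [Matrix.mulVec_mulVec, ← hAy, ← Matrix.mulVec_mulVec, ← hΓmul, hv]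
    rw [show Γ h (0 : Fin D.n → D.F) = 0 from funext fun i => map_zero _, Matrix.mulVec_zero]
  have hLim : ∀ h v, v ∈ imTop p y → L h v ∈ imTop p y := by
    rintro h _ ⟨z, rfl⟩
    refine ⟨(A h).map D.inc *ᵥ Γ h z, ?_⟩
    show (y ^ (p - 1)) *ᵥ _ = (A h).map D.inc *ᵥ Γ h ((y ^ (p - 1)) *ᵥ z)
    rw [hΓmul, Matrix.mulVec_mulVec, Matrix.mulVec_mulVec]
    congr 1
    have e : (y ^ (p - 1)).map (γF h) = y.map (γF h) ^ (p - 1) :=
      map_pow (γF h : D.F →+* D.F).mapMatrix y (p - 1)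
    rw [e]
    exact ((show SemiconjBy ((A h).map D.inc) (y.map (γF h)) y from hAy h).pow_right _).eq.symm
  have hLsub : ∀ h v w, L h (v - w) = L h v - L h w := fun h v w => by
    show _ *ᵥ Γ h (v - w) = _
    rw [show Γ h (v - w) = Γ h v - Γ h w from funext fun i => map_sub _ _ _, Matrix.mulVec_sub]
  have hV0 : ∀ v ∈ imTop p y, V *ᵥ v = 0 := by
    rintro _ ⟨z, rfl⟩
    rw [Matrix.mulVecLin_apply, Matrix.mulVec_mulVec, hVy, Matrix.zero_mulVec]
  have hUker : ∀ x, y *ᵥ (U *ᵥ x) = 0 := fun x => by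
    rw [Matrix.mulVec_mulVec, hyU, Matrix.zero_mulVec]
  let N : H → (Fin s → D.F) → (Fin s → D.F) := fun h x => V *ᵥ L h (U *ᵥ x)
  have hVL : ∀ h v, y *ᵥ v = 0 → N h (V *ᵥ v) = V *ᵥ L h v := by
    intro h v hv
    have h1 := hV0 _ (hLim h _ (hres v hv))
    rw [hLsub, Matrix.mulVec_sub, sub_eq_zero] at h1
    exact h1.symm
  have hLmul : ∀ h h' v, L h (L h' v) = D.inc (cA h h') • L (h * h') v := by
    intro h h' v
    show _ *ᵥ Γ h (_ *ᵥ Γ h' v) = _
    rw [hΓmul, hΓΓ, hmapinc, Matrix.mulVec_mulVec, ← Matrix.map_mul, hcA]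
    rw [show (cA h h' • A (h * h')).map D.inc = D.inc (cA h h') • (A (h * h')).map D.inc by
      ext i j; simp, Matrix.smul_mulVec]
  have hNmul : ∀ h h' x, N h (N h' x) = D.inc (cA h h') • N (h * h') x := by
    intro h h' x
    rw [show N h' x = V *ᵥ L h' (U *ᵥ x) from rfl, hVL _ _ (hLker _ _ (hUker x)), hLmul,
      Matrix.mulVec_smul]
  -- the matrix of `N` intertwines the correspondent
  let Mm : H → Matrix (Fin s) (Fin s) D.F := fun h => V * ((A h).map D.inc * U.map (γF h))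
  have hNM : ∀ h x, N h x = Mm h *ᵥ Γ h x := fun h x => by
    show V *ᵥ ((A h).map D.inc *ᵥ Γ h (U *ᵥ x)) = _
    rw [hΓmul, Matrix.mulVec_mulVec, Matrix.mulVec_mulVec]
    rw [Matrix.mul_assoc]
  have hΓsurj : ∀ h x, ∃ x', Γ h x' = (x : Fin s → D.F) := fun h x =>
    ⟨fun i => (γF h).symm (x i), funext fun i => (γF h).apply_symm_apply _⟩
  have hNσ : ∀ (h : H) (c c' : D.fix D.S), (c' : G) = h * c * (h : G)⁻¹ → ∀ x,
      N h ((σ₀ c).map D.inc *ᵥ x) = (σ₀ c').map D.inc *ᵥ N h x := by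
    intro h c c' hcc x
    have h1 : (σ₀ c).map D.inc *ᵥ x =
        V *ᵥ ((D.ρ ⟨(c : G), c.2.1⟩).map D.inc *ᵥ (U *ᵥ x)) := by
      rw [hVρ c _ (hUker x), Matrix.mulVec_mulVec x V, hVU, Matrix.one_mulVec]
    have hker : y *ᵥ ((D.ρ ⟨(c : G), c.2.1⟩).map D.inc *ᵥ (U *ᵥ x)) = 0 := by
      refine mulVec_ker ?_ (hUker x)
      refine Commute.sum_left _ _ _ fun w _ => (Commute.sub_left ?_ (Commute.one_left _)).smul_left _
      refine Commute.map ?_ D.inc.mapMatrix
      exact (ht w).2 _ _ (by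
        show (c : G) = w * c * (w : G)⁻¹
        rw [eq_mul_inv_iff_mul_eq]
        exact (Subgroup.mem_centralizer_iff.1 c.2.2 w w.2).symm)
    rw [h1, hVL _ _ hker]
    show V *ᵥ ((A h).map D.inc *ᵥ Γ h (_ *ᵥ (U *ᵥ x))) = _
    rw [hΓmul, hmapinc, Matrix.mulVec_mulVec _ ((A h).map D.inc), ← Matrix.map_mul,
      hA.2.1 h ⟨(c : G), c.2.1⟩ ⟨(c' : G), c'.2.1⟩ hcc, Matrix.map_mul, ← Matrix.mulVec_mulVec,
      hVρ c' _ (hLker _ _ (hUker x))]
  have hscalar : ∀ h, ∃ f : D.F, Mm h = f • (B h).map D.inc := by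
    intro h
    obtain ⟨u, hu⟩ := hB.1 h
    set Y := (↑u⁻¹ : Matrix (Fin s) (Fin s) k).map D.inc * Mm h with hY
    have hYc : ∀ c : D.fix D.S, Commute ((σ₀ c).map D.inc) Y := by
      intro c
      obtain ⟨c', hc'⟩ : ∃ c' : D.fix D.S, (c' : G) = h * c * (h : G)⁻¹ :=
        ⟨⟨_, (Subgroup.mem_normalizer_iff.1 (hHC h.2) c).1 c.2⟩, rfl⟩
      have h1 : Mm h * (σ₀ c).map D.inc = (σ₀ c').map D.inc * Mm h := by
        refine Matrix.ext_iff_mulVec.2 fun x => ?_
        obtain ⟨x', rfl⟩ := hΓsurj h x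
        calc (Mm h * (σ₀ c).map D.inc) *ᵥ Γ h x'
            = Mm h *ᵥ Γ h ((σ₀ c).map D.inc *ᵥ x') := by
              rw [hΓmul, hmapinc, Matrix.mulVec_mulVec]
          _ = (σ₀ c').map D.inc *ᵥ (Mm h *ᵥ Γ h x') := by rw [← hNM, hNσ h c c' hc', hNM]
          _ = _ := by rw [Matrix.mulVec_mulVec]
      have h2 : (↑u⁻¹ : Matrix (Fin s) (Fin s) k) * σ₀ c' =
          σ₀ c * (↑u⁻¹ : Matrix (Fin s) (Fin s) k) := by
        apply (Units.mul_right_inj u).1
        rw [← mul_assoc, Units.mul_inv, one_mul, ← mul_assoc, hu, hB.2.1 h c c' hc', ← hu,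
          mul_assoc, Units.mul_inv, mul_one]
      show _ * Y = Y * _
      rw [hY, mul_assoc _ (Mm h), h1, ← mul_assoc, ← mul_assoc, ← Matrix.map_mul, ← Matrix.map_mul,
        h2]
    have hYall : ∀ Z : Matrix (Fin s) (Fin s) k, Commute (Z.map D.inc) Y := by
      intro Z
      have hZ : Z ∈ Submodule.span k (Set.range σ₀) := by
        rw [show Submodule.span k (Set.range σ₀) = ⊤ from hσ₀]; trivial
      refine Submodule.span_induction ?_ ?_ ?_ ?_ hZ
      · rintro _ ⟨c, rfl⟩; exact hYc c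
      · rw [← RingHom.mapMatrix_apply, map_zero]; exact Commute.zero_left _
      · intro a b _ _ ha hb; rw [Matrix.map_add _ (map_add D.inc)]; exact ha.add_left hb
      · intro r a _ ha
        rw [show (r • a).map D.inc = D.inc r • a.map D.inc by ext i j; simp]
        exact ha.smul_left _
    obtain ⟨f, hf⟩ := (Matrix.mem_range_scalar_iff_commute_single' (M := Y)).2 fun i j => by
      have := hYall (Matrix.single i j 1)
      rwa [show (Matrix.single i j (1 : k)).map D.inc = Matrix.single i j 1 by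
        rw [Matrix.map_single, map_one]] at this
    refine ⟨f, ?_⟩
    have hf' : Y = f • 1 := by rw [← hf, Matrix.scalar_apply, Matrix.smul_one_eq_diagonal]
    have : (B h).map D.inc * Y = Mm h := by
      rw [hY, ← mul_assoc, ← Matrix.map_mul, ← hu, Units.mul_inv, ← RingHom.mapMatrix_apply,
        map_one, one_mul]
    rw [← this, hf', mul_smul_comm, mul_one]
  choose f hf using hscalar
  have hNf : ∀ h x, N h x = f h • ((B h).map D.inc *ᵥ Γ h x) := fun h x => by
    rw [hNM, hf, Matrix.smul_mulVec]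
  have hB1 : ∀ h : H, ((B h).map D.inc) ≠ 0 := fun h h0 => by
    refine not_isUnit_zero (M₀ := Matrix (Fin s) (Fin s) D.F) ?_
    rw [← h0]
    exact (hB.1 h).map D.inc.mapMatrix
  have hsm : ∀ (h : H) (a b : D.F), a • (B h).map D.inc = b • (B h).map D.inc → a = b := by
    intro h a b hab
    by_contra hne
    rw [← sub_eq_zero, ← sub_smul, smul_eq_zero] at hab
    exact hab.elim (sub_ne_zero.2 hne) (hB1 h)
  have hff : ∀ h h', f h * γF h (f h') * D.inc (cB h h') = D.inc (cA h h') * f (h * h') := by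
    intro h h'
    refine hsm (h * h') _ _ (Matrix.ext_iff_mulVec.2 fun x => ?_)
    obtain ⟨x', rfl⟩ := hΓsurj (h * h') x
    have h1 := hNmul h h' x'
    have h2 : Γ h (f h' • ((B h').map D.inc *ᵥ Γ h' x')) =
        γF h (f h') • ((B h').map D.inc *ᵥ Γ (h * h') x') := by
      funext i
      show γF h (f h' * ((B h').map D.inc *ᵥ Γ h' x') i) = γF h (f h') * _
      rw [map_mul]
      congr 1
      show Γ h ((B h').map D.inc *ᵥ Γ h' x') i = _
      rw [hΓmul, hmapinc, hΓΓ]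
    rw [hNf, hNf, hNf, h2, Matrix.mulVec_smul, Matrix.mulVec_mulVec, ← Matrix.map_mul, hcB,
      show (cB h h' • B (h * h')).map D.inc = D.inc (cB h h') • (B (h * h')).map D.inc by
        ext i j; simp, Matrix.smul_mulVec, smul_smul, smul_smul, smul_smul] at h1
    rw [Matrix.smul_mulVec, Matrix.smul_mulVec]
    exact h1
  have hA1 : A 1 = cA 1 1 • 1 := by
    have := hcA 1 1
    rw [one_mul] at this
    obtain ⟨u, hu⟩ := hA.1 1
    rw [← hu] at this ⊢
    have h2 := congrArg (fun Z => (↑u⁻¹ : Matrix (Fin D.n) (Fin D.n) k) * Z) this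
    simpa [← mul_assoc] using h2
  have hN1 : ∀ x, N 1 x = D.inc (cA 1 1) • x := by
    intro x
    show V *ᵥ ((A 1).map D.inc *ᵥ Γ 1 (U *ᵥ x)) = _
    rw [show Γ 1 (U *ᵥ x) = U *ᵥ x from funext fun i => by
      show γF 1 _ = _; rw [map_one]; rfl]
    rw [hA1, show (cA 1 1 • (1 : Matrix (Fin D.n) (Fin D.n) k)).map D.inc = D.inc (cA 1 1) • 1 by
      ext i j; by_cases hij : i = j <;> simp [Matrix.one_apply, hij],
      Matrix.smul_mulVec, Matrix.one_mulVec, Matrix.mulVec_smul, Matrix.mulVec_mulVec, hVU,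
      Matrix.one_mulVec]
  have hf0 : ∀ h, f h ≠ 0 := by
    intro h h0
    have h1 := hNmul h h⁻¹ (fun _ => 1)
    rw [hNf h, h0, zero_smul, mul_inv_cancel, hN1, smul_smul] at h1
    have h2 : D.inc (cA h h⁻¹) * D.inc (cA 1 1) = 0 := by
      have h3 := congrFun h1.symm ⟨0, Nat.pos_of_ne_zero hs⟩
      simpa using h3
    rcases mul_eq_zero.1 h2 with h4 | h4
    · exact hcA0 _ _ (D.inc.injective (h4.trans (map_zero _).symm))
    · exact hcA0 _ _ (D.inc.injective (h4.trans (map_zero _).symm))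
  let q : H → H → D.Rˣ := fun h h' =>
    Units.map MvPolynomial.C.toMonoidHom
      (Units.mk0 (cA h h' / cB h h') (div_ne_zero (hcA0 h h') (hcB0 h h')))
  have hq : ∀ h h', algebraMap D.R D.F (q h h' : D.R) = D.inc (cA h h') / D.inc (cB h h') :=
    fun h h' => map_div₀ D.inc (cA h h') (cB h h')
  obtain ⟨e, he, hinv⟩ := exists_unit_splitting γ γF hγ hU f hf0 q fun h h' => by
    have hb : D.inc (cB h h') ≠ 0 := (map_ne_zero D.inc).2 (hcB0 h h')
    rw [hq, div_mul_eq_mul_div, eq_div_iff hb, hff]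
  choose g hg0 hg using fun h => MvPolynomial.isUnit_iff_eq_C_of_isReduced.1 (e h).isUnit
  refine ⟨g, fun h => (hg0 h).ne_zero, fun h h' hhh => ?_, fun h h' => ⟨cA h h', hcA h h', ?_⟩⟩
  · have hxH : (h' : G) * (h : G)⁻¹ ∈ H := H.mul_mem h'.2 (H.inv_mem h.2)
    have hxC : (h' : G) * (h : G)⁻¹ ∈ D.fix D.S := hKH ⟨hhh, hxH⟩
    have hγh : γF h = γF h' := by
      refine congrArg (IsFractionRing.ringEquivOfRingEquivHom D.R D.F) (?_ : γ h = γ h')
      refine RingEquiv.ext fun r => ?_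
      show MvPolynomial.rename _ r = MvPolynomial.rename _ r
      congr 2
      funext w
      apply Subtype.ext
      rw [hπ, hπ]
      have hz := Subgroup.mem_centralizer_iff.1 hxC.2 _
        ((Subgroup.mem_normalizer_iff.1 (hHS h.2) w).1 w.2)
      calc (h : G) * w * (h : G)⁻¹
          = ((h : G) * w * (h : G)⁻¹) * ((h' : G) * (h : G)⁻¹) * ((h' : G) * (h : G)⁻¹)⁻¹ := by
            group
        _ = ((h' : G) * (h : G)⁻¹) * ((h : G) * w * (h : G)⁻¹) * ((h' : G) * (h : G)⁻¹)⁻¹ := by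
            rw [hz]
        _ = (h' : G) * w * (h' : G)⁻¹ := by group
    have hx1 : (h' : G) = ((⟨_, hxC⟩ : D.fix D.S) : G) * h := by
      show (h' : G) = (h' : G) * (h : G)⁻¹ * h
      group
    have hfh : f h = f h' := by
      refine hsm h' _ _ (Matrix.ext_iff_mulVec.2 fun x => ?_)
      obtain ⟨x', rfl⟩ := hΓsurj h' x
      have h1 : N h' x' = (σ₀ ⟨_, hxC⟩).map D.inc *ᵥ N h x' := by
        rw [← hVρ ⟨_, hxC⟩ _ (hLker _ _ (hUker x'))]
        show V *ᵥ ((A h').map D.inc *ᵥ Γ h' (U *ᵥ x')) = _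
        rw [hA.2.2 h h' ⟨_, hxC.1⟩ hx1, Matrix.map_mul, ← Matrix.mulVec_mulVec,
          show Γ h' (U *ᵥ x') = Γ h (U *ᵥ x') from funext fun i => by
            show γF h' _ = γF h _
            rw [hγh]]
      rw [hNf, hNf, Matrix.mulVec_smul, Matrix.mulVec_mulVec, ← Matrix.map_mul,
        ← hB.2.2 h h' ⟨_, hxC⟩ hx1,
        show Γ h x' = Γ h' x' from funext fun i => by
          show γF h _ = γF h' _
          rw [hγh]] at h1
      rw [Matrix.smul_mulVec, Matrix.smul_mulVec]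
      exact h1.symm
    have := congrArg (fun u : D.Rˣ => (u : D.R)) (hinv h h' hfh hγh)
    simp only [hg] at this
    exact MvPolynomial.C_injective _ _ this
  · have h1 := congrArg (fun u : D.Rˣ => (u : D.R)) (he h h')
    simp only [Units.val_mul, q, Units.coe_map, Units.val_mk0, hg] at h1
    have h2 : g h * g h' = cA h h' / cB h h' * g (h * h') := by
      refine MvPolynomial.C_injective D.S k ?_
      rw [map_mul, map_mul]
      exact h1
    show (g h • B h) * (g h' • B h') = cA h h' • (g (h * h') • B (h * h'))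
    rw [smul_mul_smul_comm, hcB, smul_smul, smul_smul, h2, div_mul_eq_mul_div,
      div_mul_cancel₀ _ (hcB0 h h')]

/-- **One step.** -/
theorem Ops.exists_factor {G : Type u} [Group G] [Finite G] {k : Type v} [Field k] [IsAlgClosed k]
    {p : ℕ} [Fact p.Prime] [CharP k p] (D : Ops G k p) {s : ℕ} (hn : D.n ≠ 0) (hs : s ≠ 0)
    (σ₀ : D.fix D.S →* Matrix (Fin s) (Fin s) k) (hσ₀ : Spans σ₀) (hl₀ : Linked D.ρ σ₀)
    (H : Subgroup G) (hHK : H ≤ Subgroup.normalizer (D.K : Set G))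
    (hHS : H ≤ Subgroup.normalizer (D.S : Set G)) (hKH : D.K ⊓ H ≤ D.fix D.S)
    (A : H → Matrix (Fin D.n) (Fin D.n) k) (hA : Implements H D.ρ A)
    (B : H → Matrix (Fin s) (Fin s) k) (hB : Implements H σ₀ B) :
    ∃ f : H → k, (∀ h, f h ≠ 0) ∧ (∀ h h' : H, (h' : G) * (h : G)⁻¹ ∈ D.K → f h = f h') ∧
      SameFactor A (fun h => f h • B h) := by
  have := Fintype.ofFinite D.S
  have := Fintype.ofFinite D.K
  have := Fintype.ofFinite (D.fix D.S)
  exact D.exists_factor_aux hn hs σ₀ hσ₀ hl₀ H hHK hHS hKH A hA B hB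

end CfsgLib.BlockA.AbelianIso
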