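import Cfsg.Agent.Lib.BlockA.AbelianIso.LiftTools
import Cfsg.Agent.Lib.Block.Covering

/-!
# The twist from the equality of factor sets modulo `M`
-/

set_option autoImplicit false
set_option linter.unusedSectionVars false

namespace CfsgLib.BlockA.AbelianIso

open Cfsg CfsgLib CfsgLib.Block CfsgLib.BlockA
open scoped ComplexConjugate

universe u

variable {p : ℕ} [hp : Fact p.Prime] {M : Ideal AlgInt} [M.IsPrime]

/-- Irreducible characters of a group of order prime to `p` are separated modulo `M`. -/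
theorem irr_eq_of_redC_eq {C : Type u} [Group C] [Fintype C] (hM : IsPModular p M)
    (hC : ¬ p ∣ Nat.card C) (β γ : IrrCharacter C)
    (h : ∀ x, redC M ((β : C → ℂ) x) = redC M ((γ : C → ℂ) x)) : β = γ := by
  by_contra hne
  have hinv := memLocalRing_inv_natCast hM hC
  have hterm : ∀ (δ : IrrCharacter C) (x : C),
      MemLocalRing M ((β : C → ℂ) x * conj ((δ : C → ℂ) x)) := fun δ x =>
    memLocalRing_mul (memLocalRing_irr_apply β x) (by
      rw [irr_conj_eq δ.2]; exact memLocalRing_irr_apply δ _)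
  have hred : ∀ δ : IrrCharacter C, redC M (classInner (β : C → ℂ) (δ : C → ℂ)) =
      redC M ((Nat.card C : ℂ)⁻¹) * ∑ x, redC M ((β : C → ℂ) x) * redC M ((δ : C → ℂ) x⁻¹) := by
    intro δ
    rw [Char.classInner_def, redC_mul hinv (memLocalRing_sum _ _ fun x _ => hterm δ x),
      redC_sum _ _ fun x _ => hterm δ x]
    congr 1
    refine Finset.sum_congr rfl fun x _ => ?_
    rw [irr_conj_eq δ.2, redC_mul (memLocalRing_irr_apply β x) (memLocalRing_irr_apply δ _)]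
  have h1 := hred β
  have h2 := hred γ
  rw [Char.irr_classInner_self β.2, redC_one] at h1
  rw [Char.irr_classInner_ne β.2 γ.2 fun e => hne (Subtype.ext e), redC_zero] at h2
  simp only [← h] at h2
  exact one_ne_zero (h1.trans h2.symm)

variable {G : Type u} [Group G] [Fintype G]

/-- The reduction of a system of implementers. -/
theorem implements_reduce (hM : IsPModular p M) {C H : Subgroup G} [Fintype C]
    (hCp : ¬ p ∣ Nat.card C) {n : ℕ} [NeZero n] {ρ : C →* Matrix (Fin n) (Fin n) ℂ} (hρ : Spans ρ)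
    {ρk : C →* Matrix (Fin n) (Fin n) (kres M)} (hρk : Spans ρk)
    (htr : ∀ x, (ρk x).trace = redC M (ρ x).trace) (hnorm : ∀ h ∈ H, ∀ x ∈ C, h * x * h⁻¹ ∈ C)
    {A : H → Matrix (Fin n) (Fin n) ℂ} (hA : Implements H ρ A)
    (hdet : ∀ h, (A h).det ^ Nat.card C = 1) (hint : ∀ (h : H) (y : C), IsIntegral ℤ (A h * ρ y).trace) :
    Implements H ρk (fun h => reduce ρ ρk (A h)) ∧ ∀ (h h' : H) (c : ℂ), MemLocalRing M c →
      A h * A h' = c • A (h * h') →
      reduce ρ ρk (A h) * reduce ρ ρk (A h') = redC M c • reduce ρ ρk (A (h * h')) := by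
  have hI : ∀ h, IntTrace M ρ (A h) := fun h y => memLocalRing_of_isIntegral (hint h y)
  have hone : IntTrace M ρ 1 := by rw [← map_one ρ]; exact intTrace_rep 1
  refine ⟨⟨fun h => ?_, fun h x x' e => ?_, fun h h' x e => ?_⟩, fun h h' c hc e => ?_⟩
  · obtain ⟨m, hm, hpow⟩ := pow_of_implementer hρ (g := (h : G)) (isOfFinOrder_of_finite _)
      (fun x hx => hnorm _ h.2 x hx) Nat.card_pos (hdet h) (hA.2.1 h)
    have key : ∀ j, IntTrace M ρ (A h ^ j) ∧ reduce ρ ρk (A h ^ j) = reduce ρ ρk (A h) ^ j := by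
      intro j
      induction j with
      | zero =>
        rw [pow_zero, pow_zero]
        exact ⟨hone, by rw [← map_one ρ, reduce_rep hM hCp hρ hρk htr, map_one]⟩
      | succ j ih =>
        rw [pow_succ, pow_succ]
        exact ⟨intTrace_mul hM hCp hρ ih.1 (hI h),
          by rw [reduce_mul hM hCp hρ hρk htr ih.1 (hI h), ih.2]⟩
    refine (isUnit_pow_iff hm.ne').1 ?_
    rw [← (key m).2, hpow, ← map_one ρ, reduce_rep hM hCp hρ hρk htr, map_one]
    exact isUnit_one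
  · show reduce ρ ρk (A h) * ρk x = ρk x' * reduce ρ ρk (A h)
    rw [← reduce_rep hM hCp hρ hρk htr x, ← reduce_rep hM hCp hρ hρk htr x',
      ← reduce_mul hM hCp hρ hρk htr (hI h) (intTrace_rep x),
      ← reduce_mul hM hCp hρ hρk htr (intTrace_rep x') (hI h), hA.2.1 h x x' e]
  · show reduce ρ ρk (A h') = ρk x * reduce ρ ρk (A h)
    rw [← reduce_rep hM hCp hρ hρk htr x,
      ← reduce_mul hM hCp hρ hρk htr (intTrace_rep x) (hI h), hA.2.2 h h' x e]
  · rw [← reduce_mul hM hCp hρ hρk htr (hI h) (hI h'), e,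
      reduce_smul hM hCp hρ hρk htr hc (hI _)]

theorem smul_unit_inj {k : Type*} [Field k] {n : ℕ} [NeZero n] {a b : k}
    {X : Matrix (Fin n) (Fin n) k} (hX : IsUnit X) (h : a • X = b • X) : a = b := by
  obtain ⟨u, rfl⟩ := hX
  refine sub_eq_zero.1 (eq_zero_of_smul_one (n := n) ?_)
  rw [sub_smul, sub_eq_zero, ← Units.mul_inv u, ← smul_mul_assoc, ← smul_mul_assoc, h]

/-- The statement about factor sets modulo `p` used for lifting. -/
def FactorLift (K P : Subgroup G) (k : Type) [Field k] : Prop :=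
  ∀ {n s : ℕ}, n ≠ 0 → s ≠ 0 → ∀ (ρ : K →* Matrix (Fin n) (Fin n) k)
    (σ : (K ⊓ Subgroup.normalizer (P : Set G) : Subgroup G) →* Matrix (Fin s) (Fin s) k),
    Spans ρ → Spans σ → Linked ρ σ →
    (∀ g : G, ∀ (a b : K), (b : G) = g * a * g⁻¹ → (ρ b).trace = (ρ a).trace) →
    (∀ T ≤ P, ∃ (r : ℕ)
      (τ : (K ⊓ Subgroup.centralizer (T : Set G) : Subgroup G) →* Matrix (Fin r) (Fin r) k),
      r ≠ 0 ∧ Spans τ ∧ Linked ρ τ) →
    ∀ A : Subgroup.normalizer (P : Set G) → Matrix (Fin n) (Fin n) k,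
      Implements (Subgroup.normalizer (P : Set G)) ρ A →
    ∀ B : Subgroup.normalizer (P : Set G) → Matrix (Fin s) (Fin s) k,
      Implements (Subgroup.normalizer (P : Set G)) σ B →
    ∃ f : Subgroup.normalizer (P : Set G) → k, (∀ h, f h ≠ 0) ∧
      (∀ h h' : Subgroup.normalizer (P : Set G), (h' : G) * (h : G)⁻¹ ∈ K → f h = f h') ∧
      SameFactor A (fun h => f h • B h)

/-- The restriction of an irreducible character along `K ⊓ H ≃ K.subgroupOf H`. -/
theorem exists_irr_inf (K H : Subgroup G) (β : IrrCharacter (K.subgroupOf H)) :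
    ∃ β' : IrrCharacter (K ⊓ H : Subgroup G),
      ∀ (x : K.subgroupOf H) (y : (K ⊓ H : Subgroup G)), (y : G) = ((x : H) : G) →
        (β' : (K ⊓ H : Subgroup G) → ℂ) y = (β : K.subgroupOf H → ℂ) x := by
  let ι : (K ⊓ H : Subgroup G) →* K.subgroupOf H :=
    { toFun := fun y => ⟨⟨(y : G), (Subgroup.mem_inf.1 y.2).2⟩, (Subgroup.mem_inf.1 y.2).1⟩
      map_one' := rfl
      map_mul' := fun _ _ => rfl }
  have hι : Function.Surjective ι := fun x =>
    ⟨⟨((x : H) : G), Subgroup.mem_inf.2 ⟨x.2, (x : H).2⟩⟩, rfl⟩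
  refine ⟨⟨_, Char.isIrrCharacter_comp_surjective β.2 ι hι⟩, fun x y e => ?_⟩
  show (β : K.subgroupOf H → ℂ) (ι y) = (β : K.subgroupOf H → ℂ) x
  exact congrArg _ (Subtype.ext (Subtype.ext e))

/-- The intermediate correspondents modulo `M`. -/
theorem exists_linked_centralizer (hM : IsPModular p M) {K : Subgroup G} [K.Normal] [Fintype K]
    (hKp : ¬ p ∣ Nat.card K) {T : Subgroup G} (hT : IsPGroup p T) (θ : IrrCharacter K)
    (hθ : ∀ g : G, conjIrr K θ g = θ) {n : ℕ} [NeZero n] {ρk : K →* Matrix (Fin n) (Fin n) (kres M)}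
    (hρk : Spans ρk) (hdeg : (θ : K → ℂ) 1 = n)
    (htr : ∀ x, (ρk x).trace = redC M ((θ : K → ℂ) x)) :
    ∃ (r : ℕ) (τ : (K ⊓ Subgroup.centralizer (T : Set G) : Subgroup G) →* Matrix (Fin r) (Fin r) (kres M)),
      r ≠ 0 ∧ Spans τ ∧ Linked ρk τ := by
  classical
  have : CharP (kres M) p := charP_kres hM
  obtain ⟨C, hC⟩ : ∃ C, C = Subgroup.centralizer (T : Set G) := ⟨_, rfl⟩
  let := Fintype.ofFinite (K.subgroupOf C)
  obtain ⟨β, a, ha, hcoef⟩ := exists_glauberman_coeff hM hKp hT θ (fun r _ => hθ r) hC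
  rw [← hC]
  obtain ⟨β', hβ'⟩ := exists_irr_inf K C β
  let := Fintype.ofFinite (K ⊓ C : Subgroup G)
  have hCp : ¬ p ∣ Nat.card (K ⊓ C : Subgroup G) :=
    fun h => hKp (h.trans (Subgroup.card_dvd_of_le inf_le_left))
  have hC'p : ¬ p ∣ Nat.card (K.subgroupOf C) := fun h => hKp (h.trans
    (Subgroup.card_comap_dvd_of_injective K C.subtype (Subgroup.subtype_injective C)))
  obtain ⟨r, τ, hr, hrdeg, hτ, hτtr⟩ := exists_spans_modular hM (K ⊓ C) hCp β'
  have hcast : ∀ (L : Subgroup G) [Fintype L], ¬ p ∣ Nat.card L → (Fintype.card L : kres M) ≠ 0 :=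
    fun L _ h => by rw [Ne, CharP.cast_eq_zero_iff (kres M) p, ← Nat.card_eq_fintype_card]; exact h
  have hn' := hρk.natCast_ne_zero (hcast K hKp)
  have hr' : (r : kres M) ≠ 0 := by
    have : NeZero r := ⟨hr⟩
    exact hτ.natCast_ne_zero (hcast _ hCp)
  obtain ⟨s, hs⟩ : ∃ s, s = redC M ((Nat.card (K.subgroupOf C) : ℂ)⁻¹ * (β : K.subgroupOf C → ℂ) 1) :=
    ⟨_, rfl⟩
  obtain ⟨t, ht⟩ : ∃ t, t = redC M ((Nat.card K : ℂ)⁻¹ * (θ : K → ℂ) 1) := ⟨_, rfl⟩
  have ht0 : t ≠ 0 := by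
    rw [ht, redC_mul (memLocalRing_inv_natCast hM hKp) (memLocalRing_irr_apply θ _),
      CfsgLib.BlockB.PiKer.redC_inv_natCast hM hKp, hdeg, redC_natCast]
    exact mul_ne_zero (inv_ne_zero (by rw [Nat.card_eq_fintype_card]; exact hcast K hKp)) hn'
  have hs0 : s ≠ 0 := by
    rw [hs, redC_mul (memLocalRing_inv_natCast hM hC'p) (memLocalRing_irr_apply β _),
      CfsgLib.BlockB.PiKer.redC_inv_natCast hM hC'p, ← hβ' 1 1 rfl, hrdeg, redC_natCast]
    refine mul_ne_zero (inv_ne_zero ?_) hr'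
    rw [Ne, CharP.cast_eq_zero_iff (kres M) p]; exact hC'p
  refine ⟨r, τ, hr, hτ, a * s * t⁻¹, mul_ne_zero (mul_ne_zero ha hs0) (inv_ne_zero ht0),
    fun y x e => ?_⟩
  obtain ⟨z, hz⟩ : ∃ z : K.subgroupOf C, ((z : C) : G) = (y : G) :=
    ⟨⟨⟨(y : G), (Subgroup.mem_inf.1 y.2).2⟩, (Subgroup.mem_inf.1 y.2).1⟩, rfl⟩
  have h := hcoef z⁻¹
  rw [blockCoeff_singleton, blockCoeff_singleton, ← mul_assoc, ← mul_assoc, irr_conj_eq θ.2,
    irr_conj_eq β.2, redC_mul (memLocalRing_mul (memLocalRing_inv_natCast hM hKp)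
      (memLocalRing_irr_apply θ _)) (memLocalRing_irr_apply θ _),
    redC_mul (memLocalRing_mul (memLocalRing_inv_natCast hM hC'p) (memLocalRing_irr_apply β _))
      (memLocalRing_irr_apply β _), ← ht, ← hs, inv_inv, ← hβ' z y hz.symm,
    show (⟨(((z⁻¹ : K.subgroupOf C) : C) : G), (z⁻¹).2⟩ : K)⁻¹ = x from Subtype.ext (by
      rw [e, ← hz]; simp), ← htr, ← hτtr] at h
  rw [show a * s * t⁻¹ * (τ y).trace = t⁻¹ * (a * (s * (τ y).trace)) by ring, ← h,
    inv_mul_cancel_left₀ ht0]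

/-- **The twist from the equality of factor sets modulo `M`.** -/
theorem hasTwist_of_factor (hM : IsPModular p M) (K : Subgroup G) [K.Normal] [Fintype K]
    (hKp : ¬ p ∣ Nat.card K) (P : Subgroup G) (hP : IsPGroup p P)
    [Fintype (K.subgroupOf (Subgroup.normalizer (P : Set G)))]
    (θ : IrrCharacter K) (hθ : ∀ g : G, conjIrr K θ g = θ)
    (β : IrrCharacter (K.subgroupOf (Subgroup.normalizer (P : Set G))))
    (hlink : IsCorrespondent p M K (Subgroup.normalizer (P : Set G)) (θ : K → ℂ) (β : _ → ℂ))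
    (hF : FactorLift K P (kres M)) :
    HasTwist K (Subgroup.normalizer (P : Set G)) (θ : K → ℂ) (β : _ → ℂ) := by
  classical
  have : CharP (kres M) p := charP_kres hM
  obtain ⟨β', hβ'⟩ := exists_irr_inf K (Subgroup.normalizer (P : Set G)) β
  let := Fintype.ofFinite (K ⊓ (Subgroup.normalizer (P : Set G)) : Subgroup G)
  have hCp : ¬ p ∣ Nat.card (K ⊓ (Subgroup.normalizer (P : Set G)) : Subgroup G) :=
    fun h => hKp (h.trans (Subgroup.card_dvd_of_le inf_le_left))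
  -- the four representations
  obtain ⟨n, ρ, hn, hρ, hθρ⟩ := exists_spans_complex K θ
  obtain ⟨n', ρk, hn', hdeg, hρk, hθk⟩ := exists_spans_modular hM K hKp θ
  obtain rfl : n' = n := by
    have h := hθρ 1
    rw [map_one, Matrix.trace_one, Fintype.card_fin, hdeg] at h
    exact_mod_cast h
  obtain ⟨s, σ, hs, hσ, hβσ⟩ := exists_spans_complex (K ⊓ (Subgroup.normalizer (P : Set G))) β'
  obtain ⟨s', σk, hs', hdeg', hσk, hβk⟩ := exists_spans_modular hM (K ⊓ (Subgroup.normalizer (P : Set G))) hCp β'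
  obtain rfl : s' = s := by
    have h := hβσ 1
    rw [map_one, Matrix.trace_one, Fintype.card_fin, hdeg'] at h
    exact_mod_cast h
  have : NeZero n' := ⟨hn⟩
  have : NeZero s' := ⟨hs⟩
  have htrρ : ∀ x, (ρk x).trace = redC M (ρ x).trace := fun x => by rw [hθk, hθρ]
  have htrσ : ∀ x, (σk x).trace = redC M (σ x).trace := fun x => by rw [hβk, hβσ]
  -- invariance
  have hθinv : ∀ (g : G) (a b : K), (b : G) = g * a * g⁻¹ → (θ : K → ℂ) b = (θ : K → ℂ) a := by
    intro g a b e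
    have h := congrArg (fun φ : IrrCharacter K => (φ : K → ℂ) a) (hθ g)
    simp only [conjIrr_apply] at h
    rw [← h]
    exact congrArg _ (Subtype.ext e)
  obtain ⟨m, hm, hcong⟩ := hlink
  have hmk : (m : kres M) ≠ 0 := by rw [Ne, CharP.cast_eq_zero_iff (kres M) p]; exact hm
  have hlk : ∀ (y : (K ⊓ (Subgroup.normalizer (P : Set G)) : Subgroup G)) (x : K), (x : G) = y →
      redC M ((θ : K → ℂ) x) = (m : kres M) * redC M ((β' : _ → ℂ) y) := by
    intro y x e
    obtain ⟨z, hz⟩ : ∃ z : K.subgroupOf (Subgroup.normalizer (P : Set G)), ((z : (Subgroup.normalizer (P : Set G))) : G) = (y : G) :=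
      ⟨⟨⟨(y : G), (Subgroup.mem_inf.1 y.2).2⟩, (Subgroup.mem_inf.1 y.2).1⟩, rfl⟩
    rw [hβ' z y hz.symm, ← redC_natCast, ← redC_mul (memLocalRing_natCast m) (memLocalRing_irr_apply β z),
      show x = ⟨((z : (Subgroup.normalizer (P : Set G))) : G), z.2⟩ from Subtype.ext (e.trans hz.symm)]
    exact (redC_eq_iff (memLocalRing_irr_apply θ _)
      (memLocalRing_mul (memLocalRing_natCast m) (memLocalRing_irr_apply β z))).2 (hcong z)
  have hnormK : ∀ h ∈ (Subgroup.normalizer (P : Set G)), ∀ x ∈ K, h * x * h⁻¹ ∈ K := fun h _ x hx =>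
    Subgroup.Normal.conj_mem ‹K.Normal› x hx h
  have hnormC : ∀ h ∈ (Subgroup.normalizer (P : Set G)), ∀ x ∈ K ⊓ (Subgroup.normalizer (P : Set G)), h * x * h⁻¹ ∈ K ⊓ (Subgroup.normalizer (P : Set G)) := fun h hh x hx =>
    Subgroup.mem_inf.2 ⟨hnormK h hh x (Subgroup.mem_inf.1 hx).1,
      mul_mem (mul_mem hh (Subgroup.mem_inf.1 hx).2) (inv_mem hh)⟩
  have hβinv : ∀ h ∈ (Subgroup.normalizer (P : Set G)), ∀ a b : (K ⊓ (Subgroup.normalizer (P : Set G)) : Subgroup G), (b : G) = h * a * h⁻¹ →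
      (β' : _ → ℂ) b = (β' : _ → ℂ) a := by
    intro h hh a b e
    let φ : (K ⊓ (Subgroup.normalizer (P : Set G)) : Subgroup G) →* (K ⊓ (Subgroup.normalizer (P : Set G)) : Subgroup G) :=
      { toFun := fun x => ⟨h * x * h⁻¹, hnormC h hh x x.2⟩
        map_one' := Subtype.ext (by simp)
        map_mul' := fun x y => Subtype.ext (by simp [mul_assoc]) }
    have hφ : Function.Surjective φ := fun x => ⟨⟨h⁻¹ * x * h, by
      simpa using hnormC h⁻¹ (inv_mem hh) x x.2⟩, Subtype.ext (by simp [φ, mul_assoc])⟩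
    have key := irr_eq_of_redC_eq hM hCp ⟨_, Char.isIrrCharacter_comp_surjective β'.2 φ hφ⟩ β' fun x => by
      refine mul_left_cancel₀ hmk ?_
      show (m : kres M) * redC M ((β' : _ → ℂ) (φ x)) = _
      rw [← hlk x ⟨(x : G), (Subgroup.mem_inf.1 x.2).1⟩ rfl,
        ← hlk (φ x) ⟨_, (Subgroup.mem_inf.1 (φ x).2).1⟩ rfl]
      exact congrArg (redC M) (hθinv h _ _ rfl)
    have h' := congr_fun (congrArg Subtype.val key) a
    rw [← h']
    exact congrArg _ (Subtype.ext e)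
  obtain ⟨A, hA, hAdet, hAf, hAint⟩ := exists_system hρ (Subgroup.normalizer (P : Set G)) hnormK fun h _ a b e => by
    rw [← hθρ, ← hθρ]; exact hθinv h a b e
  obtain ⟨B, hB, hBdet, hBf, hBint⟩ := exists_system hσ (Subgroup.normalizer (P : Set G)) hnormC fun h hh a b e => by
    rw [← hβσ, ← hβσ]; exact hβinv h hh a b e
  obtain ⟨hAk, hAkf⟩ := implements_reduce hM hKp hρ hρk htrρ hnormK hA hAdet hAint
  obtain ⟨hBk, hBkf⟩ := implements_reduce hM hCp hσ hσk htrσ hnormC hB hBdet hBint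
  obtain ⟨f, hf0, hfc, hsame⟩ := hF hn hs ρk σk hρk hσk
    ⟨(m : kres M), hmk, fun y x e => by rw [hθk, hβk]; exact hlk y x e⟩
    (fun g a b e => by rw [hθk, hθk, hθinv g a b e])
    (fun T hT => exists_linked_centralizer hM hKp (hP.to_le hT) θ hθ hρk hdeg hθk) _ hAk _ hBk
  choose cA hcA hcAe using hAf
  choose cB hcB hcBe using hBf
  have hcast : ∀ (L : Subgroup G) [Fintype L], ¬ p ∣ Nat.card L → (Fintype.card L : kres M) ≠ 0 :=
    fun L _ h => by rw [Ne, CharP.cast_eq_zero_iff (kres M) p, ← Nat.card_eq_fintype_card]; exact h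
  obtain ⟨N₁, hN₁⟩ : ∃ N₁, N₁ = n' * Nat.card K := ⟨_, rfl⟩
  obtain ⟨N₂, hN₂⟩ : ∃ N₂, N₂ = s' * Nat.card (K ⊓ (Subgroup.normalizer (P : Set G)) : Subgroup G) := ⟨_, rfl⟩
  have hN₁p : ¬ p ∣ N₁ := by
    rw [hN₁, hp.out.dvd_mul, not_or]
    refine ⟨fun h => hρk.natCast_ne_zero (hcast K hKp) ?_, hKp⟩
    rwa [CharP.cast_eq_zero_iff (kres M) p]
  have hN₂p : ¬ p ∣ N₂ := by
    rw [hN₂, hp.out.dvd_mul, not_or]
    refine ⟨fun h => hσk.natCast_ne_zero (hcast _ hCp) ?_, hCp⟩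
    rwa [CharP.cast_eq_zero_iff (kres M) p]
  have hN₁0 : N₁ ≠ 0 := fun h => hN₁p (h ▸ dvd_zero p)
  have hN₂0 : N₂ ≠ 0 := fun h => hN₂p (h ▸ dvd_zero p)
  have hcA' : ∀ h h', cA h h' ^ N₁ = 1 := fun h h' => hN₁ ▸ hcA h h'
  have hcB' : ∀ h h', cB h h' ^ N₂ = 1 := fun h h' => hN₂ ▸ hcB h h'
  have hRA := fun h h' => memLocalRing_root (M := M) hN₁0 (hcA' h h')
  have hRB := fun h h' => memLocalRing_root (M := M) hN₂0 (hcB' h h')
  have hmod : ∀ h h', f h * f h' * redC M (cB h h') = redC M (cA h h') * f (h * h') := by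
    intro h h'
    obtain ⟨e, h1, h2⟩ := hsame h h'
    rw [hAkf h h' _ (hRA h h') (hcAe h h')] at h1
    have e1 := smul_unit_inj (hAk.1 _) h1
    rw [smul_mul_smul_comm, hBkf h h' _ (hRB h h') (hcBe h h'), smul_smul, smul_smul] at h2
    rw [smul_unit_inj (hBk.1 _) h2, e1]
  -- the values of the correcting function are roots of unity
  obtain ⟨N, hN, hfN⟩ : ∃ N, N ≠ 0 ∧ ∀ h, f h ^ N = 1 := by
    have hmul : ∀ h h', f h ^ (N₁ * N₂) * f h' ^ (N₁ * N₂) = f (h * h') ^ (N₁ * N₂) := by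
      intro h h'
      have h1 : redC M (cA h h') ^ (N₁ * N₂) = 1 := by
        rw [← redC_pow' (hRA h h'), pow_mul, hcA', one_pow, redC_one]
      have h2 : redC M (cB h h') ^ (N₁ * N₂) = 1 := by
        rw [← redC_pow' (hRB h h'), mul_comm N₁, pow_mul, hcB', one_pow, redC_one]
      have h3 := congrArg (· ^ (N₁ * N₂)) (hmod h h')
      simpa [mul_pow, h1, h2] using h3
    let φ : (Subgroup.normalizer (P : Set G)) →* kres M :=
      { toFun := fun h => f h ^ (N₁ * N₂)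
        map_one' := by
          have h := hmul 1 1
          rw [mul_one] at h
          exact (mul_eq_left₀ (pow_ne_zero _ (hf0 1))).1 h
        map_mul' := fun h h' => (hmul h h').symm }
    refine ⟨N₁ * N₂ * Nat.card (Subgroup.normalizer (P : Set G)), Nat.mul_ne_zero (Nat.mul_ne_zero hN₁0 hN₂0) Nat.card_pos.ne',
      fun h => ?_⟩
    rw [pow_mul, show f h ^ (N₁ * N₂) = φ h from rfl, ← map_pow, pow_card_eq_one', map_one]
  -- lifting
  obtain ⟨ω, hω⟩ : ∃ ω : kres M → ℂ, ∀ x, x ^ N = 1 →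
      ∃ m, ¬ p ∣ m ∧ ω x ^ m = 1 ∧ redC M (ω x) = x := by
    refine ⟨fun x => if hx : x ^ N = 1 then (exists_root_lift hM hN hx).choose_spec.choose else 1,
      fun x hx => ?_⟩
    simp only [dif_pos hx]
    exact ⟨_, (exists_root_lift hM hN hx).choose_spec.choose_spec⟩
  have hω0 : ∀ h, ω (f h) ≠ 0 := fun h h0 => by
    obtain ⟨m, hm, -, hr⟩ := hω _ (hfN h)
    rw [h0, redC_zero] at hr
    exact hf0 h hr.symm
  refine ⟨n', s', ρ, σ, A, fun h => ω (f h) • B h, hρ, hσ, hθρ,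
    fun x y e => (hβ' x y e).symm.trans (hβσ y), hA, ⟨fun h => ?_, fun h x x' e => ?_,
      fun h h' x e => ?_⟩, fun h h' => ⟨cA h h', hcAe h h', ?_⟩⟩
  · exact (hB.1 h).smul (Units.mk0 _ (hω0 h))
  · show ω (f h) • B h * σ x = σ x' * (ω (f h) • B h)
    rw [smul_mul_assoc, hB.2.1 h x x' e, mul_smul_comm]
  · show ω (f h') • B h' = σ x * (ω (f h) • B h)
    rw [mul_smul_comm, hB.2.2 h h' x e, hfc h h' (by
      rw [e, mul_inv_cancel_right]; exact (Subgroup.mem_inf.1 x.2).1)]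
  · show ω (f h) • B h * (ω (f h') • B h') = cA h h' • ω (f (h * h')) • B (h * h')
    rw [smul_mul_smul_comm, hcBe, smul_smul, smul_smul]
    congr 1
    obtain ⟨a, ha, haz, har⟩ := hω _ (hfN h)
    obtain ⟨b, hb, hbz, hbr⟩ := hω _ (hfN h')
    obtain ⟨c, hc, hcz, hcr⟩ := hω _ (hfN (h * h'))
    have ra := memLocalRing_root (M := M) (fun h0 => ha (by rw [h0]; exact dvd_zero p)) haz
    have rb := memLocalRing_root (M := M) (fun h0 => hb (by rw [h0]; exact dvd_zero p)) hbz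
    have rc := memLocalRing_root (M := M) (fun h0 => hc (by rw [h0]; exact dvd_zero p)) hcz
    refine root_inj hM (m := a * b * c * N₁ * N₂) ?_ ?_ ?_ ?_
    · simp only [hp.out.dvd_mul, ha, hb, hc, hN₁p, hN₂p, or_self, not_false_eq_true]
    · rw [mul_pow, mul_pow]
      have e1 : ω (f h) ^ (a * b * c * N₁ * N₂) = 1 := by simp only [mul_assoc, pow_mul, haz, one_pow]
      have e2 : ω (f h') ^ (a * b * c * N₁ * N₂) = 1 := by
        rw [show a * b * c * N₁ * N₂ = b * (a * c * N₁ * N₂) by ring, pow_mul, hbz, one_pow]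
      have e3 : cB h h' ^ (a * b * c * N₁ * N₂) = 1 := by
        rw [show a * b * c * N₁ * N₂ = N₂ * (a * b * c * N₁) by ring, pow_mul, hcB', one_pow]
      rw [e1, e2, e3, one_mul, one_mul]
    · rw [mul_pow]
      have e1 : ω (f (h * h')) ^ (a * b * c * N₁ * N₂) = 1 := by
        rw [show a * b * c * N₁ * N₂ = c * (a * b * N₁ * N₂) by ring, pow_mul, hcz, one_pow]
      have e2 : cA h h' ^ (a * b * c * N₁ * N₂) = 1 := by
        rw [show a * b * c * N₁ * N₂ = N₁ * (a * b * c * N₂) by ring, pow_mul, hcA', one_pow]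
      rw [e1, e2, one_mul]
    · rw [redC_mul (memLocalRing_mul ra rb) (hRB h h'), redC_mul ra rb, redC_mul (hRA h h') rc,
        har, hbr, hcr, hmod]

end CfsgLib.BlockA.AbelianIso
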