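import Cfsg.Agent.Lib.BlockA.AbelianIso.Chain
import Cfsg.Agent.Lib.BlockA.AbelianIso.Lift

/-!
# The twist between an invariant character and its correspondent
-/

set_option autoImplicit false
set_option linter.unusedSectionVars false

namespace CfsgLib.BlockA.AbelianIso

open Cfsg CfsgLib CfsgLib.Block CfsgLib.BlockA

universe u

/-- **The twist between `θ` and its correspondent `β`, for an abelian `p`-group `P`.** -/
theorem hasTwist {G : Type u} [Group G] [Fintype G] {p : ℕ} [Fact p.Prime] {M : Ideal AlgInt}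
    [M.IsPrime] (hM : IsPModular p M) (K : Subgroup G) [K.Normal] [Fintype K]
    (hKp : ¬ p ∣ Nat.card K) (P : Subgroup G) (hP : IsPGroup p P)
    (hab : ∀ x ∈ P, ∀ y ∈ P, x * y = y * x)
    [Fintype (K.subgroupOf (Subgroup.normalizer (P : Set G)))] (θ : IrrCharacter K)
    (hθ : ∀ g : G, conjIrr K θ g = θ)
    (β : IrrCharacter (K.subgroupOf (Subgroup.normalizer (P : Set G))))
    (hlink : IsCorrespondent p M K (Subgroup.normalizer (P : Set G)) (θ : K → ℂ) (β : _ → ℂ)) :
    HasTwist K (Subgroup.normalizer (P : Set G)) (θ : K → ℂ) (β : _ → ℂ) := by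
  have : CharP (kres M) p := charP_kres hM
  have : IsAlgClosed (kres M) := isAlgClosed_kres
  exact hasTwist_of_factor hM K hKp P hP θ hθ β hlink fun {n s} hn hs ρ σ a b c d e A hA B hB =>
    exists_factor_abelian K P hKp hP hab hn hs ρ σ a b c d e A hA B hB

end CfsgLib.BlockA.AbelianIso
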