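import Cfsg.Agent.Lib.BlockA.AbelianIso.Orbit
import Mathlib.LinearAlgebra.Dual.Lemmas

/-!
# Matrix units on the homology of a nilpotent matrix

If matrix units of size `s` act on `ker y / im y ^ (p-1)` and the homology of `ad y` has dimension at
most `s ^ 2`, then `ker y / im y ^ (p-1)` is their simple module.
-/

set_option autoImplicit false
set_option maxHeartbeats 400000
set_option linter.unusedSectionVars false

namespace CfsgLib.BlockA.AbelianIso

open Matrix Module
open scoped Classical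

variable {F : Type*} [Field F] {n s p : ℕ} [hp : Fact p.Prime] [CharP F p]

/-- The image of `y ^ (p-1)`. -/
noncomputable def imTop (p : ℕ) (y : Matrix (Fin n) (Fin n) F) : Submodule F (Fin n → F) :=
  LinearMap.range (y ^ (p - 1)).mulVecLin

/-- `X` acts as zero on the homology. -/
def Kills (p : ℕ) (y X : Matrix (Fin n) (Fin n) F) : Prop :=
  ∀ v, y *ᵥ v = 0 → X *ᵥ v ∈ imTop p y

theorem mulVec_mem_imTop {y X : Matrix (Fin n) (Fin n) F} (hX : Commute y X) {v : Fin n → F}
    (hv : v ∈ imTop p y) : X *ᵥ v ∈ imTop p y := by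
  obtain ⟨z, rfl⟩ := hv
  refine ⟨X *ᵥ z, ?_⟩
  show (y ^ (p - 1)) *ᵥ (X *ᵥ z) = X *ᵥ ((y ^ (p - 1)) *ᵥ z)
  rw [Matrix.mulVec_mulVec, Matrix.mulVec_mulVec, (hX.pow_left _).eq]

theorem mulVec_ker {y X : Matrix (Fin n) (Fin n) F} (hX : Commute y X) {v : Fin n → F}
    (hv : y *ᵥ v = 0) : y *ᵥ (X *ᵥ v) = 0 := by
  rw [Matrix.mulVec_mulVec, hX.eq, ← Matrix.mulVec_mulVec, hv, Matrix.mulVec_zero]

/-- Without homology the size is a multiple of `p`. -/
theorem exists_not_mem_imTop (hn : (n : F) ≠ 0) {y : Matrix (Fin n) (Fin n) F} (hyp : y ^ p = 0) :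
    ∃ v, y *ᵥ v = 0 ∧ v ∉ imTop p y := by
  by_contra hall
  push Not at hall
  have hp1 : p - 1 + 1 = p := Nat.sub_add_cancel hp.out.one_le
  have hle : ∀ i, i ≤ p → LinearMap.ker ((y ^ i).mulVecLin) ≤
      LinearMap.range ((y ^ (p - i)).mulVecLin) := by
    intro i
    induction i with
    | zero =>
      intro _ v hv
      rw [LinearMap.mem_ker, Matrix.mulVecLin_apply, pow_zero, Matrix.one_mulVec] at hv
      exact hv ▸ Submodule.zero_mem _
    | succ i ih =>
      intro hi v hv
      rw [LinearMap.mem_ker, Matrix.mulVecLin_apply] at hv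
      obtain ⟨z, hz⟩ := hall ((y ^ i) *ᵥ v) (by rw [Matrix.mulVec_mulVec, ← pow_succ', hv])
      have h2 : v - (y ^ (p - (i + 1))) *ᵥ z ∈ LinearMap.ker ((y ^ i).mulVecLin) := by
        rw [LinearMap.mem_ker, Matrix.mulVecLin_apply, Matrix.mulVec_sub, Matrix.mulVec_mulVec,
          ← pow_add, show i + (p - (i + 1)) = p - 1 by omega]
        exact sub_eq_zero.2 hz.symm
      obtain ⟨z', hz'⟩ := ih (by omega) h2
      refine ⟨y *ᵥ z' + z, ?_⟩
      rw [Matrix.mulVecLin_apply] at hz' ⊢
      rw [Matrix.mulVec_add, Matrix.mulVec_mulVec, ← pow_succ,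
        show p - (i + 1) + 1 = p - i by omega, hz', sub_add_cancel]
  have hdim : ∀ i, i ≤ p → finrank F (LinearMap.ker ((y ^ i).mulVecLin)) =
      i * finrank F (LinearMap.ker y.mulVecLin) := by
    intro i
    induction i with
    | zero =>
      intro _
      rw [pow_zero, zero_mul, Matrix.mulVecLin_one, LinearMap.ker_id, finrank_bot]
    | succ i ih =>
      intro hi
      let g := (y.mulVecLin.comp (LinearMap.ker ((y ^ (i + 1)).mulVecLin)).subtype).codRestrict
        (LinearMap.ker ((y ^ i).mulVecLin)) fun v => by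
          show (y ^ i) *ᵥ (y *ᵥ (v : Fin n → F)) = 0
          rw [Matrix.mulVec_mulVec, ← pow_succ]
          exact v.2
      have hg : LinearMap.range g = ⊤ := by
        rw [eq_top_iff]
        rintro ⟨v, hv⟩ -
        obtain ⟨z, hz⟩ := hle i (by omega) hv
        have hz' : (y ^ (p - i)) *ᵥ z = v := hz
        refine ⟨⟨(y ^ (p - i - 1)) *ᵥ z, ?_⟩, Subtype.ext ?_⟩
        · show (y ^ (i + 1)) *ᵥ _ = 0
          rw [Matrix.mulVec_mulVec, ← pow_add, show i + 1 + (p - i - 1) = p by omega, hyp,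
            Matrix.zero_mulVec]
        · show y *ᵥ ((y ^ (p - i - 1)) *ᵥ z) = v
          rw [Matrix.mulVec_mulVec, ← pow_succ', show p - i - 1 + 1 = p - i by omega, hz']
      have h1 := g.finrank_range_add_finrank_ker
      rw [hg, finrank_top, ih (by omega)] at h1
      have h2 : finrank F (LinearMap.ker g) = finrank F (LinearMap.ker y.mulVecLin) :=
        LinearEquiv.finrank_eq
          { toFun := fun v => ⟨((v : LinearMap.ker ((y ^ (i + 1)).mulVecLin)) : Fin n → F),
              congrArg Subtype.val v.2⟩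
            map_add' := fun _ _ => rfl
            map_smul' := fun _ _ => rfl
            invFun := fun v => ⟨⟨(v : Fin n → F), by
              show (y ^ (i + 1)) *ᵥ _ = 0
              rw [pow_succ, ← Matrix.mulVec_mulVec, show y *ᵥ (v : Fin n → F) = 0 from v.2,
                Matrix.mulVec_zero]⟩, Subtype.ext v.2⟩
            left_inv := fun _ => rfl
            right_inv := fun _ => rfl }
      rw [← h1, h2, add_mul, one_mul]
  have h := hdim p le_rfl
  rw [hyp, show (0 : Matrix (Fin n) (Fin n) F).mulVecLin = 0 from Matrix.mulVecLin_zero,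
    LinearMap.ker_zero, finrank_top, Module.finrank_fin_fun] at h
  exact hn (by rw [h, Nat.cast_mul, CharP.cast_eq_zero F p, zero_mul])

/-- A matrix commuting with `y` that maps the kernel onto the line of a class `w`. -/
theorem exists_rank_one {y : Matrix (Fin n) (Fin n) F} {w : Fin n → F} (hw : y *ᵥ w = 0)
    (hwI : w ∉ imTop p y) : ∃ (X : Matrix (Fin n) (Fin n) F) (lam : (Fin n → F) →ₗ[F] F),
      Commute y X ∧ lam w = 1 ∧ ∀ v, y *ᵥ v = 0 → X *ᵥ v = lam v • w := by
  have hp2 := hp.out.two_le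
  have hex : ∃ i, w ∉ LinearMap.range (y ^ (i + 1)).mulVecLin :=
    ⟨p - 2, by rwa [show p - 2 + 1 = p - 1 by omega]⟩
  set i := Nat.find hex with hi
  obtain ⟨u, hu⟩ : ∃ u, (y ^ i) *ᵥ u = w := by
    rcases Nat.eq_zero_or_pos i with h0 | h0
    · exact ⟨w, by rw [h0, pow_zero, Matrix.one_mulVec]⟩
    · have := Nat.find_min hex (m := i - 1) (by omega)
      rw [not_not, Nat.sub_add_cancel h0] at this
      exact this
  obtain ⟨g, hgw, hgR⟩ :=
    Submodule.exists_dual_map_eq_bot_of_notMem (Nat.find_spec hex) inferInstance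
  set lam := (g w)⁻¹ • g with hlamdef
  have hlw : lam w = 1 := by simp [hlamdef, inv_mul_cancel₀ hgw]
  have hlR : ∀ z, lam ((y ^ (i + 1)) *ᵥ z) = 0 := fun z => by
    have h1 : g ((y ^ (i + 1)) *ᵥ z) = 0 := by
      have h2 : g ((y ^ (i + 1)) *ᵥ z) ∈
          (LinearMap.range (y ^ (i + 1)).mulVecLin).map g := ⟨_, ⟨z, rfl⟩, rfl⟩
      rw [hgR] at h2
      exact h2
    simp [hlamdef, h1]
  let T : (Fin n → F) →ₗ[F] (Fin n → F) :=
    ∑ a ∈ Finset.range (i + 1), LinearMap.smulRight (lam.comp (y ^ (i - a)).mulVecLin)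
      ((y ^ a) *ᵥ u)
  have hTapply : ∀ x, T x = ∑ a ∈ Finset.range (i + 1),
      lam ((y ^ (i - a)) *ᵥ x) • ((y ^ a) *ᵥ u) := fun x => by
    simp only [T, LinearMap.sum_apply, LinearMap.smulRight_apply, LinearMap.comp_apply,
      Matrix.mulVecLin_apply]
  set X := LinearMap.toMatrix' T with hX
  have hXv : ∀ x, X *ᵥ x = T x := fun x => by rw [hX, LinearMap.toMatrix'_mulVec]
  have hu1 : (y ^ (i + 1)) *ᵥ u = 0 := by
    rw [pow_succ', ← Matrix.mulVec_mulVec, hu, hw]
  refine ⟨X, lam, ?_, hlw, fun v hv => ?_⟩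
  · show y * X = X * y
    refine Matrix.ext_iff_mulVec.2 fun x => ?_
    rw [← Matrix.mulVec_mulVec, ← Matrix.mulVec_mulVec, hXv, hXv, hTapply, hTapply,
      Matrix.mulVec_sum, Finset.sum_range_succ, Finset.sum_range_succ', Nat.sub_self]
    simp only [Matrix.mulVec_smul, Matrix.mulVec_mulVec, ← pow_succ', Nat.sub_zero, pow_zero,
      Matrix.one_mulVec, hu1, smul_zero, add_zero]
    rw [← pow_succ, hlR, zero_smul, add_zero]
    refine Finset.sum_congr rfl fun a ha => ?_
    rw [← pow_succ, show i - (a + 1) + 1 = i - a by have := Finset.mem_range.1 ha; omega]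
  · rw [hXv, hTapply, Finset.sum_eq_single_of_mem i (Finset.self_mem_range_succ i)]
    · rw [Nat.sub_self, pow_zero, Matrix.one_mulVec, hu]
    · intro a ha hne
      have := Finset.mem_range.1 ha
      rw [show i - a = (i - a - 1) + 1 by omega, pow_succ, ← Matrix.mulVec_mulVec, hv,
        Matrix.mulVec_zero, map_zero, zero_smul]

/-- **The simple module of the matrix units.** -/
theorem exists_coordinates [NeZero n] [NeZero s] (hn : (n : F) ≠ 0)
    {y : Matrix (Fin n) (Fin n) F} (hyp : y ^ p = 0)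
    (X : Fin s → Fin s → Matrix (Fin n) (Fin n) F) (hXc : ∀ i j, Commute y (X i j))
    (hXmul : ∀ i j j' l, Kills p y (X i j * X j' l - if j = j' then X i l else 0))
    (hXone : Kills p y (∑ i, X i i - 1))
    (hrank : n * n ≤ finrank F (LinearMap.range (ad y)) +
      finrank F (LinearMap.range ((ad y) ^ (p - 1))) + s * s) :
    ∃ (U : Matrix (Fin n) (Fin s) F) (V : Matrix (Fin s) (Fin n) F),
      y * U = 0 ∧ V * y ^ (p - 1) = 0 ∧ V * U = 1 ∧
      (∀ a b v, y *ᵥ v = 0 → V *ᵥ (X a b *ᵥ v) = Matrix.single a b (1 : F) *ᵥ (V *ᵥ v)) ∧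
      ∀ v, y *ᵥ v = 0 → v - U *ᵥ (V *ᵥ v) ∈ imTop p y := by
  set I := imTop p y with hI
  let Eqv : (Fin n → F) → (Fin n → F) → Prop := fun v w => v - w ∈ I
  have hmul : ∀ i j j' l v, y *ᵥ v = 0 →
      X i j *ᵥ (X j' l *ᵥ v) - (if j = j' then X i l *ᵥ v else 0) ∈ I := fun i j j' l v hv => by
    have h := hXmul i j j' l v hv
    rw [Matrix.sub_mulVec, ← Matrix.mulVec_mulVec] at h
    split_ifs with hjj <;> simpa [hjj] using h
  have hone : ∀ v, y *ᵥ v = 0 → (∑ i, X i i *ᵥ v) - v ∈ I := fun v hv => by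
    have h := hXone v hv
    rwa [Matrix.sub_mulVec, Matrix.sum_mulVec, Matrix.one_mulVec] at h
  set o : Fin s := ⟨0, Nat.pos_of_ne_zero (NeZero.ne s)⟩ with ho
  -- a class fixed by the first idempotent
  obtain ⟨w, hwk, hwI, hwo⟩ : ∃ w, y *ᵥ w = 0 ∧ w ∉ I ∧ X o o *ᵥ w - w ∈ I := by
    obtain ⟨v, hv, hvI⟩ := exists_not_mem_imTop hn hyp
    obtain ⟨i, hi⟩ : ∃ i, X i i *ᵥ v ∉ I := by
      by_contra hall
      push Not at hall
      refine hvI ?_
      have := I.sub_mem (I.sum_mem (t := Finset.univ) fun i _ => hall i) (hone v hv)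
      rwa [sub_sub_cancel] at this
    refine ⟨X o i *ᵥ v, mulVec_ker (hXc o i) hv, fun h => hi ?_, ?_⟩
    · have h1 := mulVec_mem_imTop (hXc i o) h
      have h2 := hmul i o o i v hv
      rw [if_pos rfl] at h2
      have h3 := I.sub_mem h1 h2
      rwa [sub_sub_cancel] at h3
    · have := hmul o o o i v hv
      rwa [if_pos rfl] at this
  obtain ⟨g, hgw, hgI⟩ := Submodule.exists_dual_map_eq_bot_of_notMem hwI inferInstance
  set lam0 := (g w)⁻¹ • g with hlam0
  have hl0w : lam0 w = 1 := by simp [hlam0, inv_mul_cancel₀ hgw]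
  have hl0I : ∀ z ∈ I, lam0 z = 0 := fun z hz => by
    have h2 : g z ∈ I.map g := ⟨z, hz, rfl⟩
    rw [hgI] at h2
    simp [hlam0, (show g z = 0 from h2)]
  -- the commutant modulo the image of `(ad y) ^ (p-1)`
  let XF : Fin s × Fin s → Matrix (Fin n) (Fin n) F := fun ij => X ij.1 ij.2
  have hkillR : ∀ Z v, y *ᵥ v = 0 → (((ad y) ^ (p - 1)) Z) *ᵥ v ∈ I := fun Z v hv =>
    ⟨Z *ᵥ v, (ad_pow_mulVec (p := p) hv).symm⟩
  have hcoef : ∀ (c : Fin s × Fin s → F) (r : Fin n → F) (a : Fin s), y *ᵥ r = 0 →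
      X o o *ᵥ r - r ∈ I →
      X o a *ᵥ ((∑ ij, c ij • XF ij) *ᵥ r) - c (a, o) • r ∈ I := by
    intro c r a hr hro
    have h1 : ∀ ij : Fin s × Fin s,
        X o a *ᵥ ((c ij • XF ij) *ᵥ r) - (if ij = (a, o) then c ij • r else 0) ∈ I := by
      rintro ⟨b, d⟩
      rw [Matrix.smul_mulVec, Matrix.mulVec_smul]
      have h2 := hmul o a b d r hr
      have hod : ∀ d', d' ≠ o → X o d' *ᵥ r ∈ I := by
        intro d' hd'
        have h4 := mulVec_mem_imTop (p := p) (hXc o d') hro
        rw [Matrix.mulVec_sub] at h4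
        have h5 := hmul o d' o o r hr
        rw [if_neg hd', sub_zero] at h5
        have h6 := I.sub_mem h5 h4
        rwa [sub_sub_cancel] at h6
      by_cases hab : a = b
      · subst hab
        rw [if_pos rfl] at h2
        by_cases hd : d = o
        · subst hd
          rw [if_pos rfl, ← smul_sub]
          refine I.smul_mem _ ?_
          have := I.add_mem h2 hro
          rwa [sub_add_sub_cancel] at this
        · rw [if_neg (fun e => hd (congrArg Prod.snd e)), sub_zero]
          refine I.smul_mem _ ?_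
          have := I.add_mem h2 (hod d hd)
          rwa [sub_add_cancel] at this
      · rw [if_neg hab, sub_zero] at h2
        rw [if_neg (fun e => hab (congrArg Prod.fst e).symm), sub_zero]
        exact I.smul_mem _ h2
    have h := I.sum_mem (t := Finset.univ) fun ij _ => h1 ij
    rw [Finset.sum_sub_distrib, ← Matrix.mulVec_sum, ← Matrix.sum_mulVec,
      Finset.sum_ite_eq', if_pos (Finset.mem_univ _)] at h
    exact h
  have hdisj : ∀ c : Fin s × Fin s → F,
      ∑ ij, c ij • XF ij ∈ LinearMap.range ((ad y) ^ (p - 1)) → c = 0 := by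
    intro c hc
    obtain ⟨Z, hZ⟩ := hc
    funext ⟨a, b⟩
    -- test on the class `X b o w`
    have hv : y *ᵥ (X b o *ᵥ w) = 0 := mulVec_ker (hXc b o) hwk
    have h0 : (∑ ij, c ij • XF ij) *ᵥ (X b o *ᵥ w) ∈ I := hZ ▸ hkillR Z _ hv
    have h1 : X o a *ᵥ ((∑ ij, c ij • XF ij) *ᵥ (X b o *ᵥ w)) - c (a, b) • w ∈ I := by
      have h2 : ∀ ij : Fin s × Fin s, X o a *ᵥ ((c ij • XF ij) *ᵥ (X b o *ᵥ w)) -
          (if ij = (a, b) then c ij • w else 0) ∈ I := by
        rintro ⟨a', b'⟩
        rw [Matrix.smul_mulVec, Matrix.mulVec_smul]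
        have h3 := mulVec_mem_imTop (p := p) (hXc o a) (hmul a' b' b o w hwk)
        rw [Matrix.mulVec_sub] at h3
        by_cases hb : b' = b
        · subst hb
          rw [if_pos rfl] at h3
          have h4 := hmul o a a' o w hwk
          by_cases ha : a = a'
          · subst ha
            rw [if_pos rfl] at h4
            rw [if_pos rfl, ← smul_sub]
            refine I.smul_mem _ ?_
            have := I.add_mem (I.add_mem h3 h4) hwo
            rwa [sub_add_sub_cancel, sub_add_sub_cancel] at this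
          · rw [if_neg ha, sub_zero] at h4
            rw [if_neg (fun e => ha (congrArg Prod.fst e).symm), sub_zero]
            refine I.smul_mem _ ?_
            have := I.add_mem h3 h4
            rwa [sub_add_cancel] at this
        · rw [if_neg hb, Matrix.mulVec_zero, sub_zero] at h3
          rw [if_neg (fun e => hb (congrArg Prod.snd e)), sub_zero]
          exact I.smul_mem _ h3
      have h := I.sum_mem (t := Finset.univ) fun ij _ => h2 ij
      rw [Finset.sum_sub_distrib, ← Matrix.mulVec_sum, ← Matrix.sum_mulVec,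
        Finset.sum_ite_eq', if_pos (Finset.mem_univ _)] at h
      exact h
    have h5 := I.sub_mem (mulVec_mem_imTop (hXc o a) h0) h1
    rw [sub_sub_cancel] at h5
    by_contra hne
    exact hwI ((I.smul_mem_iff hne).1 h5)
  have hSX : LinearIndependent F XF := by
    rw [Fintype.linearIndependent_iff]
    exact fun c hc ij => congrFun (hdisj c (hc ▸ Submodule.zero_mem _)) ij
  set SX := Submodule.span F (Set.range XF)
  set RI := LinearMap.range ((ad y) ^ (p - 1))
  have hinf : SX ⊓ RI = ⊥ := by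
    rw [Submodule.eq_bot_iff]
    rintro Y ⟨h1, h2⟩
    obtain ⟨c, rfl⟩ := (Submodule.mem_span_range_iff_exists_fun F).1 h1
    simp [hdisj c h2]
  have hsup : SX ⊔ RI = LinearMap.ker (ad y) := by
    have hle : SX ⊔ RI ≤ LinearMap.ker (ad y) := by
      refine sup_le (Submodule.span_le.2 ?_) ?_
      · rintro _ ⟨ij, rfl⟩
        show ad y _ = 0
        rw [ad_apply, (hXc ij.1 ij.2).eq, sub_self]
      · rintro _ ⟨Z, rfl⟩
        rw [LinearMap.mem_ker, ← Module.End.mul_apply, ← pow_succ',
          Nat.sub_add_cancel hp.out.one_le, ad_pow_char, hyp, ad_apply, zero_mul, mul_zero,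
          sub_self]
    refine Submodule.eq_of_le_of_finrank_le hle ?_
    have e1 := Submodule.finrank_sup_add_finrank_inf_eq SX RI
    rw [hinf, finrank_bot, add_zero, finrank_span_eq_card hSX, Fintype.card_prod,
      Fintype.card_fin] at e1
    have e2 := (ad y).finrank_range_add_finrank_ker
    rw [Module.finrank_matrix, Fintype.card_fin, finrank_self, mul_one] at e2
    rw [e1]
    omega
  -- one dimension
  have hline : ∀ q, y *ᵥ q = 0 → X o o *ᵥ q - q ∈ I → q - lam0 q • w ∈ I := by
    intro q hq hqo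
    obtain ⟨T, lam, hTc, hlw, hT⟩ := exists_rank_one hwk hwI
    have hTk : T ∈ LinearMap.ker (ad y) := by rw [LinearMap.mem_ker, ad_apply, hTc.eq, sub_self]
    rw [← hsup, Submodule.mem_sup] at hTk
    obtain ⟨T1, hT1, T2, ⟨Z, rfl⟩, hTeq⟩ := hTk
    obtain ⟨c, rfl⟩ := (Submodule.mem_span_range_iff_exists_fun F).1 hT1
    have key : ∀ r, y *ᵥ r = 0 → X o o *ᵥ r - r ∈ I → lam r • w - c (o, o) • r ∈ I := by
      intro r hr hro
      have h1 := hcoef c r o hr hro
      have h2 : (∑ ij, c ij • XF ij) *ᵥ r = lam r • w - (((ad y) ^ (p - 1)) Z) *ᵥ r := by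
        rw [← hT r hr, ← hTeq, Matrix.add_mulVec, add_sub_cancel_right]
      rw [h2, Matrix.mulVec_sub, Matrix.mulVec_smul] at h1
      have h3 := mulVec_mem_imTop (p := p) (hXc o o) (hkillR Z r hr)
      have h4 := I.sub_mem (I.add_mem h1 h3) (I.smul_mem (lam r) hwo)
      convert h4 using 1
      rw [smul_sub]
      abel
    have hc : c (o, o) = 1 := by
      have h1 := key w hwk hwo
      rw [hlw, ← sub_smul] at h1
      by_contra hne
      exact hwI ((I.smul_mem_iff (sub_ne_zero.2 (Ne.symm hne))).1 h1)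
    have h1 := key q hq hqo
    rw [hc, one_smul] at h1
    have h2 : lam0 q = lam q := by
      have := hl0I _ h1
      rw [map_sub, map_smul, hl0w, smul_eq_mul, mul_one, sub_eq_zero] at this
      exact this.symm
    rw [h2, ← neg_sub]
    exact I.neg_mem h1
  -- the coordinates
  refine ⟨Matrix.of fun a i => (X i o *ᵥ w) a,
    LinearMap.toMatrix' (LinearMap.pi fun i => lam0.comp (X o i).mulVecLin), ?_, ?_, ?_, ?_, ?_⟩
  · ext a i
    exact congrFun (mulVec_ker (hXc i o) hwk) a
  · refine Matrix.ext_iff_mulVec.2 fun z => ?_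
    rw [← Matrix.mulVec_mulVec, Matrix.zero_mulVec, LinearMap.toMatrix'_mulVec]
    funext i
    exact hl0I _ (mulVec_mem_imTop (hXc o i) ⟨z, rfl⟩)
  · refine Matrix.ext fun i j => ?_
    rw [Matrix.mul_apply', show (fun a => (Matrix.of fun a i => (X i o *ᵥ w) a) a j) =
      X j o *ᵥ w from rfl]
    show (LinearMap.toMatrix' _ *ᵥ (X j o *ᵥ w)) i = _
    rw [LinearMap.toMatrix'_mulVec]
    show lam0 (X o i *ᵥ (X j o *ᵥ w)) = _
    have h := hl0I _ (hmul o i j o w hwk)
    rw [map_sub, sub_eq_zero] at h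
    rw [h, Matrix.one_apply]
    split_ifs with hij
    · have := hl0I _ hwo
      rw [map_sub, sub_eq_zero] at this
      rw [this, hl0w]
    · exact map_zero lam0
  · intro a b v hv
    rw [LinearMap.toMatrix'_mulVec, LinearMap.toMatrix'_mulVec]
    funext i
    show lam0 (X o i *ᵥ (X a b *ᵥ v)) = _
    have h := hl0I _ (hmul o i a b v hv)
    rw [map_sub, sub_eq_zero] at h
    rw [h, Matrix.single_mulVec]
    by_cases hia : i = a
    · subst hia
      rw [if_pos rfl, Function.update_self, one_mul]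
      rfl
    · rw [if_neg hia, map_zero, Function.update_of_ne hia]
      rfl
  · intro v hv
    rw [LinearMap.toMatrix'_mulVec]
    have h1 : ∀ i, X i i *ᵥ v - lam0 (X o i *ᵥ v) • (X i o *ᵥ w) ∈ I := by
      intro i
      have hq : y *ᵥ (X o i *ᵥ v) = 0 := mulVec_ker (hXc o i) hv
      have h2 := hmul o o o i v hv
      rw [if_pos rfl] at h2
      have h3 := mulVec_mem_imTop (p := p) (hXc i o) (hline _ hq h2)
      rw [Matrix.mulVec_sub, Matrix.mulVec_smul] at h3
      have h4 := hmul i o o i v hv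
      rw [if_pos rfl] at h4
      have := I.sub_mem h3 h4
      rwa [sub_sub_sub_cancel_left] at this
    have h2 := I.sub_mem (I.sum_mem (t := Finset.univ) fun i _ => h1 i) (hone v hv)
    rw [Finset.sum_sub_distrib, sub_sub_sub_cancel_left] at h2
    convert h2 using 2
    funext a
    rw [Finset.sum_apply]
    simp only [Matrix.mulVec, dotProduct, Matrix.of_apply, Pi.smul_apply, smul_eq_mul,
      LinearMap.pi_apply, LinearMap.comp_apply, Matrix.mulVecLin_apply]
    exact Finset.sum_congr rfl fun i _ => mul_comm _ _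

end CfsgLib.BlockA.AbelianIso
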