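import Cfsg.Agent.Lib.BlockA.AbelianIso.Kills
import Cfsg.Agent.Lib.BlockA.AbelianIso.MatrixUnits
import Mathlib.Algebra.MonoidAlgebra.Lift

/-!
# The homology of the general element is the correspondent

`ker y / im y ^ (p-1)` for the general element `y` is a simple module of the matrix algebra of the
correspondent `σ` on the fixed points, of dimension its degree.
-/

set_option autoImplicit false
set_option maxHeartbeats 1000000
set_option linter.unusedSectionVars false

namespace CfsgLib.BlockA.AbelianIso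

open Matrix Module
open scoped Classical

universe u v

variable {G : Type u} [Group G] [Finite G] {k : Type v} [Field k] {p : ℕ} [hp : Fact p.Prime]
  [CharP k p] [IsAlgClosed k] (D : Ops G k p) [Fintype D.S] [Fintype D.K]

/-- Iterated commutators commute with ring homomorphisms. -/
theorem ad_pow_map {R L : Type*} [CommRing R] [Field L] (φ : R →+* L) {n : ℕ}
    (Y X : Matrix (Fin n) (Fin n) R) :
    ∀ q : ℕ, ((ad (Y.map φ)) ^ q) (X.map φ) = ((fun Z => Y * Z - Z * Y)^[q] X).map φ := by
  intro q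
  induction q with
  | zero => rfl
  | succ q ih =>
    rw [pow_succ', Module.End.mul_apply, ih, ad_apply, Function.iterate_succ_apply']
    simp only [← RingHom.mapMatrix_apply, map_sub, map_mul]

/-- **Generic rank.** -/
theorem Ops.finrank_range_le (t : D.S → Matrix (Fin D.n) (Fin D.n) k) (a : D.S → k) (q : ℕ) :
    finrank k (LinearMap.range ((ad (∑ w, a w • t w)) ^ q)) ≤
      finrank D.F (LinearMap.range ((ad (D.gy t)) ^ q)) := by
  set YR : Matrix (Fin D.n) (Fin D.n) D.R :=
    ∑ w, (MvPolynomial.X w : D.R) • ((t w).map MvPolynomial.C - 1) with hYR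
  have hYk : YR.map (MvPolynomial.eval a) = ∑ w, a w • t w - (∑ w, a w) • 1 := by
    rw [hYR, Finset.sum_smul, ← Finset.sum_sub_distrib]
    ext i j
    simp [Matrix.sum_apply, mul_sub, Matrix.one_apply, apply_ite (MvPolynomial.eval a)]
  have hYF : YR.map (algebraMap D.R D.F) = D.gy t := by
    rw [hYR, Ops.gy, ← RingHom.mapMatrix_apply, map_sum]
    refine Finset.sum_congr rfl fun w _ => ?_
    ext i j
    by_cases h : i = j <;>
      simp [Ops.var, Ops.inc, Matrix.one_apply, h, mul_sub, smul_eq_mul]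
  have had : ad (YR.map (MvPolynomial.eval a)) = ad (∑ w, a w • t w) := by
    refine LinearMap.ext fun Z => ?_
    rw [hYk, ad_apply, ad_apply, sub_mul, mul_sub, smul_mul_assoc, mul_smul_comm, one_mul, mul_one]
    abel
  let bR := Module.finBasis k (LinearMap.range ((ad (∑ w, a w • t w)) ^ q))
  choose u hu using fun i => LinearMap.mem_range.1 (bR i).2
  let P : Fin (finrank k (LinearMap.range ((ad (∑ w, a w • t w)) ^ q))) →
      Fin D.n × Fin D.n → D.R := fun i z =>
    ((fun Z => YR * Z - Z * YR)^[q] ((u i).map MvPolynomial.C)) z.1 z.2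
  let eK : Matrix (Fin D.n) (Fin D.n) k →ₗ[k] (Fin D.n × Fin D.n → k) :=
    { toFun := fun M z => M z.1 z.2, map_add' := fun _ _ => rfl, map_smul' := fun _ _ => rfl }
  let eF : Matrix (Fin D.n) (Fin D.n) D.F →ₗ[D.F] (Fin D.n × Fin D.n → D.F) :=
    { toFun := fun M z => M z.1 z.2, map_add' := fun _ _ => rfl, map_smul' := fun _ _ => rfl }
  have heval : ∀ i, (fun z => MvPolynomial.eval a (P i z)) =
      eK (((ad (∑ w, a w • t w)) ^ q) (u i)) := by
    intro i
    funext z
    rw [← had]
    have h := ad_pow_map (MvPolynomial.eval a) YR ((u i).map MvPolynomial.C) q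
    have h2 : ((u i).map MvPolynomial.C).map (MvPolynomial.eval a) = u i := by ext; simp
    rw [h2] at h
    rw [h]
    rfl
  obtain ⟨d, hd, hind⟩ := exists_indep_cert (MvPolynomial.eval a) MvPolynomial.C
    (fun x => MvPolynomial.eval_C x) P (by
      rw [funext heval]
      have e : (fun i => eK (((ad (∑ w, a w • t w)) ^ q) (u i))) = fun i => eK (bR i) :=
        funext fun i => congrArg eK (hu i)
      rw [e]
      refine (bR.linearIndependent.map' (LinearMap.range _).subtype
        (Submodule.ker_subtype _)).map' eK ?_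
      exact LinearMap.ker_eq_bot.2 fun M N h => Matrix.ext fun i j => congrFun h (i, j))
  have hd0 : algebraMap D.R D.F d ≠ 0 := by
    rw [map_ne_zero_iff _ (IsFractionRing.injective D.R D.F)]
    intro h
    rw [h, map_zero] at hd
    exact zero_ne_one hd
  have hi := hind D.F (algebraMap D.R D.F) hd0
  have hPF : ∀ i, (fun z => algebraMap D.R D.F (P i z)) =
      eF (((ad (D.gy t)) ^ q) (((u i).map MvPolynomial.C).map (algebraMap D.R D.F))) := by
    intro i
    rw [← hYF, ad_pow_map]
    rfl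
  rw [funext hPF] at hi
  have hi' := LinearIndependent.of_comp eF hi
  have hsub : Submodule.span D.F (Set.range fun i => ((ad (D.gy t)) ^ q)
      (((u i).map MvPolynomial.C).map (algebraMap D.R D.F))) ≤
      LinearMap.range ((ad (D.gy t)) ^ q) := by
    rw [Submodule.span_le]
    rintro _ ⟨i, rfl⟩
    exact LinearMap.mem_range_self _ _
  have := Submodule.finrank_mono hsub
  rwa [finrank_span_eq_card hi', Fintype.card_fin] at this

variable {s : ℕ} (σ₀ : D.fix D.S →* Matrix (Fin s) (Fin s) k) [Fintype (D.fix D.S)]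

/-- The restriction of `ρ` to the fixed points, extended to the group algebra. -/
noncomputable def Ops.lX :
    MonoidAlgebra k (D.fix D.S) →ₐ[k] Matrix (Fin D.n) (Fin D.n) k :=
  MonoidAlgebra.lift k _ (D.fix D.S) (D.ρ.comp (Subgroup.inclusion inf_le_left))

/-- `σ₀`, extended to the group algebra. -/
noncomputable def Ops.lY : MonoidAlgebra k (D.fix D.S) →ₐ[k] Matrix (Fin s) (Fin s) k :=
  MonoidAlgebra.lift k _ (D.fix D.S) σ₀

theorem Ops.commute_lX {t : D.S → Matrix (Fin D.n) (Fin D.n) k} (ht : D.IsImpK t) (w : D.S)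
    (a : MonoidAlgebra k (D.fix D.S)) : Commute (t w) (D.lX a) := by
  induction a using MonoidAlgebra.induction_on with
  | of c =>
    rw [Ops.lX, MonoidAlgebra.of_apply, MonoidAlgebra.lift_single, one_smul]
    show t w * D.ρ ⟨(c : G), c.2.1⟩ = D.ρ ⟨(c : G), c.2.1⟩ * t w
    refine (ht w).2 _ _ ?_
    show (c : G) = w * c * (w : G)⁻¹
    rw [eq_mul_inv_iff_mul_eq]
    exact (Subgroup.mem_centralizer_iff.1 c.2.2 w w.2).symm
  | add a b ha hb => rw [map_add]; exact ha.add_right hb
  | smul r a ha => rw [map_smul]; exact ha.smul_right r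

/-- An element killed by `σ₀` acts as zero on the homology. -/
theorem Ops.kills_of_lY (hn : D.n ≠ 0) (hl₀ : Linked D.ρ σ₀)
    {t : D.S → Matrix (Fin D.n) (Fin D.n) k} (ht : D.IsImpK t)
    {a : MonoidAlgebra k (D.fix D.S)} (ha : D.lY σ₀ a = 0) :
    Kills p (D.gy t) ((D.lX a).map D.inc) := by
  have := D.charP_F
  have : NeZero D.n := ⟨hn⟩
  obtain ⟨m, hm, hlk⟩ := hl₀
  have hX : ∀ c : D.fix D.S, (D.lX a * D.ρ ⟨(c : G), c.2.1⟩).trace =
      m * (D.lY σ₀ a * σ₀ c).trace := by
    intro c
    clear ha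
    induction a using MonoidAlgebra.induction_on generalizing c with
    | of d =>
      rw [Ops.lX, Ops.lY, MonoidAlgebra.of_apply, MonoidAlgebra.lift_single,
        MonoidAlgebra.lift_single, one_smul, one_smul, MonoidHom.comp_apply, ← map_mul,
        ← map_mul]
      exact hlk (d * c) _ rfl
    | add x y hx hy => simp only [map_add, add_mul, trace_add, mul_add, hx, hy]
    | smul r x hx =>
      simp only [map_smul, smul_mul_assoc, trace_smul, smul_eq_mul, hx]; ring
  obtain ⟨Z, hZ⟩ := D.mem_range_of_coef_eq_zero hn ht (fun w => D.commute_lX ht w a)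
    (fun b hb => by
      rw [coef, show b⁻¹ = (⟨(((⟨(b : G), hb⟩⁻¹ : D.fix D.S)) : G),
        ((⟨(b : G), hb⟩⁻¹ : D.fix D.S)).2.1⟩ : D.K) from Subtype.ext rfl, hX, ha, zero_mul,
        trace_zero, mul_zero, mul_zero])
  intro v hv
  refine ⟨Z *ᵥ v, ?_⟩
  show (D.gy t ^ (p - 1)) *ᵥ (Z *ᵥ v) = _
  rw [← hZ, ad_pow_mulVec (p := p) hv]

/-- **The homology is the correspondent.** -/
theorem Ops.exists_homology (hn : D.n ≠ 0) (hs : s ≠ 0) (hσ₀ : Spans σ₀)
    (hl₀ : Linked D.ρ σ₀) {t : D.S → Matrix (Fin D.n) (Fin D.n) k} (ht : D.IsImpK t) :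
    ∃ (U : Matrix (Fin D.n) (Fin s) D.F) (V : Matrix (Fin s) (Fin D.n) D.F),
      D.gy t * U = 0 ∧ V * D.gy t ^ (p - 1) = 0 ∧ V * U = 1 ∧
      (∀ (c : D.fix D.S) (v : Fin D.n → D.F), D.gy t *ᵥ v = 0 →
        V *ᵥ ((D.ρ ⟨(c : G), c.2.1⟩).map D.inc *ᵥ v) = (σ₀ c).map D.inc *ᵥ (V *ᵥ v)) ∧
      ∀ v : Fin D.n → D.F, D.gy t *ᵥ v = 0 →
        v - U *ᵥ (V *ᵥ v) ∈ imTop p (D.gy t) := by
  have := D.charP_F
  have : NeZero D.n := ⟨hn⟩
  have : NeZero s := ⟨hs⟩
  have hsurj : Function.Surjective (D.lY σ₀) := by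
    have h : LinearMap.range (D.lY σ₀).toLinearMap = ⊤ := by
      rw [eq_top_iff, ← hσ₀]
      refine Submodule.span_le.2 ?_
      rintro _ ⟨c, rfl⟩
      exact ⟨MonoidAlgebra.of k _ c, by
        show D.lY σ₀ _ = _
        rw [Ops.lY, MonoidAlgebra.of_apply, MonoidAlgebra.lift_single, one_smul]⟩
    exact LinearMap.range_eq_top.1 h
  choose au hau using fun ij : Fin s × Fin s => hsurj (Matrix.single ij.1 ij.2 (1 : k))
  have hyc : ∀ a, Commute (D.gy t) ((D.lX a).map D.inc) := fun a =>
    Commute.sum_left _ _ _ fun w _ => (Commute.sub_left ((D.commute_lX ht w a).map D.inc.mapMatrix)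
      (Commute.one_left _)).smul_left _
  have hnF : (D.n : D.F) ≠ 0 := by
    rw [← map_natCast D.inc D.n, map_ne_zero]
    exact D.spans.natCast_ne_zero (D.card_ne_zero le_rfl)
  have hkill := fun a => D.kills_of_lY σ₀ hn hl₀ ht (a := a)
  obtain ⟨α, hα⟩ := D.exists_point hs hσ₀ hl₀ bot_le hn D.spans_rhoBot D.linked_rhoBot
    (D.isImp_rhoBot ht)
  have hb1 := D.finrank_range_le t α 1
  rw [pow_one, pow_one] at hb1
  have hb2 := D.finrank_range_le t α (p - 1)
  obtain ⟨U, V, hU, hV, hVU, hVX, hres⟩ := exists_coordinates (p := p) hnF (D.gy_pow hn ht)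
    (fun i j => (D.lX (au (i, j))).map D.inc) (fun i j => hyc _)
    (fun i j j' l => by
      by_cases h : j = j'
      · subst h
        rw [if_pos rfl]
        have e : (D.lX (au (i, j))).map D.inc * (D.lX (au (j, l))).map D.inc -
            (D.lX (au (i, l))).map D.inc =
            (D.lX (au (i, j) * au (j, l) - au (i, l))).map D.inc := by
          simp only [← RingHom.mapMatrix_apply, ← map_mul, ← map_sub]
        rw [e]
        refine hkill _ ?_
        rw [map_sub, map_mul, hau, hau, hau, Matrix.single_mul_single_same, one_mul, sub_self]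
      · rw [if_neg h, sub_zero]
        have e : (D.lX (au (i, j))).map D.inc * (D.lX (au (j', l))).map D.inc =
            (D.lX (au (i, j) * au (j', l))).map D.inc := by
          simp only [← RingHom.mapMatrix_apply, ← map_mul]
        rw [e]
        refine hkill _ ?_
        rw [map_mul, hau, hau, Matrix.single_mul_single_of_ne _ _ _ _ h])
    (by
      have e : (∑ i, (D.lX (au (i, i))).map D.inc) - 1 =
          (D.lX (∑ i, au (i, i) - 1)).map D.inc := by
        simp only [← RingHom.mapMatrix_apply, map_sum, map_sub, map_one]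
      rw [e]
      refine hkill _ ?_
      rw [map_sub, map_sum, map_one]
      simp only [hau]
      rw [sub_eq_zero]
      ext a b
      simp [Matrix.sum_apply, Matrix.single_apply, Matrix.one_apply, ite_and])
    (by omega)
  refine ⟨U, V, hU, hV, hVU, fun c v hv => ?_, hres⟩
  set a := MonoidAlgebra.of k (D.fix D.S) c - ∑ ij : Fin s × Fin s, σ₀ c ij.1 ij.2 • au ij with ha
  have hYa : D.lY σ₀ a = 0 := by
    rw [ha, map_sub, map_sum]
    simp only [map_smul, hau]
    rw [Ops.lY, MonoidAlgebra.of_apply, MonoidAlgebra.lift_single, one_smul, sub_eq_zero,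
      Fintype.sum_prod_type]
    conv_lhs => rw [Matrix.matrix_eq_sum_single (σ₀ c)]
    simp [Matrix.smul_single]
  have hXa : (D.lX a).map D.inc = (D.ρ ⟨(c : G), c.2.1⟩).map D.inc -
      ∑ ij : Fin s × Fin s, D.inc (σ₀ c ij.1 ij.2) • (D.lX (au ij)).map D.inc := by
    ext i j
    simp only [ha, map_sub, map_sum, map_smul, Matrix.map_apply, Matrix.sub_apply,
      Matrix.sum_apply, Matrix.smul_apply, smul_eq_mul, map_mul]
    rw [Ops.lX, MonoidAlgebra.of_apply, MonoidAlgebra.lift_single, one_smul]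
    rfl
  obtain ⟨z, hz⟩ := hkill a hYa v hv
  have h0 : V *ᵥ ((D.lX a).map D.inc *ᵥ v) = 0 := by
    rw [← hz, Matrix.mulVecLin_apply, Matrix.mulVec_mulVec, hV, Matrix.zero_mulVec]
  rw [hXa, Matrix.sub_mulVec, Matrix.mulVec_sub, sub_eq_zero, Matrix.sum_mulVec,
    Matrix.mulVec_sum] at h0
  rw [h0]
  have h1 : ∀ ij : Fin s × Fin s,
      V *ᵥ ((D.inc (σ₀ c ij.1 ij.2) • (D.lX (au ij)).map D.inc) *ᵥ v) =
      (D.inc (σ₀ c ij.1 ij.2) • Matrix.single ij.1 ij.2 (1 : D.F)) *ᵥ (V *ᵥ v) := fun ij => by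
    rw [Matrix.smul_mulVec, Matrix.mulVec_smul, hVX _ _ v hv, Matrix.smul_mulVec]
  simp only [h1]
  rw [← Matrix.sum_mulVec]
  congr 1
  conv_rhs => rw [Matrix.matrix_eq_sum_single ((σ₀ c).map D.inc)]
  simp [Fintype.sum_prod_type, Matrix.smul_single]

end CfsgLib.BlockA.AbelianIso
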