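import Cfsg.Agent.Lib.BlockA.AbelianIso.Defs
import Mathlib.FieldTheory.IsAlgClosed.Basic
import Mathlib.Algebra.CharP.Lemmas
import Mathlib.LinearAlgebra.Matrix.ToLin

/-!
# Spanning representations: orthogonality and implementers

For a representation whose images span all matrices: the commutant is scalar, a matrix is the
orthogonal combination of the images, automorphisms fixing the trace are inner, and an automorphism
of order dividing `p` has exactly one implementer of order dividing `p`.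
-/

set_option autoImplicit false
set_option linter.unusedSectionVars false

namespace CfsgLib.BlockA.AbelianIso

open Matrix

universe u v

variable {G : Type u} [Group G] {k : Type v} [Field k] {n : ℕ} {K : Subgroup G}
  {ρ : K →* Matrix (Fin n) (Fin n) k}

theorem rep_mul_inv (ρ : K →* Matrix (Fin n) (Fin n) k) (x : K) : ρ x * ρ x⁻¹ = 1 := by
  rw [← map_mul, mul_inv_cancel, map_one]

theorem rep_inv_mul (ρ : K →* Matrix (Fin n) (Fin n) k) (x : K) : ρ x⁻¹ * ρ x = 1 := by
  rw [← map_mul, inv_mul_cancel, map_one]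

theorem isUnit_rep (ρ : K →* Matrix (Fin n) (Fin n) k) (x : K) : IsUnit (ρ x) :=
  ⟨⟨ρ x, ρ x⁻¹, rep_mul_inv ρ x, rep_inv_mul ρ x⟩, rfl⟩

/-- Linear consequences can be checked on the images. -/
theorem Spans.induction (hρ : Spans ρ) {V : Type*} [AddCommGroup V] [Module k V]
    (L L' : Matrix (Fin n) (Fin n) k →ₗ[k] V) (h : ∀ x, L (ρ x) = L' (ρ x)) : L = L' :=
  LinearMap.ext_on_range hρ h

theorem Spans.scalar_of_commute (hρ : Spans ρ) {Y : Matrix (Fin n) (Fin n) k}
    (h : ∀ x, Commute (ρ x) Y) : ∃ c : k, Y = c • 1 := by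
  have h1 : LinearMap.mulLeft k Y = LinearMap.mulRight k Y :=
    hρ.induction _ _ fun x => (h x).eq.symm
  obtain ⟨c, hc⟩ := (Matrix.mem_range_scalar_iff_commute_single'
    (M := Y)).2 fun i j => (LinearMap.congr_fun h1 (Matrix.single i j 1)).symm
  exact ⟨c, by rw [← hc, Matrix.scalar_apply, Matrix.smul_one_eq_diagonal]⟩

theorem eq_zero_of_smul_one [NeZero n] {c : k} (h : c • (1 : Matrix (Fin n) (Fin n) k) = 0) :
    c = 0 := by
  simpa using congrFun (congrFun h (0 : Fin n)) 0

variable [Fintype K]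

/-- **Schur orthogonality.** -/
theorem Spans.orth (hρ : Spans ρ) (Y : Matrix (Fin n) (Fin n) k) :
    ∃ c : k, ∑ x, ρ x * Y * ρ x⁻¹ = c • 1 ∧ (n : k) * c = (Fintype.card K : k) * Y.trace := by
  obtain ⟨c, hc⟩ := hρ.scalar_of_commute (Y := ∑ x, ρ x * Y * ρ x⁻¹) fun z => by
    show _ = _
    rw [Finset.mul_sum, Finset.sum_mul]
    refine Fintype.sum_equiv (Equiv.mulLeft z) _ _ fun x => ?_
    show _ = ρ (z * x) * Y * ρ (z * x)⁻¹ * ρ z
    rw [_root_.mul_inv_rev, map_mul, map_mul]
    simp only [mul_assoc, rep_inv_mul, mul_one]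
  refine ⟨c, hc, ?_⟩
  have h := congrArg Matrix.trace hc
  rw [trace_sum, trace_smul, trace_one, Fintype.card_fin, smul_eq_mul] at h
  rw [mul_comm, ← h]
  rw [Finset.sum_congr rfl fun x _ => by rw [mul_assoc, trace_mul_comm, mul_assoc, rep_inv_mul,
    mul_one], Finset.sum_const, Finset.card_univ, nsmul_eq_mul]

variable (hKk : (Fintype.card K : k) ≠ 0)
include hKk

theorem Spans.natCast_ne_zero [NeZero n] (hρ : Spans ρ) : (n : k) ≠ 0 := by
  obtain ⟨c, -, hc⟩ := hρ.orth (Matrix.single 0 0 1)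
  intro h
  rw [h, zero_mul, trace_single_eq_same, mul_one] at hc
  exact hKk hc.symm

/-- A matrix is the orthogonal combination of the images. -/
theorem Spans.expand [NeZero n] (hρ : Spans ρ) (X : Matrix (Fin n) (Fin n) k) :
    ∑ x, ((n : k) * (Fintype.card K : k)⁻¹ * (X * ρ x⁻¹).trace) • ρ x = X := by
  have hn := hρ.natCast_ne_zero hKk
  have key : ∀ (a b i j : Fin n), ∑ x, ρ x a i * ρ x⁻¹ j b =
      (if i = j then (Fintype.card K : k) * (n : k)⁻¹ else 0) * (if a = b then 1 else 0) := by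
    intro a b i j
    obtain ⟨c, h1, h2⟩ := hρ.orth (Matrix.single i j 1)
    have h3 := congrFun (congrFun h1 a) b
    rw [Matrix.smul_apply, Matrix.one_apply, smul_eq_mul, Matrix.sum_apply] at h3
    have h4 : c = if i = j then (Fintype.card K : k) * (n : k)⁻¹ else 0 := by
      rcases eq_or_ne i j with rfl | hij
      · rw [trace_single_eq_same, mul_one] at h2
        rw [if_pos rfl, ← h2, mul_comm, ← mul_assoc, inv_mul_cancel₀ hn, one_mul]
      · rw [trace_single_eq_of_ne _ _ _ hij, mul_zero] at h2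
        rw [if_neg hij]
        exact (mul_eq_zero.1 h2).resolve_left hn
    rw [← h4, ← h3]
    refine Finset.sum_congr rfl fun x _ => ?_
    simp [Matrix.mul_apply, Matrix.single, ite_and]
  ext a i
  rw [Matrix.sum_apply]
  calc ∑ x, (((n : k) * (Fintype.card K : k)⁻¹ * (X * ρ x⁻¹).trace) • ρ x) a i
      = (n : k) * (Fintype.card K : k)⁻¹ *
          ∑ b, ∑ j, X b j * ∑ x, ρ x a i * ρ x⁻¹ j b := by
        simp only [Matrix.smul_apply, smul_eq_mul, Matrix.trace, Matrix.diag, Matrix.mul_apply,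
          Finset.mul_sum, Finset.sum_mul]
        rw [Finset.sum_comm]
        refine Finset.sum_congr rfl fun b _ => ?_
        rw [Finset.sum_comm]
        exact Finset.sum_congr rfl fun j _ => Finset.sum_congr rfl fun x _ => by ring
    _ = X a i := by
        simp only [key, mul_ite, mul_zero, mul_one]
        rw [Finset.sum_eq_single a (fun b _ hb => Finset.sum_eq_zero fun j _ => if_neg hb.symm)
          (fun h => absurd (Finset.mem_univ a) h)]
        rw [Finset.sum_eq_single i (fun j _ hj => by rw [if_pos rfl, if_neg hj.symm])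
          (fun h => absurd (Finset.mem_univ i) h), if_pos rfl, if_pos rfl]
        rw [mul_comm (X a i), ← mul_assoc, show (n : k) * (Fintype.card K : k)⁻¹ *
          ((Fintype.card K : k) * (n : k)⁻¹) = 1 by field_simp, one_mul]

/-- Matrices are separated by their traces against the images. -/
theorem Spans.ext_trace [NeZero n] (hρ : Spans ρ) {X X' : Matrix (Fin n) (Fin n) k}
    (h : ∀ x, (X * ρ x).trace = (X' * ρ x).trace) : X = X' := by
  rw [← hρ.expand hKk X, ← hρ.expand hKk X']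
  simp only [h]

theorem Spans.sum_trace_mul [NeZero n] (hρ : Spans ρ) :
    ∑ x, (ρ x).trace * (ρ x⁻¹).trace = (Fintype.card K : k) := by
  have hn := hρ.natCast_ne_zero hKk
  have h := congrArg Matrix.trace (hρ.expand hKk 1)
  simp only [one_mul, trace_sum, trace_smul, trace_one, Fintype.card_fin, smul_eq_mul] at h
  have h2 : (n : k) * (Fintype.card K : k)⁻¹ * ∑ x, (ρ x⁻¹).trace * (ρ x).trace = n := by
    rw [Finset.mul_sum]
    convert h using 2 with x
    ring
  rw [mul_assoc] at h2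
  have h3 := mul_left_cancel₀ hn (h2.trans (mul_one _).symm)
  rw [inv_mul_eq_one₀ hKk] at h3
  rw [h3]
  exact Finset.sum_congr rfl fun x _ => mul_comm _ _

/-- An automorphism fixing the trace is inner. -/
theorem Spans.exists_implementer [NeZero n] (hρ : Spans ρ) (φ : K ≃* K)
    (hφ : ∀ x, (ρ (φ x)).trace = (ρ x).trace) :
    ∃ A : Matrix (Fin n) (Fin n) k, IsUnit A ∧ ∀ x, A * ρ x = ρ (φ x) * A := by
  let T : Matrix (Fin n) (Fin n) k → Matrix (Fin n) (Fin n) k :=
    fun Y => ∑ x, ρ (φ x) * Y * ρ x⁻¹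
  have hT : ∀ Y z, T Y * ρ z = ρ (φ z) * T Y := by
    intro Y z
    simp only [T, Finset.sum_mul, Finset.mul_sum]
    refine (Fintype.sum_equiv (Equiv.mulLeft z) _ _ fun x => ?_).symm
    show _ = ρ (φ (z * x)) * Y * ρ (z * x)⁻¹ * ρ z
    rw [_root_.mul_inv_rev, map_mul, map_mul, map_mul]
    simp only [mul_assoc, rep_inv_mul, mul_one]
  obtain ⟨a, b, hab⟩ : ∃ a b : Fin n, T (Matrix.single a b 1) a b ≠ 0 := by
    by_contra hall
    push Not at hall
    apply hKk
    rw [← hρ.sum_trace_mul hKk]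
    calc ∑ x, (ρ x).trace * (ρ x⁻¹).trace = ∑ x, (ρ (φ x)).trace * (ρ x⁻¹).trace := by
          simp only [hφ]
      _ = ∑ a, ∑ b, T (Matrix.single a b 1) a b := by
          have hTab : ∀ a b, T (Matrix.single a b 1) a b =
              ∑ x, ρ (φ x) a a * ρ x⁻¹ b b := by
            intro a b
            simp only [T, Matrix.sum_apply]
            exact Finset.sum_congr rfl fun x _ => by
              simp [Matrix.mul_apply, Matrix.single, ite_and]
          simp only [hTab, Matrix.trace, Matrix.diag, Finset.sum_mul_sum]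
          rw [Finset.sum_comm]
          exact Finset.sum_congr rfl fun a _ => Finset.sum_comm
      _ = 0 := by simp [hall]
  obtain ⟨A, hA⟩ : ∃ A, A = T (Matrix.single a b 1) := ⟨_, rfl⟩
  have hAT : ∀ z, A * ρ z = ρ (φ z) * A := fun z => hA ▸ hT _ z
  refine ⟨A, ?_, hAT⟩
  rw [← Matrix.mulVec_injective_iff_isUnit]
  intro v v' hvv
  by_contra hne
  set w := v - v' with hw
  have hw0 : w ≠ 0 := sub_ne_zero.2 hne
  have hAw : A *ᵥ w = 0 := by
    rw [hw, Matrix.mulVec_sub]
    exact sub_eq_zero.2 hvv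
  obtain ⟨i, hi⟩ := Function.ne_iff.1 hw0
  have key : ∀ Z : Matrix (Fin n) (Fin n) k, A *ᵥ (Z *ᵥ w) = 0 := by
    intro Z
    rw [← hρ.expand hKk Z, Matrix.sum_mulVec, Matrix.mulVec_sum]
    refine Finset.sum_eq_zero fun x _ => ?_
    rw [Matrix.smul_mulVec, Matrix.mulVec_smul, Matrix.mulVec_mulVec, hAT, ← Matrix.mulVec_mulVec,
      hAw, Matrix.mulVec_zero, smul_zero]
  apply hab
  rw [← hA]
  have h2 := congrFun (key (Matrix.single b i (w i)⁻¹)) a
  rw [Matrix.mulVec_mulVec] at h2
  have h3 : A a b = 0 ∨ w i = 0 := by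
    simpa [Matrix.mulVec, dotProduct, Matrix.mul_apply, Matrix.single, ite_and, hi] using h2
  exact h3.resolve_right hi

omit hKk in
/-- Implementers of the same automorphism differ by a scalar. -/
theorem Spans.implementer_unique (hρ : Spans ρ) {φ : K → K} {A B : Matrix (Fin n) (Fin n) k}
    (hA : IsUnit A) (hAi : ∀ x, A * ρ x = ρ (φ x) * A) (hBi : ∀ x, B * ρ x = ρ (φ x) * B) :
    ∃ c : k, B = c • A := by
  obtain ⟨u, rfl⟩ := hA
  obtain ⟨c, hc⟩ := hρ.scalar_of_commute (Y := (↑u⁻¹ : Matrix (Fin n) (Fin n) k) * B) fun x => by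
    show _ = _
    have h1 : ρ x * (↑u⁻¹ : Matrix (Fin n) (Fin n) k) =
        (↑u⁻¹ : Matrix (Fin n) (Fin n) k) * ρ (φ x) := by
      apply (Units.mul_right_inj u).1
      rw [← mul_assoc, hAi, mul_assoc, Units.mul_inv, mul_one, ← mul_assoc, Units.mul_inv, one_mul]
    rw [← mul_assoc, h1, mul_assoc, ← hBi, mul_assoc]
  exact ⟨c, by rw [← one_mul B, ← Units.mul_inv u, mul_assoc, hc, mul_smul_comm, mul_one]⟩

/-- An automorphism of order dividing `p` has a unique implementer of order dividing `p`. -/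
theorem Spans.existsUnique_pow [NeZero n] [IsAlgClosed k] {p : ℕ} [Fact p.Prime] [CharP k p]
    (hρ : Spans ρ) (φ : K ≃* K) (hφ : ∀ x, (ρ (φ x)).trace = (ρ x).trace)
    (hφp : ∀ x, φ^[p] x = x) :
    ∃! A : Matrix (Fin n) (Fin n) k, A ^ p = 1 ∧ ∀ x, A * ρ x = ρ (φ x) * A := by
  have hp := (Fact.out : p.Prime)
  obtain ⟨A, hA, hAi⟩ := hρ.exists_implementer hKk φ hφ
  have hpow : ∀ j x, A ^ j * ρ x = ρ (φ^[j] x) * A ^ j := by
    intro j
    induction j with
    | zero => simp
    | succ j ih =>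
      intro x
      rw [pow_succ, mul_assoc, hAi, ← mul_assoc, ih, mul_assoc, Function.iterate_succ_apply]
  obtain ⟨c, hc⟩ := hρ.scalar_of_commute (Y := A ^ p) fun x => by
    show _ = _
    rw [hpow, hφp]
  have hc0 : c ≠ 0 := by
    rintro rfl
    rw [zero_smul] at hc
    exact not_isUnit_zero (hc ▸ hA.pow p)
  obtain ⟨z, hz⟩ := IsAlgClosed.exists_pow_nat_eq c⁻¹ hp.pos
  have hz1 : (z • A) ^ p = 1 := by
    rw [smul_pow, hc, smul_smul, hz, inv_mul_cancel₀ hc0, one_smul]
  have hzi : ∀ x, (z • A) * ρ x = ρ (φ x) * (z • A) := fun x => by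
    rw [smul_mul_assoc, hAi, mul_smul_comm]
  refine ⟨z • A, ⟨hz1, hzi⟩, fun B hB => ?_⟩
  have hu : IsUnit (z • A) := by
    rw [← isUnit_pow_iff hp.ne_zero, hz1]
    exact isUnit_one
  obtain ⟨e, he⟩ := hρ.implementer_unique hu hzi hB.2
  have he1 : e ^ p = 1 := by
    have := hB.1
    rw [he, smul_pow, hz1] at this
    have h2 : (e ^ p - 1) • (1 : Matrix (Fin n) (Fin n) k) = 0 := by
      rw [sub_smul, this, one_smul, sub_self]
    exact sub_eq_zero.1 (eq_zero_of_smul_one h2)
  have : e = 1 := by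
    have h2 : (e - 1) ^ p = 0 := by rw [sub_pow_char, he1, one_pow, sub_self]
    exact sub_eq_zero.1 (pow_eq_zero_iff hp.ne_zero |>.1 h2)
  rw [he, this, one_smul]

end CfsgLib.BlockA.AbelianIso
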