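import Cfsg.Agent.Lib.BlockA.AbelianIso.Orbit
import Mathlib.Order.Atoms.Finite

/-!
# Elements without fixed component

A matrix commuting with all implementers, with no component on the fixed points, is a sum over the
maximal subgroups containing the stabilisers of sums of `p` conjugates.
-/

set_option autoImplicit false
set_option maxHeartbeats 1000000
set_option linter.unusedSectionVars false

namespace CfsgLib.BlockA.AbelianIso

open Matrix Module
open scoped Classical

universe u v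

variable {G : Type u} [Group G] [Finite G] {k : Type v} [Field k] {p : ℕ} [hp : Fact p.Prime]
  [CharP k p] [IsAlgClosed k] (D : Ops G k p) [Fintype D.S] [Fintype D.K]

/-- The action of the operators on `K`. -/
noncomputable def Ops.act (w : D.S) : D.K ≃* D.K := conjOn D.K w (D.norm w.2)

theorem Ops.act_coe (w : D.S) (a : D.K) : ((D.act w a : D.K) : G) = w * a * (w : G)⁻¹ := rfl

theorem Ops.act_mul (v w : D.S) (a : D.K) : D.act (v * w) a = D.act v (D.act w a) := by
  apply Subtype.ext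
  simp only [D.act_coe, Subgroup.coe_mul]
  group

theorem Ops.act_comm (v w : D.S) (a : D.K) : D.act v (D.act w a) = D.act w (D.act v a) := by
  rw [← D.act_mul, ← D.act_mul]
  congr 2
  exact Subtype.ext (D.comm v v.2 w w.2)

theorem Ops.act_pow (w : D.S) (j : ℕ) (a : D.K) : (⇑(D.act w))^[j] a = D.act (w ^ j) a := by
  apply Subtype.ext
  rw [Ops.act, conjOn_iterate, D.act_coe, SubgroupClass.coe_pow]

theorem Ops.act_exp (w : D.S) (a : D.K) : D.act (w ^ p) a = a := by
  apply Subtype.ext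
  rw [D.act_coe, SubgroupClass.coe_pow, D.exp w w.2 a a.2, mul_assoc, mul_inv_cancel, mul_one]

/-- The stabiliser of an element of `K`. -/
noncomputable def Ops.stab (a : D.K) : Subgroup D.S where
  carrier := {w | D.act w a = a}
  one_mem' := Subtype.ext (by simp [D.act_coe])
  mul_mem' {v w} hv hw := by
    show D.act (v * w) a = a
    rw [D.act_mul, show D.act w a = a from hw, show D.act v a = a from hv]
  inv_mem' {w} hw := by
    show D.act w⁻¹ a = a
    conv_lhs => rw [← show D.act w a = a from hw]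
    rw [← D.act_mul, inv_mul_cancel]
    exact Subtype.ext (by simp [D.act_coe])

theorem Ops.mem_stab {w : D.S} {a : D.K} : w ∈ D.stab a ↔ D.act w a = a := Iff.rfl

theorem Ops.stab_act (v : D.S) (a : D.K) : D.stab (D.act v a) = D.stab a := by
  ext w
  rw [D.mem_stab, D.mem_stab, D.act_comm, (D.act v).injective.eq_iff]

theorem Ops.stab_eq_top_iff {a : D.K} : D.stab a = ⊤ ↔ (a : G) ∈ D.fix D.S := by
  constructor
  · intro h
    refine ⟨a.2, Subgroup.mem_centralizer_iff.2 fun w hw => ?_⟩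
    have := congrArg Subtype.val (D.mem_stab.1 (h ▸ Subgroup.mem_top (⟨w, hw⟩ : D.S)))
    rw [D.act_coe, mul_inv_eq_iff_eq_mul] at this
    exact this
  · rintro ⟨-, h⟩
    refine eq_top_iff.2 fun w _ => D.mem_stab.2 (Subtype.ext ?_)
    rw [D.act_coe, mul_inv_eq_iff_eq_mul]
    exact Subgroup.mem_centralizer_iff.1 h w w.2

theorem Ops.coef_act (hn : D.n ≠ 0) {t : D.S → Matrix (Fin D.n) (Fin D.n) k} (ht : D.IsImpK t)
    {X : Matrix (Fin D.n) (Fin D.n) k} (hX : ∀ w, Commute (t w) X) (w : D.S) (a : D.K) :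
    coef D.ρ X (D.act w a) = coef D.ρ X a :=
  coef_invariant D.ρ (D.act w) (fun a => (ht w).2 a _ rfl) (ht w).1 (hX w) a

/-- **A matrix without fixed component.** -/
theorem Ops.mem_range_of_coef_eq_zero (hn : D.n ≠ 0) {t : D.S → Matrix (Fin D.n) (Fin D.n) k}
    (ht : D.IsImpK t) {X : Matrix (Fin D.n) (Fin D.n) k} (hX : ∀ w, Commute (t w) X)
    (h0 : ∀ a : D.K, (a : G) ∈ D.fix D.S → coef D.ρ X a = 0) :
    X.map D.inc ∈ LinearMap.range ((ad (D.gy t)) ^ (p - 1)) := by
  have : NeZero D.n := ⟨hn⟩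
  have hKk := D.card_ne_zero (C := D.K) le_rfl
  have hsel : ∀ Q : Subgroup D.S, ∃ Mx : Subgroup D.S, Q ≠ ⊤ → IsCoatom Mx ∧ Q ≤ Mx := fun Q => by
    rcases eq_top_or_exists_le_coatom Q with h | ⟨Mx, h1, h2⟩
    · exact ⟨⊤, fun hne => absurd h hne⟩
    · exact ⟨Mx, fun _ => ⟨h1, h2⟩⟩
  choose sel hsel using hsel
  let cl : D.K → Option (Subgroup D.S) := fun a =>
    if D.stab a = ⊤ then none else some (sel (D.stab a))
  have hcl : ∀ v a, cl (D.act v a) = cl a := fun v a => by simp only [cl, D.stab_act]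
  have : Fintype (Option (Subgroup D.S)) := Fintype.ofFinite _
  have hsplit : X.map D.inc = ∑ o : Option (Subgroup D.S),
      (∑ a ∈ Finset.univ.filter (fun a => cl a = o), coef D.ρ X a • D.ρ a).map D.inc := by
    conv_lhs => rw [← D.spans.expand hKk X, ← Finset.sum_fiberwise Finset.univ cl]
    simp only [← RingHom.mapMatrix_apply, map_sum]
    rfl
  rw [hsplit]
  refine Submodule.sum_mem _ fun o _ => ?_
  rcases o with _ | Mx
  · rw [Finset.sum_eq_zero fun a ha => ?_]
    · rw [← RingHom.mapMatrix_apply, map_zero]; exact Submodule.zero_mem _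
    · have h1 : D.stab a = ⊤ := by
        by_contra hne
        simp [cl, hne] at ha
      rw [h0 a (D.stab_eq_top_iff.1 h1), zero_smul]
  set U := Finset.univ.filter (fun a => cl a = some Mx) with hU
  by_cases hU0 : U = ∅
  · rw [hU0, Finset.sum_empty, ← RingHom.mapMatrix_apply, map_zero]; exact Submodule.zero_mem _
  have hUmem : ∀ a ∈ U, IsCoatom Mx ∧ D.stab a ≤ Mx := by
    intro a ha
    have h := (Finset.mem_filter.1 ha).2
    by_cases h1 : D.stab a = ⊤
    · simp [cl, h1] at h
    · simp only [cl, if_neg h1, Option.some.injEq] at h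
      exact h ▸ hsel _ h1
  obtain ⟨a₀, ha₀⟩ := Finset.nonempty_iff_ne_empty.2 hU0
  obtain ⟨hco, -⟩ := hUmem a₀ ha₀
  obtain ⟨x, hxM⟩ : ∃ x, x ∉ Mx := by
    by_contra hall
    push Not at hall
    exact hco.1 (eq_top_iff.2 fun w _ => hall w)
  have hnorm : Mx.Normal := ⟨fun m hm g => by
    rwa [show g * m * g⁻¹ = m by
      apply Subtype.ext
      simp only [Subgroup.coe_mul, InvMemClass.coe_inv]
      rw [D.comm g g.2 m m.2, mul_assoc, mul_inv_cancel, mul_one]]⟩
  have hgen : ∀ w, ∃ j : ℕ, w * (x ^ j)⁻¹ ∈ Mx := by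
    intro w
    have htop : Mx ⊔ Subgroup.zpowers x = ⊤ :=
      hco.2 _ (left_lt_sup.2 fun hle => hxM (hle (Subgroup.mem_zpowers x)))
    obtain ⟨m, hm, z, hz, rfl⟩ :=
      Subgroup.mem_sup_of_normal_left.1 (htop ▸ Subgroup.mem_top w : w ∈ Mx ⊔ Subgroup.zpowers x)
    obtain ⟨j, rfl⟩ := (isOfFinOrder_of_finite x).mem_powers_iff_mem_zpowers.2 hz
    exact ⟨j, by rwa [mul_inv_cancel_right]⟩
  let e := Fintype.equivFin D.K
  let emin : D.K → Fin (Fintype.card D.K) := fun a =>
    (Finset.univ.image fun m : Mx => e (D.act m a)).min'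
      ⟨e (D.act (1 : Mx) a), Finset.mem_image_of_mem _ (Finset.mem_univ _)⟩
  have hemin : ∀ (m : Mx) a, emin (D.act m a) = emin a := by
    intro m a
    simp only [emin]
    congr 1
    ext z
    simp only [Finset.mem_image, Finset.mem_univ, true_and]
    constructor
    · rintro ⟨m', rfl⟩
      exact ⟨m' * m, by rw [← D.act_mul]; rfl⟩
    · rintro ⟨m', rfl⟩
      exact ⟨m' * m⁻¹, by rw [← D.act_mul]; congr 2; simp⟩
  have hemin' : ∀ a, ∃ m : Mx, emin a = e (D.act m a) := fun a => by
    obtain ⟨m, -, hm⟩ := Finset.mem_image.1 ((Finset.univ.image fun m : Mx => e (D.act m a)).min'_mem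
      ⟨e (D.act (1 : Mx) a), Finset.mem_image_of_mem _ (Finset.mem_univ _)⟩)
    exact ⟨m, hm.symm⟩
  let b : D.K → k := fun a =>
    if cl a = some Mx ∧ ∀ i < p, emin a ≤ emin (D.act (x ^ i) a) then coef D.ρ X a else 0
  set B : Matrix (Fin D.n) (Fin D.n) k := ∑ a, b a • D.ρ a with hB
  have hBc : ∀ w ∈ Mx, Commute (t w) B := by
    intro w hw
    show _ = _
    rw [hB, Finset.mul_sum, Finset.sum_mul]
    refine Fintype.sum_equiv (D.act w).toEquiv _ _ fun a => ?_
    show t w * (b a • D.ρ a) = b (D.act w a) • D.ρ (D.act w a) * t w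
    rw [mul_smul_comm, (ht w).2 a _ (D.act_coe w a), smul_mul_assoc]
    congr 1
    simp only [b, hcl, D.act_comm _ w, hemin ⟨w, hw⟩, D.coef_act hn ht hX]
  have hsum : ∀ a, ∑ i ∈ Finset.range p, b (D.act (x ^ i) a) =
      if cl a = some Mx then coef D.ρ X a else 0 := by
    intro a
    by_cases ha : cl a = some Mx
    swap
    · rw [if_neg ha]
      exact Finset.sum_eq_zero fun i _ => if_neg fun h => ha (by rw [← hcl (x ^ i) a]; exact h.1)
    rw [if_pos ha]
    obtain ⟨i₀, hi₀, hmin⟩ := Finset.exists_min_image (Finset.range p)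
      (fun i => emin (D.act (x ^ i) a)) ⟨0, Finset.mem_range.2 hp.out.pos⟩
    have hmod : ∀ i, D.act (x ^ i) a = D.act (x ^ (i % p)) a := fun i => by
      conv_lhs => rw [← Nat.mod_add_div i p, pow_add, pow_mul', D.act_mul, D.act_exp]
    rw [Finset.sum_eq_single i₀]
    · rw [show b (D.act (x ^ i₀) a) = coef D.ρ X (D.act (x ^ i₀) a) from if_pos
        ⟨(hcl _ _).trans ha, fun i _ => by
          rw [← D.act_mul, ← pow_add, hmod (i + i₀)]
          exact hmin _ (Finset.mem_range.2 (Nat.mod_lt _ hp.out.pos))⟩, D.coef_act hn ht hX]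
    · intro j hj hne
      refine if_neg fun h => hne ?_
      have hj' := Finset.mem_range.1 hj
      have hi' := Finset.mem_range.1 hi₀
      have h1 : emin (D.act (x ^ j) a) ≤ emin (D.act (x ^ i₀) a) := by
        have h2 := h.2 ((i₀ + p - j) % p) (Nat.mod_lt _ hp.out.pos)
        rwa [← D.act_mul, ← pow_add, hmod ((i₀ + p - j) % p + j), Nat.mod_add_mod,
          show i₀ + p - j + j = i₀ + p by omega, Nat.add_mod_right, ← hmod] at h2
      have heq := le_antisymm h1 (hmin j hj)
      obtain ⟨m1, hm1⟩ := hemin' (D.act (x ^ j) a)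
      obtain ⟨m2, hm2⟩ := hemin' (D.act (x ^ i₀) a)
      rw [hm1, hm2, e.injective.eq_iff, ← D.act_mul, ← D.act_mul] at heq
      set v : D.S := ((m2 : D.S) * x ^ i₀)⁻¹ * ((m1 : D.S) * x ^ j) with hv
      have hvs : v ∈ D.stab a := by
        rw [D.mem_stab, hv, D.act_mul, heq, ← D.act_mul, inv_mul_cancel]
        exact Subtype.ext (by simp [D.act_coe])
      have hvM : v ∈ Mx := (hUmem a (Finset.mem_filter.2 ⟨Finset.mem_univ _, ha⟩)).2 hvs
      have hxp : x ^ p ∈ Mx :=
        (hUmem a (Finset.mem_filter.2 ⟨Finset.mem_univ _, ha⟩)).2 (D.mem_stab.2 (D.act_exp x a))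
      have hji : x ^ ((j : ℤ) - i₀) ∈ Mx := by
        rw [hv, _root_.mul_inv_rev, mul_assoc] at hvM
        have h3 := hnorm.conj_mem _ hvM (x ^ i₀)
        rw [mul_inv_cancel_left, mul_assoc, mul_assoc] at h3
        have h4 := (Mx.mul_mem_cancel_left m1.2).1 ((Mx.mul_mem_cancel_left (Mx.inv_mem m2.2)).1 h3)
        rwa [zpow_sub, zpow_natCast, zpow_natCast]
      by_contra hne'
      have hz : ((j : ℤ) - i₀).natAbs.Coprime p := (hp.out.coprime_iff_not_dvd.2 fun hd => by
        rcases Nat.eq_zero_or_pos ((j : ℤ) - i₀).natAbs with h0 | h0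
        · omega
        · have := Nat.le_of_dvd h0 hd; omega).symm
      apply hxM
      have hco' : Int.gcd ((j : ℤ) - i₀) (p : ℤ) = 1 := by
        rw [Int.gcd_def, Int.natAbs_natCast]; exact hz
      have hbez := Int.gcd_eq_gcd_ab ((j : ℤ) - i₀) (p : ℤ)
      rw [hco', Nat.cast_one] at hbez
      have h5 : x ^ (1 : ℤ) ∈ Mx := by
        rw [hbez, zpow_add, zpow_mul, zpow_mul, zpow_natCast]
        exact Mx.mul_mem (Mx.zpow_mem hji _) (Mx.zpow_mem hxp _)
      rwa [zpow_one] at h5
    · exact fun h => absurd hi₀ h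
  have hBx : ((ad (t x)) ^ (p - 1)) (t x * B) =
      ∑ a ∈ U, coef D.ρ X a • D.ρ a := by
    have hexp : ∀ i ∈ Finset.range p,
        ∑ a, b (D.act (x ^ i) a) • D.ρ a = t x ^ (p - i) * B * t x ^ i := by
      intro i hi
      have hi' := (Finset.mem_range.1 hi).le
      rw [hB, Finset.mul_sum, Finset.sum_mul]
      refine Fintype.sum_equiv (D.act (x ^ i)).toEquiv _ _ fun a => ?_
      show b (D.act (x ^ i) a) • D.ρ a =
        t x ^ (p - i) * (b (D.act (x ^ i) a) • D.ρ (D.act (x ^ i) a)) * t x ^ i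
      rw [mul_smul_comm, smul_mul_assoc,
        pow_mul_rep D.ρ (D.act x) (fun a => (ht x).2 a _ rfl), D.act_pow, ← D.act_mul, ← pow_add,
        Nat.sub_add_cancel hi', D.act_exp, mul_assoc, ← pow_add, Nat.sub_add_cancel hi', (ht x).1,
        mul_one]
    have h1 : ∑ a ∈ U, coef D.ρ X a • D.ρ a =
        ∑ i ∈ Finset.range p, t x ^ (p - i) * B * t x ^ i := by
      rw [← Finset.sum_congr rfl hexp, Finset.sum_comm, hU, Finset.sum_filter]
      refine Finset.sum_congr rfl fun a _ => ?_
      rw [← Finset.sum_smul, hsum, ite_smul, zero_smul]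
    rw [h1, ad_pow_pred p, ← Finset.sum_range_reflect]
    refine Finset.sum_congr rfl fun i hi => ?_
    have hi' := Finset.mem_range.1 hi
    rw [show p - 1 - (p - 1 - i) = i by omega, show p - i = (p - 1 - i) + 1 by omega, pow_succ]
    simp only [mul_assoc]
  rw [← hBx]
  exact D.sum_conj_mem hn ht hgen fun w hw =>
    (D.impK_commute hn ht w x).mul_right (hBc w hw)

end CfsgLib.BlockA.AbelianIso
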