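import Cfsg.Agent.Lib.BlockA.AbelianIso.Implement
import Cfsg.Agent.Lib.BlockA.BlockDim
import Cfsg.Agent.Lib.BlockA.CoreBlock
import Cfsg.Agent.Lib.BlockB.PiKer
import Cfsg.Agent.Lib.Block.OddCorrTrace
import Cfsg.Agent.Lib.Block.ResidueSpan
import Mathlib.RingTheory.SimpleModule.IsAlgClosed
import Mathlib.RepresentationTheory.Maschke

/-!
# Representations affording a character of a group of order prime to `p`, and their reductions
-/

set_option autoImplicit false
set_option linter.unusedSectionVars false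

namespace CfsgLib.BlockA.AbelianIso

open Cfsg CfsgLib CfsgLib.Block CfsgLib.BlockA
open scoped ComplexConjugate

universe u

variable {G : Type u} [Group G]

/-- An irreducible character is afforded by a spanning representation. -/
theorem exists_spans_complex (K : Subgroup G) [Finite K] (θ : IrrCharacter K) :
    ∃ (n : ℕ) (ρ : K →* Matrix (Fin n) (Fin n) ℂ),
      n ≠ 0 ∧ Spans ρ ∧ ∀ x, (θ : K → ℂ) x = (ρ x).trace := by
  obtain ⟨d, ρ, hρ, hχ⟩ := OddCorr.exists_isSchur θ.2
  refine ⟨d, ρ, hρ.1.ne', ?_, fun x => (congr_fun hχ x).symm⟩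
  let := Fintype.ofFinite (⊤ : Subgroup K)
  refine Submodule.eq_top_iff'.2 fun X => ?_
  obtain ⟨c, hc, hX⟩ := OddCorr.span_formula ρ (⊤ : Subgroup K) hρ (X := X) fun Y hY => by
    obtain ⟨y, rfl⟩ := hρ.2 Y fun x => hY ⟨x, Subgroup.mem_top x⟩
    rw [mul_smul_comm, smul_mul_assoc, mul_one, one_mul]
  rw [← inv_smul_smul₀ hc X, hX]
  exact Submodule.smul_mem _ _ (Submodule.sum_mem _ fun n _ =>
    Submodule.smul_mem _ _ (Submodule.subset_span ⟨(n : K), rfl⟩))

/-- A trace-like functional on matrices is a multiple of the trace. -/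
theorem exists_eq_smul_trace {k : Type*} [Field k] {d : ℕ} (f : Matrix (Fin d) (Fin d) k →ₗ[k] k)
    (hf : ∀ X Y, f (X * Y) = f (Y * X)) : ∃ c : k, ∀ X, f X = c * X.trace := by
  rcases Nat.eq_zero_or_pos d with rfl | hd
  · exact ⟨0, fun X => by rw [Subsingleton.elim X 0, map_zero, zero_mul]⟩
  let i₀ : Fin d := ⟨0, hd⟩
  refine ⟨f (Matrix.single i₀ i₀ 1), fun X => ?_⟩
  conv_lhs => rw [Matrix.matrix_eq_sum_single X]
  simp only [map_sum, Matrix.trace, Matrix.diag_apply, Finset.mul_sum]
  refine Finset.sum_congr rfl fun i _ => ?_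
  rw [Finset.sum_eq_single i]
  · rw [show Matrix.single i i (X i i) = X i i • (Matrix.single i i₀ 1 * Matrix.single i₀ i 1) by
      simp, map_smul, hf, smul_eq_mul, mul_comm]
    simp
  · intro j _ hj
    rw [show Matrix.single i j (X i j) = X i j • (Matrix.single i i₀ 1 * Matrix.single i₀ j 1) by
      simp, map_smul, hf, Matrix.single_mul_single_of_ne (i := i₀) (h := hj), map_zero, smul_zero]
  · simp

/-- A primitive central idempotent of a split semisimple algebra cuts out one matrix algebra. -/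
theorem exists_component {k A : Type*} [Field k] [IsAlgClosed k] [Ring A] [Algebra k A]
    [FiniteDimensional k A] [IsSemisimpleRing A] (e : A) (hee : e * e = e)
    (hcomm : ∀ a, e * a = a * e) (hne : e ≠ 0)
    (hprim : ∀ c : A, (∀ a, a * c = c * a) → c * c = c → c * e = c → c = 0 ∨ c = e) :
    ∃ d : ℕ, d ≠ 0 ∧ ∃ (π : A →ₐ[k] Matrix (Fin d) (Fin d) k) (ι : Matrix (Fin d) (Fin d) k →ₗ[k] A),
      (∀ a, ι (π a) = e * a) ∧ (∀ X, π (ι X) = X) ∧ ∀ X Y, ι (X * Y) = ι X * ι Y := by
  classical
  obtain ⟨N, d, hd, ⟨Φ⟩⟩ := IsSemisimpleRing.exists_algEquiv_pi_matrix_of_isAlgClosed k A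
  have hcomp : ∀ i, Φ e i = 0 ∨ Φ e i = 1 := by
    intro i
    have : NeZero (d i) := hd i
    obtain ⟨c, hc⟩ := (Matrix.mem_range_scalar_iff_commute_single' (M := Φ e i)).2 fun a b => by
      have h := congrArg (fun X => Φ X i) (hcomm (Φ.symm (Pi.single i (Matrix.single a b 1))))
      simp only [map_mul, AlgEquiv.apply_symm_apply, Pi.mul_apply, Pi.single_eq_same] at h
      exact h.symm
    have h2 : Φ e i * Φ e i = Φ e i := by rw [← Pi.mul_apply, ← map_mul, hee]
    rw [← hc, ← map_mul] at h2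
    rcases eq_or_ne c 0 with h0 | h0
    · exact Or.inl (by rw [← hc, h0, map_zero])
    · refine Or.inr ?_
      rw [← hc, (mul_eq_right₀ h0).1 (Matrix.scalar_inj.1 h2), map_one]
  obtain ⟨i, hi⟩ : ∃ i, Φ e i = 1 := by
    by_contra! h
    exact hne (Φ.injective (funext fun i => by
      rw [map_zero]; exact (hcomp i).resolve_right (h i)))
  have hsingle : Φ e = Pi.single i 1 := by
    rcases hprim (Φ.symm (Pi.single i 1)) (fun a => Φ.injective (funext fun j => by
        rw [map_mul, map_mul, AlgEquiv.apply_symm_apply, Pi.mul_apply, Pi.mul_apply]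
        rcases eq_or_ne j i with rfl | hj
        · rw [Pi.single_eq_same, mul_one, one_mul]
        · rw [Pi.single_eq_of_ne hj, mul_zero, zero_mul]))
      (by rw [← map_mul, ← Pi.single_mul, mul_one])
      (Φ.injective (funext fun j => by
        rw [map_mul, AlgEquiv.apply_symm_apply, Pi.mul_apply]
        rcases eq_or_ne j i with rfl | hj
        · rw [hi, mul_one]
        · rw [Pi.single_eq_of_ne hj, zero_mul])) with h | h
    · exfalso
      have : NeZero (d i) := hd i
      have h' := congrArg (fun a => Φ a i) h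
      simp at h'
    · rw [← h, AlgEquiv.apply_symm_apply]
  refine ⟨d i, (hd i).out,
    (Pi.evalAlgHom k (fun j => Matrix (Fin (d j)) (Fin (d j)) k) i).comp Φ.toAlgHom,
    Φ.symm.toLinearMap ∘ₗ LinearMap.single k (fun j => Matrix (Fin (d j)) (Fin (d j)) k) i,
    fun a => Φ.injective ?_, fun X => ?_, fun X Y => ?_⟩
  · show Φ (Φ.symm (Pi.single i (Φ a i))) = Φ (e * a)
    rw [AlgEquiv.apply_symm_apply, map_mul, hsingle]
    funext j
    rw [Pi.mul_apply]
    rcases eq_or_ne j i with rfl | hj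
    · rw [Pi.single_eq_same, Pi.single_eq_same, one_mul]
    · rw [Pi.single_eq_of_ne hj, Pi.single_eq_of_ne hj, zero_mul]
  · show Φ (Φ.symm (Pi.single i X)) i = X
    rw [AlgEquiv.apply_symm_apply, Pi.single_eq_same]
  · show Φ.symm (Pi.single i (X * Y)) = Φ.symm (Pi.single i X) * Φ.symm (Pi.single i Y)
    rw [← map_mul, Pi.single_mul]

variable {p : ℕ} [hp : Fact p.Prime] {M : Ideal AlgInt} [M.IsPrime]

/-- The reduction of an irreducible character of a group of order prime to `p` is afforded by a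
spanning representation of the same degree. -/
theorem exists_spans_modular (hM : IsPModular p M) (K : Subgroup G) [Fintype K]
    (hKp : ¬ p ∣ Nat.card K) (θ : IrrCharacter K) :
    ∃ (n : ℕ) (ρ : K →* Matrix (Fin n) (Fin n) (kres M)),
      n ≠ 0 ∧ (θ : K → ℂ) 1 = (n : ℂ) ∧ Spans ρ ∧
        ∀ x, (ρ x).trace = redC M ((θ : K → ℂ) x) := by
  classical
  have : CharP (kres M) p := charP_kres hM
  have : IsAlgClosed (kres M) := isAlgClosed_kres (M := M)
  have hKk : (Fintype.card K : kres M) ≠ 0 := by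
    rw [Ne, CharP.cast_eq_zero_iff (kres M) p, ← Nat.card_eq_fintype_card]; exact hKp
  have : NeZero (Nat.card K : kres M) := ⟨by rwa [Nat.card_eq_fintype_card]⟩
  have hB := isPBlock_singleton hM hKp θ
  obtain ⟨e, he⟩ : ∃ e, e = (blkIdem M ({θ} : Set (IrrCharacter K)) :
      MonoidAlgebra (kres M) K) := ⟨_, rfl⟩
  have hee : e * e = e := he ▸ congrArg Subtype.val (blkIdem_idem hM hB)
  have hecoef : ∀ x : K, e.coeff x =
      redC M ((Nat.card K : ℂ)⁻¹ * (θ : K → ℂ) 1) * redC M ((θ : K → ℂ) x⁻¹) := fun x => by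
    rw [he, coeff_blkIdem, blockCoeff_singleton, ← mul_assoc, irr_conj_eq θ.2]
    exact redC_mul (memLocalRing_mul (memLocalRing_inv_natCast hM hKp) (memLocalRing_irr_apply θ _))
      (memLocalRing_irr_apply θ _)
  have hne : e ≠ 0 := fun h => by
    obtain ⟨x, hx⟩ := exists_blockCoeff_ne_zero hM hB
    rw [← coeff_blkIdem (M := M), ← he, h] at hx
    exact hx (by simp)
  obtain ⟨d, hd0, π, ι, hιπ, hπι, hιmul⟩ := exists_component (k := kres M) e hee
    (fun a => by rw [he]; exact (Subalgebra.mem_center_iff.1 (blkIdem M _).2 a).symm) hne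
    fun c hc hcc hce => by
      rcases blkIdem_primitive hM hB ⟨c, Subalgebra.mem_center_iff.2 hc⟩ (Subtype.ext hcc)
        (Subtype.ext ((congrArg (c * ·) he.symm).trans hce)) with h | h
      · exact Or.inl (congrArg Subtype.val h)
      · exact Or.inr ((congrArg Subtype.val h).trans he.symm)
  let ρ : K →* Matrix (Fin d) (Fin d) (kres M) :=
    π.toRingHom.toMonoidHom.comp (MonoidAlgebra.of (kres M) K)
  have hspan : Spans ρ := by
    refine Submodule.eq_top_iff'.2 fun X => ?_
    rw [← hπι X]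
    generalize ι X = a
    induction a using MonoidAlgebra.induction_on with
    | of g => exact Submodule.subset_span ⟨g, rfl⟩
    | add a b ha hb => rw [map_add]; exact Submodule.add_mem _ ha hb
    | smul c a ha => rw [map_smul]; exact Submodule.smul_mem _ _ ha
  -- the degree
  have hdim : d * d = charDegree ((θ : IrrCharacter K) : K → ℂ) ^ 2 := by
    have h := finrank_block hM hB
    rw [Set.Finite.toFinset_singleton, Finset.sum_singleton] at h
    rw [← h, ← he]
    have hrange : LinearMap.range (LinearMap.mulLeft (kres M) e) = LinearMap.range ι := by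
      refine le_antisymm ?_ ?_
      · rintro _ ⟨a, rfl⟩
        exact ⟨π a, hιπ a⟩
      · rintro _ ⟨X, rfl⟩
        exact ⟨ι X, by rw [LinearMap.mulLeft_apply, ← hιπ, hπι]⟩
    rw [hrange, LinearMap.finrank_range_of_inj (Function.LeftInverse.injective (g := π) hπι),
      Module.finrank_matrix, Fintype.card_fin, Module.finrank_self, mul_one]
  have hdeg : (θ : K → ℂ) 1 = (d : ℂ) := by
    rw [charDegree_spec (Char.irr_isCharacter θ.2)]
    congr 1
    rw [pow_two] at hdim
    exact (Nat.mul_self_inj.1 hdim).symm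
  refine ⟨d, ρ, hd0, hdeg, hspan, fun x => ?_⟩
  -- the trace
  let f : Matrix (Fin d) (Fin d) (kres M) →ₗ[kres M] kres M :=
    { toFun := fun X => (ι X).coeff 1
      map_add' := fun X Y => by simp
      map_smul' := fun c X => by simp }
  have hf : ∀ X Y, f (X * Y) = f (Y * X) := fun X Y => by
    show (ι (X * Y)).coeff 1 = (ι (Y * X)).coeff 1
    rw [hιmul, hιmul, coeff_mul_eq, coeff_mul_eq]
    refine Fintype.sum_equiv (Equiv.inv K) _ _ fun a => ?_
    simp [mul_comm]
  obtain ⟨c, hc⟩ := exists_eq_smul_trace f hf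
  obtain ⟨t, ht⟩ : ∃ t, t = redC M ((Nat.card K : ℂ)⁻¹ * (θ : K → ℂ) 1) := ⟨_, rfl⟩
  have hfρ : ∀ y, c * (ρ y).trace = t * redC M ((θ : K → ℂ) y) := fun y => by
    rw [← hc]
    show (ι (π (MonoidAlgebra.of (kres M) K y))).coeff 1 = _
    rw [hιπ, MonoidAlgebra.of_apply, ht, ← inv_inv y, ← hecoef, inv_inv]
    simp
  have hn' : (d : kres M) ≠ 0 := by
    have : NeZero d := ⟨hd0⟩
    exact hspan.natCast_ne_zero hKk
  have h1 := hfρ 1
  rw [map_one, Matrix.trace_one, Fintype.card_fin, hdeg, redC_natCast] at h1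
  have hct : c = t := mul_right_cancel₀ hn' h1
  have ht0 : t ≠ 0 := by
    rw [ht, redC_mul (memLocalRing_inv_natCast hM hKp) (memLocalRing_irr_apply θ _),
      CfsgLib.BlockB.PiKer.redC_inv_natCast hM hKp, hdeg, redC_natCast]
    exact mul_ne_zero (inv_ne_zero (by rwa [Nat.card_eq_fintype_card])) hn'
  have := hfρ x
  rw [hct] at this
  exact mul_left_cancel₀ ht0 this

end CfsgLib.BlockA.AbelianIso
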