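import Cfsg.Agent.Lib.BlockA.AbelianIso.LiftRep
import Cfsg.Agent.Lib.Char.Diag
import Mathlib.RingTheory.RootsOfUnity.Complex

/-!
# Systems of implementers with determinants of finite order, and their reduction
-/

set_option autoImplicit false
set_option linter.unusedSectionVars false

namespace CfsgLib.BlockA.AbelianIso

open Cfsg CfsgLib CfsgLib.Block

universe u

section Roots

variable {p : ℕ} [hp : Fact p.Prime] {M : Ideal AlgInt} [M.IsPrime]

theorem memLocalRing_root {z : ℂ} {m : ℕ} (hm : m ≠ 0) (hz : z ^ m = 1) : MemLocalRing M z :=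
  memLocalRing_of_isIntegral (IsIntegral.of_pow (Nat.pos_of_ne_zero hm) (hz ▸ isIntegral_one))

theorem redC_pow' {z : ℂ} (hz : MemLocalRing M z) : ∀ i : ℕ, redC M (z ^ i) = redC M z ^ i
  | 0 => by simp [redC_one]
  | i + 1 => by
    rw [pow_succ, pow_succ, redC_mul ((lring M).pow_mem hz i) hz, redC_pow' hz i]

theorem root_eq_one (hM : IsPModular p M) {z : ℂ} {m : ℕ} (hm : ¬ p ∣ m) (hz : z ^ m = 1)
    (h1 : redC M z = 1) : z = 1 := by
  by_contra hne
  have hm0 : m ≠ 0 := fun h => hm (h ▸ dvd_zero p)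
  have hzR := memLocalRing_root (M := M) hm0 hz
  have hsum : ∑ i ∈ Finset.range m, z ^ i = 0 := by
    have h := geom_sum_mul z m
    rw [hz, sub_self, mul_eq_zero] at h
    exact h.resolve_right (sub_ne_zero.2 hne)
  have h := congrArg (redC M) hsum
  rw [redC_sum _ _ (fun i _ => (lring M).pow_mem hzR i), redC_zero] at h
  simp only [redC_pow' hzR, h1, one_pow, Finset.sum_const, Finset.card_range, nsmul_eq_mul,
    mul_one] at h
  have : CharP (kres M) p := charP_kres hM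
  exact hm ((CharP.cast_eq_zero_iff (kres M) p m).1 h)

theorem root_inj (hM : IsPModular p M) {z w : ℂ} {m : ℕ} (hm : ¬ p ∣ m) (hz : z ^ m = 1)
    (hw : w ^ m = 1) (h : redC M z = redC M w) : z = w := by
  have hm0 : m ≠ 0 := fun h => hm (h ▸ dvd_zero p)
  have hw0 : w ≠ 0 := fun h0 => by rw [h0, zero_pow hm0] at hw; exact zero_ne_one hw
  have hwi : w⁻¹ ^ m = 1 := by rw [inv_pow, hw, inv_one]
  have e : z * w⁻¹ = 1 := by
    refine root_eq_one hM hm (by rw [mul_pow, hz, hwi, one_mul]) ?_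
    rw [redC_mul (memLocalRing_root hm0 hz) (memLocalRing_root hm0 hwi), h,
      ← redC_mul (memLocalRing_root hm0 hw) (memLocalRing_root hm0 hwi), mul_inv_cancel₀ hw0,
      redC_one]
  exact (mul_inv_eq_one₀ hw0).1 e

/-- A root of unity modulo `M` lifts to a root of unity of order prime to `p`. -/
theorem exists_root_lift (hM : IsPModular p M) {x : kres M} {N : ℕ} (hN : N ≠ 0) (hx : x ^ N = 1) :
    ∃ (m : ℕ) (z : ℂ), ¬ p ∣ m ∧ z ^ m = 1 ∧ redC M z = x := by
  have : CharP (kres M) p := charP_kres hM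
  obtain ⟨a, m, hm, rfl⟩ := Nat.exists_eq_pow_mul_and_not_dvd hN p hp.out.ne_one
  have hxm : x ^ m = 1 := by
    have h0 : (x ^ m - 1) ^ p ^ a = 0 := by
      rw [sub_pow_char_pow, ← pow_mul, mul_comm, hx, one_pow, sub_self]
    exact sub_eq_zero.1 ((pow_eq_zero_iff (pow_ne_zero _ hp.out.ne_zero)).1 h0)
  have hm0 : m ≠ 0 := fun h => hm (h ▸ dvd_zero p)
  have : NeZero m := ⟨hm0⟩
  have hζ := Complex.isPrimitiveRoot_exp m hm0
  set ζ := Complex.exp (2 * Real.pi * Complex.I / m)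
  have hζR := memLocalRing_root (M := M) hm0 hζ.pow_eq_one
  have hprim : IsPrimitiveRoot (redC M ζ) m := by
    refine ⟨by rw [← redC_pow' hζR, hζ.pow_eq_one, redC_one], fun l hl => hζ.dvd_of_pow_eq_one l ?_⟩
    refine root_eq_one hM hm ?_ (by rw [redC_pow' hζR, hl])
    rw [← pow_mul, mul_comm, pow_mul, hζ.pow_eq_one, one_pow]
  obtain ⟨i, -, hi⟩ := hprim.eq_pow_of_pow_eq_one hxm
  exact ⟨m, ζ ^ i, hm, by rw [← pow_mul, mul_comm, pow_mul, hζ.pow_eq_one, one_pow],
    by rw [redC_pow' hζR, hi]⟩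

end Roots

section System

variable {G : Type u} [Group G] {K : Subgroup G} [Fintype K] {n : ℕ}
  {ρ : K →* Matrix (Fin n) (Fin n) ℂ}

theorem det_rep_pow (ρ : K →* Matrix (Fin n) (Fin n) ℂ) (x : K) :
    (ρ x).det ^ Nat.card K = 1 := by
  rw [← Matrix.det_pow, ← map_pow, pow_card_eq_one', map_one, Matrix.det_one]

theorem isIntegral_trace_of_pow {T : Matrix (Fin n) (Fin n) ℂ} {m : ℕ} (hm : 0 < m)
    (h : T ^ m = 1) : IsIntegral ℤ T.trace := by
  rw [← Matrix.trace_toLin'_eq]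
  obtain ⟨ι, hι, b, μ, h1, h2⟩ := Char.exists_eigenbasis (Matrix.toLin' T) hm (by
    rw [← Matrix.toLin'_pow, h, Matrix.toLin'_one]; rfl)
  rw [Char.trace_eq_sum_eigen b _ μ h1]
  exact IsIntegral.sum _ fun i _ => IsIntegral.of_pow hm (by rw [h2 i]; exact isIntegral_one)

/-- An implementer with determinant of finite order of an element of finite order has finite order. -/
theorem pow_of_implementer [NeZero n] (hρ : Spans ρ) {g : G} (hg : IsOfFinOrder g)
    (hgK : ∀ x ∈ K, g * x * g⁻¹ ∈ K) {B : Matrix (Fin n) (Fin n) ℂ} {N : ℕ} (hN : 0 < N)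
    (hdet : B.det ^ N = 1) (hB : ∀ x x' : K, (x' : G) = g * x * g⁻¹ → B * ρ x = ρ x' * B) :
    ∃ m, 0 < m ∧ B ^ m = 1 := by
  have hpow : ∀ (j : ℕ) (x : K), ∃ x' : K, (x' : G) = g ^ j * x * (g ^ j)⁻¹ ∧
      B ^ j * ρ x = ρ x' * B ^ j := by
    intro j
    induction j with
    | zero => exact fun x => ⟨x, by simp, by simp⟩
    | succ j ih =>
      intro x
      obtain ⟨y, hy, e⟩ := ih x
      refine ⟨⟨g * y * g⁻¹, hgK _ y.2⟩, ?_, ?_⟩
      · show g * (y : G) * g⁻¹ = _
        rw [hy, pow_succ']; group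
      · rw [pow_succ', mul_assoc, e, ← mul_assoc, hB y ⟨_, hgK _ y.2⟩ rfl, mul_assoc]
  obtain ⟨o, ho, hgo⟩ := isOfFinOrder_iff_pow_eq_one.1 hg
  obtain ⟨c, hc⟩ := hρ.scalar_of_commute (Y := B ^ o) fun x => by
    obtain ⟨x', hx', e⟩ := hpow o x
    rw [hgo, inv_one, mul_one, one_mul] at hx'
    rw [Subtype.ext hx'] at e
    exact e.symm
  have hc1 : c ^ (n * N) = 1 := by
    have h := congrArg (fun X => X.det ^ N) hc
    simp only [Matrix.det_pow, Matrix.det_smul, Fintype.card_fin, Matrix.det_one, mul_one] at h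
    rw [← pow_mul, mul_comm o, pow_mul, hdet, one_pow, ← pow_mul] at h
    exact h.symm
  refine ⟨o * (n * N), Nat.mul_pos ho (Nat.mul_pos (NeZero.pos n) hN), ?_⟩
  rw [pow_mul, hc, smul_pow, one_pow, hc1, one_smul]

/-- Implementers with determinants of finite order, with factors of finite order. -/
theorem exists_system [Finite G] [NeZero n] (hρ : Spans ρ) (H : Subgroup G)
    (hnorm : ∀ h ∈ H, ∀ x ∈ K, h * x * h⁻¹ ∈ K)
    (hinv : ∀ h ∈ H, ∀ a b : K, (b : G) = h * a * h⁻¹ → (ρ b).trace = (ρ a).trace) :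
    ∃ A : H → Matrix (Fin n) (Fin n) ℂ, Implements H ρ A ∧
      (∀ h, (A h).det ^ Nat.card K = 1) ∧
      (∀ h h', ∃ c : ℂ, c ^ (n * Nat.card K) = 1 ∧ A h * A h' = c • A (h * h')) ∧
      ∀ (h : H) (y : K), IsIntegral ℤ (A h * ρ y).trace := by
  classical
  have hKk : (Fintype.card K : ℂ) ≠ 0 := Nat.cast_ne_zero.2 Fintype.card_ne_zero
  have hex : ∀ h : H, ∃ A : Matrix (Fin n) (Fin n) ℂ, A.det = 1 ∧
      ∀ x x' : K, (x' : G) = h * x * (h : G)⁻¹ → A * ρ x = ρ x' * A := by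
    intro h
    let φ : K ≃* K :=
      { toFun := fun x => ⟨(h : G) * x * (h : G)⁻¹, hnorm h h.2 x x.2⟩
        invFun := fun x => ⟨(h : G)⁻¹ * x * h, by
          simpa using hnorm (h : G)⁻¹ (inv_mem h.2) x x.2⟩
        left_inv := fun x => Subtype.ext (by simp [mul_assoc])
        right_inv := fun x => Subtype.ext (by simp [mul_assoc])
        map_mul' := fun x y => Subtype.ext (by simp [mul_assoc]) }
    obtain ⟨A, hA, hAc⟩ := hρ.exists_implementer hKk φ fun x => hinv h h.2 x (φ x) rfl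
    have hd : A.det ≠ 0 := ((Matrix.isUnit_iff_isUnit_det A).1 hA).ne_zero
    obtain ⟨z, hz⟩ := IsAlgClosed.exists_pow_nat_eq A.det⁻¹ (NeZero.pos n)
    refine ⟨z • A, by rw [Matrix.det_smul, Fintype.card_fin, hz, inv_mul_cancel₀ hd], fun x x' e => ?_⟩
    rw [smul_mul_assoc, hAc, mul_smul_comm, show φ x = x' from Subtype.ext e.symm]
  choose A₀ hA₀ hA₀c using hex
  let C : Subgroup H := K.subgroupOf H
  let r : H → H := fun h => (Quotient.mk (QuotientGroup.rightRel C) h).out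
  have hr : ∀ h, h * (r h)⁻¹ ∈ C := fun h => QuotientGroup.rightRel_apply.1
    (Quotient.exact (Quotient.out_eq (Quotient.mk (QuotientGroup.rightRel C) h)))
  have hr' : ∀ (h h' : H), h' * h⁻¹ ∈ C → r h' = r h := fun h h' e => congrArg Quotient.out
    ((Quotient.sound (QuotientGroup.rightRel_apply.2 e)).symm)
  let x₀ : H → K := fun h => ⟨((h * (r h)⁻¹ : H) : G), hr h⟩
  let A : H → Matrix (Fin n) (Fin n) ℂ := fun h => ρ (x₀ h) * A₀ (r h)
  have hu : ∀ h, IsUnit (A₀ h) := fun h =>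
    (Matrix.isUnit_iff_isUnit_det _).2 (by rw [hA₀]; exact isUnit_one)
  have hconj : ∀ (h : H) (x x' : K), (x' : G) = h * x * (h : G)⁻¹ → A h * ρ x = ρ x' * A h := by
    intro h x x' e
    have e' : ((⟨((r h : H) : G) * x * ((r h : H) : G)⁻¹, hnorm _ (r h).2 x x.2⟩ : K) : G) =
        ((r h : H) : G) * x * ((r h : H) : G)⁻¹ := rfl
    show ρ (x₀ h) * A₀ (r h) * ρ x = ρ x' * (ρ (x₀ h) * A₀ (r h))
    rw [mul_assoc, hA₀c (r h) x _ e', ← mul_assoc, ← map_mul, ← mul_assoc, ← map_mul]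
    congr 2
    exact Subtype.ext (by simp [x₀, e, mul_assoc])
  have hthird : ∀ (h h' : H) (x : K), (h' : G) = (x : G) * h → A h' = ρ x * A h := by
    intro h h' x e
    have hx : h' * h⁻¹ ∈ C := by
      show ((h' * h⁻¹ : H) : G) ∈ K
      rw [Subgroup.coe_mul, Subgroup.coe_inv, e, mul_inv_cancel_right]
      exact x.2
    show ρ (x₀ h') * A₀ (r h') = ρ x * (ρ (x₀ h) * A₀ (r h))
    rw [hr' h h' hx, ← mul_assoc, ← map_mul]
    congr 2
    exact Subtype.ext (by simp [x₀, hr' h h' hx, e, mul_assoc])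
  have hAu : ∀ h, IsUnit (A h) := fun h => (isUnit_rep ρ _).mul (hu _)
  have hdet : ∀ h, (A h).det ^ Nat.card K = 1 := fun h => by
    show (ρ (x₀ h) * A₀ (r h)).det ^ Nat.card K = 1
    rw [Matrix.det_mul, hA₀, mul_one, det_rep_pow]
  refine ⟨A, ⟨hAu, hconj, hthird⟩, hdet, fun h h' => ?_, fun h y => ?_⟩
  · obtain ⟨c, hc⟩ := hρ.implementer_unique
      (φ := fun x => ⟨((h * h' : H) : G) * x * ((h * h' : H) : G)⁻¹, hnorm _ (h * h').2 x x.2⟩)
      (hAu (h * h')) (fun x => hconj _ x _ rfl) (B := A h * A h') (fun x => by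
        obtain ⟨x', hx'⟩ : ∃ x' : K, (x' : G) = h' * x * (h' : G)⁻¹ :=
          ⟨⟨_, hnorm _ h'.2 x x.2⟩, rfl⟩
        rw [mul_assoc, hconj h' x x' hx', ← mul_assoc, hconj h x' ⟨((h * h' : H) : G) * x * ((h * h' : H) : G)⁻¹, hnorm _ (h * h').2 x x.2⟩ (by
          show ((h * h' : H) : G) * x * ((h * h' : H) : G)⁻¹ = _
          rw [hx', Subgroup.coe_mul]; group), mul_assoc])
    refine ⟨c, ?_, hc⟩
    have h1 := congrArg (fun X => X.det ^ Nat.card K) hc
    simp only [Matrix.det_mul, Matrix.det_smul, Fintype.card_fin, mul_pow, hdet, mul_one] at h1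
    rw [← pow_mul] at h1
    exact h1.symm
  · obtain ⟨m, hm, hpow⟩ := pow_of_implementer hρ (g := (h : G) * y) (isOfFinOrder_of_finite _)
      (fun x hx => by
        rw [show (h : G) * y * x * ((h : G) * y)⁻¹ = (h : G) * ((y : G) * x * (y : G)⁻¹) * (h : G)⁻¹
          by group]
        exact hnorm _ h.2 _ (mul_mem (mul_mem y.2 hx) (inv_mem y.2)))
      (B := A h * ρ y) (N := Nat.card K) Nat.card_pos
      (by rw [Matrix.det_mul, mul_pow, hdet, det_rep_pow, one_mul]) (fun x x' e => by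
        rw [mul_assoc, ← map_mul, hconj h (y * x) (x' * ⟨_, hnorm _ h.2 y y.2⟩) (by
          simp only [Subgroup.coe_mul]; rw [e]; group), map_mul, mul_assoc, ← hconj h y _ rfl])
    exact isIntegral_trace_of_pow hm hpow

end System

section Reduce

variable {G : Type u} [Group G] {K : Subgroup G} [Fintype K] {n : ℕ} [NeZero n]
  {p : ℕ} [hp : Fact p.Prime] {M : Ideal AlgInt} [M.IsPrime] (hM : IsPModular p M)
  (hKp : ¬ p ∣ Nat.card K) {ρ : K →* Matrix (Fin n) (Fin n) ℂ} (hρ : Spans ρ)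
  {ρk : K →* Matrix (Fin n) (Fin n) (kres M)} (hρk : Spans ρk)
  (htr : ∀ x, (ρk x).trace = redC M (ρ x).trace)

/-- The traces against the representation are local integers. -/
def IntTrace (M : Ideal AlgInt) (ρ : K →* Matrix (Fin n) (Fin n) ℂ)
    (X : Matrix (Fin n) (Fin n) ℂ) : Prop :=
  ∀ y, MemLocalRing M (X * ρ y).trace

variable (ρ ρk) in
/-- The reduction of a matrix with integral traces. -/
noncomputable def reduce (X : Matrix (Fin n) (Fin n) ℂ) : Matrix (Fin n) (Fin n) (kres M) :=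
  ∑ x, redC M ((n : ℂ) * (Fintype.card K : ℂ)⁻¹ * (X * ρ x⁻¹).trace) • ρk x

theorem memLocalRing_trace_rep (x : K) : MemLocalRing M (ρ x).trace :=
  memLocalRing_of_isIntegral (isIntegral_trace_of_pow (m := Nat.card K) Nat.card_pos
    (by rw [← map_pow, pow_card_eq_one', map_one]))

include hM hKp in
theorem memLocalRing_coef {X : Matrix (Fin n) (Fin n) ℂ} (hX : IntTrace M ρ X) (x : K) :
    MemLocalRing M ((n : ℂ) * (Fintype.card K : ℂ)⁻¹ * (X * ρ x⁻¹).trace) := by
  refine memLocalRing_mul (memLocalRing_mul (memLocalRing_natCast n) ?_) (hX _)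
  rw [← Nat.card_eq_fintype_card]
  exact memLocalRing_inv_natCast hM hKp

include hρ in
theorem sum_expand (X Y : Matrix (Fin n) (Fin n) ℂ) :
    (X * Y).trace =
      ∑ x, (n : ℂ) * (Fintype.card K : ℂ)⁻¹ * (X * ρ x⁻¹).trace * (ρ x * Y).trace := by
  conv_lhs => rw [← hρ.expand (Nat.cast_ne_zero.2 Fintype.card_ne_zero) X]
  simp only [Finset.sum_mul, Matrix.trace_sum, smul_mul_assoc, Matrix.trace_smul, smul_eq_mul]

include hM hKp hρ htr in
theorem reduce_trace {X : Matrix (Fin n) (Fin n) ℂ} (hX : IntTrace M ρ X) (z : K) :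
    (reduce ρ ρk X * ρk z).trace = redC M (X * ρ z).trace := by
  rw [sum_expand hρ X (ρ z), redC_sum _ _ fun x _ => memLocalRing_mul (memLocalRing_coef hM hKp hX x)
    (by rw [← map_mul]; exact memLocalRing_trace_rep _)]
  simp only [reduce, Finset.sum_mul, Matrix.trace_sum, smul_mul_assoc, Matrix.trace_smul,
    smul_eq_mul, ← map_mul, htr]
  exact Finset.sum_congr rfl fun x _ =>
    (redC_mul (memLocalRing_coef hM hKp hX x) (memLocalRing_trace_rep _)).symm

theorem intTrace_rep (x : K) : IntTrace M ρ (ρ x) := fun y => by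
  rw [← map_mul]; exact memLocalRing_trace_rep _

theorem intTrace_smul {c : ℂ} (hc : MemLocalRing M c) {X : Matrix (Fin n) (Fin n) ℂ}
    (hX : IntTrace M ρ X) : IntTrace M ρ (c • X) := fun y => by
  rw [smul_mul_assoc, Matrix.trace_smul, smul_eq_mul]; exact memLocalRing_mul hc (hX y)

include hM hKp hρ in
theorem intTrace_mul {X Y : Matrix (Fin n) (Fin n) ℂ} (hX : IntTrace M ρ X) (hY : IntTrace M ρ Y) :
    IntTrace M ρ (X * Y) := fun z => by
  rw [mul_assoc, sum_expand hρ X (Y * ρ z)]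
  refine memLocalRing_sum _ _ fun x _ => memLocalRing_mul (memLocalRing_coef hM hKp hX x) ?_
  rw [Matrix.trace_mul_comm, mul_assoc, ← map_mul]
  exact hY _

include hM hKp hρ hρk htr

theorem reduce_rep (y : K) : reduce ρ ρk (ρ y) = ρk y := by
  have : CharP (kres M) p := charP_kres hM
  refine hρk.ext_trace (by
    rw [Ne, CharP.cast_eq_zero_iff (kres M) p, ← Nat.card_eq_fintype_card]; exact hKp) fun z => ?_
  rw [reduce_trace hM hKp hρ htr (intTrace_rep y), ← map_mul, ← map_mul, htr]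

theorem reduce_smul {c : ℂ} (hc : MemLocalRing M c) {X : Matrix (Fin n) (Fin n) ℂ}
    (hX : IntTrace M ρ X) : reduce ρ ρk (c • X) = redC M c • reduce ρ ρk X := by
  have : CharP (kres M) p := charP_kres hM
  refine hρk.ext_trace (by
    rw [Ne, CharP.cast_eq_zero_iff (kres M) p, ← Nat.card_eq_fintype_card]; exact hKp) fun z => ?_
  rw [reduce_trace hM hKp hρ htr (intTrace_smul hc hX), smul_mul_assoc, smul_mul_assoc,
    Matrix.trace_smul, Matrix.trace_smul, smul_eq_mul, smul_eq_mul,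
    reduce_trace hM hKp hρ htr hX, redC_mul hc (hX z)]

theorem reduce_mul {X Y : Matrix (Fin n) (Fin n) ℂ} (hX : IntTrace M ρ X) (hY : IntTrace M ρ Y) :
    reduce ρ ρk (X * Y) = reduce ρ ρk X * reduce ρ ρk Y := by
  have : CharP (kres M) p := charP_kres hM
  refine hρk.ext_trace (by
    rw [Ne, CharP.cast_eq_zero_iff (kres M) p, ← Nat.card_eq_fintype_card]; exact hKp) fun z => ?_
  have hsw : ∀ x : K, (ρ x * (Y * ρ z)).trace = (Y * ρ (z * x)).trace := fun x => by
    rw [Matrix.trace_mul_comm, mul_assoc, ← map_mul]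
  rw [reduce_trace hM hKp hρ htr (intTrace_mul hM hKp hρ hX hY), mul_assoc X,
    sum_expand hρ X (Y * ρ z), redC_sum _ _ fun x _ => memLocalRing_mul (memLocalRing_coef hM hKp hX x)
      (by rw [hsw]; exact hY _), mul_assoc (reduce ρ ρk X)]
  conv_rhs => rw [reduce, Finset.sum_mul, Matrix.trace_sum]
  refine Finset.sum_congr rfl fun x _ => ?_
  rw [hsw, redC_mul (memLocalRing_coef hM hKp hX x) (hY _), smul_mul_assoc, Matrix.trace_smul,
    smul_eq_mul, Matrix.trace_mul_comm (ρk x), mul_assoc (reduce ρ ρk Y), ← map_mul,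
    reduce_trace hM hKp hρ htr hY]

end Reduce

end CfsgLib.BlockA.AbelianIso
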