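import Cfsg.Agent.Lib.BlockA.AbelianIso.Implement
import Cfsg.Agent.Lib.BlockA.AbelianIso.Basic
import Mathlib.Dynamics.PeriodicPts.Lemmas
import Mathlib.Algebra.CharP.Algebra
import Mathlib.Algebra.Algebra.Bilinear

/-!
# The Brauer map of an automorphism of order `p` on a matrix algebra

`om ρ σ` sends a matrix to the part of its expansion on the fixed subgroup.  On the matrices
commuting with the implementer `τ` it is multiplicative, and its kernel there is the range of the
`(p-1)`-st power of `X ↦ τ X - X τ`.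
-/

set_option autoImplicit false
set_option linter.unusedSectionVars false

namespace CfsgLib.BlockA.AbelianIso

open Matrix
open scoped Classical

universe u v

variable {G : Type u} [Group G] {k : Type v} [Field k] {n s : ℕ} {K C : Subgroup G} [Fintype K]
  [Fintype C] (hCK : C ≤ K) (ρ : K →* Matrix (Fin n) (Fin n) k)
  (σ : C →* Matrix (Fin s) (Fin s) k)

/-- The commutator with a matrix. -/
def ad (Y : Matrix (Fin n) (Fin n) k) : Module.End k (Matrix (Fin n) (Fin n) k) :=
  LinearMap.mulLeft k Y - LinearMap.mulRight k Y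

theorem ad_apply (Y X : Matrix (Fin n) (Fin n) k) : ad Y X = Y * X - X * Y := rfl

theorem ad_add (Y Y' : Matrix (Fin n) (Fin n) k) : ad (Y + Y') = ad Y + ad Y' :=
  LinearMap.ext fun X => by
    simp only [ad_apply, LinearMap.add_apply, add_mul, mul_add]; abel

theorem ad_smul (c : k) (Y : Matrix (Fin n) (Fin n) k) : ad (c • Y) = c • ad Y :=
  LinearMap.ext fun X => by
    simp only [ad_apply, LinearMap.smul_apply, smul_mul_assoc, mul_smul_comm, smul_sub]

theorem ad_sub_one (Y : Matrix (Fin n) (Fin n) k) : ad (Y - 1) = ad Y :=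
  LinearMap.ext fun X => by
    simp only [ad_apply, sub_mul, mul_sub, one_mul, mul_one]; abel

theorem commute_ad {Y Z : Matrix (Fin n) (Fin n) k} (h : Commute Y Z) : Commute (ad Y) (ad Z) :=
  LinearMap.ext fun X => by
    simp only [Module.End.mul_apply, ad_apply, mul_sub, sub_mul, ← mul_assoc, h.eq]
    rw [mul_assoc X Y Z, h.eq, ← mul_assoc]
    abel

/-- The powers of the commutator in characteristic `p`. -/
theorem ad_pow_pred (p : ℕ) [Fact p.Prime] [CharP k p] [NeZero n]
    (Y X : Matrix (Fin n) (Fin n) k) :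
    ((ad Y) ^ (p - 1)) X = ∑ i ∈ Finset.range p, Y ^ i * X * Y ^ (p - 1 - i) := by
  have : CharP (Module.End k (Matrix (Fin n) (Fin n) k)) p :=
    charP_of_injective_algebraMap (algebraMap k _).injective p
  rw [ad, sub_pow_pred p (LinearMap.commute_mulLeft_right (R := k) Y Y), LinearMap.sum_apply]
  refine Finset.sum_congr rfl fun i _ => ?_
  rw [Module.End.mul_apply, LinearMap.pow_mulLeft, LinearMap.pow_mulRight, LinearMap.mulLeft_apply,
    LinearMap.mulRight_apply, mul_assoc]

theorem ad_pow_char (p : ℕ) [Fact p.Prime] [CharP k p] [NeZero n]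
    (Y : Matrix (Fin n) (Fin n) k) : (ad Y) ^ p = ad (Y ^ p) := by
  have : CharP (Module.End k (Matrix (Fin n) (Fin n) k)) p :=
    charP_of_injective_algebraMap (algebraMap k _).injective p
  rw [ad, sub_pow_char_of_commute _ (LinearMap.commute_mulLeft_right (R := k) Y Y),
    LinearMap.pow_mulLeft, LinearMap.pow_mulRight, ad]

/-- The coefficient of `X` at `a` in the expansion along `ρ`. -/
def coef (X : Matrix (Fin n) (Fin n) k) (a : K) : k :=
  (n : k) * (Fintype.card K : k)⁻¹ * (X * ρ a⁻¹).trace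

/-- The Brauer map. -/
def om : Matrix (Fin n) (Fin n) k →ₗ[k] Matrix (Fin s) (Fin s) k where
  toFun X := ∑ c : C, coef ρ X ⟨(c : G), hCK c.2⟩ • σ c
  map_add' X Y := by
    simp only [coef, add_mul, trace_add, mul_add, add_smul, Finset.sum_add_distrib]
  map_smul' a X := by
    simp only [coef, smul_mul_assoc, trace_smul, smul_eq_mul, Finset.smul_sum, smul_smul,
      RingHom.id_apply]
    exact Finset.sum_congr rfl fun c _ => by congr 1; ring

theorem om_apply (X : Matrix (Fin n) (Fin n) k) :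
    om hCK ρ σ X = ∑ c : C, coef ρ X ⟨(c : G), hCK c.2⟩ • σ c := rfl

variable (φ : K ≃* K) (hC : ∀ a : K, φ a = a ↔ (a : G) ∈ C)
  {τ : Matrix (Fin n) (Fin n) k} (hτ : ∀ a, τ * ρ a = ρ (φ a) * τ)

include hτ in
theorem pow_mul_rep : ∀ (j : ℕ) (a : K), τ ^ j * ρ a = ρ ((⇑φ)^[j] a) * τ ^ j := by
  intro j
  induction j with
  | zero => simp
  | succ j ih =>
    intro a
    rw [pow_succ, mul_assoc, hτ, ← mul_assoc, ih, mul_assoc, Function.iterate_succ_apply]

include hC hτ in
theorem commute_rep (c : C) : Commute τ (ρ ⟨(c : G), hCK c.2⟩) := by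
  show _ = _
  rw [hτ, (hC ⟨(c : G), hCK c.2⟩).2 c.2]

variable {p : ℕ} [Fact p.Prime] [CharP k p] (hτp : τ ^ p = 1)

include hτ hτp in
/-- The coefficients of a commuting matrix are invariant. -/
theorem coef_invariant {X : Matrix (Fin n) (Fin n) k} (hX : Commute τ X) (a : K) :
    coef ρ X (φ a) = coef ρ X a := by
  have hu : IsUnit τ := (isUnit_pow_iff (Fact.out : p.Prime).ne_zero).1 (hτp ▸ isUnit_one)
  obtain ⟨u, hu⟩ := hu
  have h1 : ρ (φ a)⁻¹ = τ * ρ a⁻¹ * (↑u⁻¹ : Matrix (Fin n) (Fin n) k) := by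
    rw [hτ, ← map_inv, mul_assoc, ← hu, Units.mul_inv, mul_one]
  unfold coef
  rw [h1, ← mul_assoc, ← mul_assoc, ← hX.eq, mul_assoc τ, trace_mul_cycle, ← hu, Units.inv_mul,
    one_mul]

variable (hKk : (Fintype.card K : k) ≠ 0) (hCk : (Fintype.card C : k) ≠ 0) [NeZero n] [NeZero s]
  (hρ : Spans ρ) (hσ : Spans σ) (hφp : ∀ a, (⇑φ)^[p] a = a)
  {m : k} (hm : m ≠ 0) (hlink : ∀ (c : C) (a : K), (a : G) = c → (ρ a).trace = m * (σ c).trace)

/-- The automorphism as a permutation. -/
def perm : Equiv.Perm K := φ.toEquiv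

include hφp in
theorem perm_pow : (perm φ) ^ p = 1 := by
  ext a
  rw [← Equiv.Perm.iterate_eq_pow]
  exact congrArg Subtype.val (hφp a)

include hC in
theorem sum_fixed_eq (f : K → k) :
    ∑ a ∈ Finset.univ.filter (fun a : K => φ a = a), f a =
      ∑ c : C, f ⟨(c : G), hCK c.2⟩ := by
  refine Finset.sum_bij (fun a ha => (⟨(a : G), (hC a).1 (Finset.mem_filter.1 ha).2⟩ : C))
    (fun _ _ => Finset.mem_univ _) (fun a _ b _ h => Subtype.ext (congrArg Subtype.val h :))
    (fun c _ => ⟨⟨(c : G), hCK c.2⟩, Finset.mem_filter.2 ⟨Finset.mem_univ _, (hC _).2 c.2⟩,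
      Subtype.ext rfl⟩) (fun a _ => congrArg f (Subtype.ext rfl))

include hC hτ hτp hKk hρ hφp hlink in
/-- **The defining property of the Brauer map.** -/
theorem trace_om {X : Matrix (Fin n) (Fin n) k} (hX : Commute τ X) (d : C) :
    (X * ρ ⟨(d : G), hCK d.2⟩).trace = m * (om hCK ρ σ X * σ d).trace := by
  classical
  set d' : K := ⟨(d : G), hCK d.2⟩ with hd'
  calc (X * ρ d').trace = ∑ a : K, coef ρ X a * (ρ (a * d')).trace := by
        conv_lhs => rw [← hρ.expand hKk X, Finset.sum_mul, trace_sum]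
        exact Finset.sum_congr rfl fun a _ => by
          rw [smul_mul_assoc, trace_smul, smul_eq_mul, map_mul]; rfl
    _ = ∑ a ∈ Finset.univ.filter (fun a : K => φ a = a), coef ρ X a * (ρ (a * d')).trace := by
        have hfix : φ d' = d' := (hC d').2 d.2
        refine sum_eq_sum_fixed p (perm φ) (perm_pow φ hφp) _ fun a => ?_
        show coef ρ X (φ a) * (ρ (φ a * d')).trace = _
        rw [coef_invariant ρ φ hτ hτp hX]
        congr 1
        have h2 : φ a * d' = φ (a * d') := by rw [map_mul, hfix]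
        have hu : IsUnit τ := (isUnit_pow_iff (Fact.out : p.Prime).ne_zero).1 (hτp ▸ isUnit_one)
        obtain ⟨u, hu⟩ := hu
        have h3 : ρ (φ (a * d')) = τ * ρ (a * d') * (↑u⁻¹ : Matrix (Fin n) (Fin n) k) := by
          rw [hτ, mul_assoc, ← hu, Units.mul_inv, mul_one]
        rw [h2, h3, trace_mul_cycle, ← hu, Units.inv_mul, one_mul]
    _ = m * (om hCK ρ σ X * σ d).trace := by
        rw [sum_fixed_eq hCK φ hC, om_apply, Finset.sum_mul, trace_sum, Finset.mul_sum]
        refine Finset.sum_congr rfl fun c _ => ?_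
        rw [smul_mul_assoc, trace_smul, smul_eq_mul, ← map_mul,
          hlink (c * d) (⟨(c : G), hCK c.2⟩ * d') rfl]
        ring

include hC hτ hτp hKk hCk hρ hσ hφp hm hlink in
theorem om_mul {X Y : Matrix (Fin n) (Fin n) k} (hX : Commute τ X) (hY : Commute τ Y) :
    om hCK ρ σ (X * Y) = om hCK ρ σ X * om hCK ρ σ Y := by
  classical
  refine hσ.ext_trace hCk fun d => mul_left_cancel₀ hm ?_
  rw [← trace_om hCK ρ σ φ hC hτ hτp hKk hρ hφp hlink (hX.mul_right hY)]
  set d' : K := ⟨(d : G), hCK d.2⟩ with hd'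
  have hfix : φ d' = d' := (hC d').2 d.2
  have hu : IsUnit τ := (isUnit_pow_iff (Fact.out : p.Prime).ne_zero).1 (hτp ▸ isUnit_one)
  obtain ⟨u, hu⟩ := hu
  have hconj : ∀ b : K, (ρ (φ b)).trace = (ρ b).trace := fun b => by
    rw [show ρ (φ b) = τ * ρ b * (↑u⁻¹ : Matrix (Fin n) (Fin n) k) by
      rw [hτ, mul_assoc, ← hu, Units.mul_inv, mul_one], trace_mul_cycle, ← hu, Units.inv_mul,
      one_mul]
  let f : K × K → k := fun z => coef ρ X z.1 * coef ρ Y z.2 * (ρ (z.1 * z.2 * d')).trace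
  calc (X * Y * ρ d').trace = ∑ z : K × K, f z := by
        conv_lhs => rw [← hρ.expand hKk X, ← hρ.expand hKk Y]
        rw [Fintype.sum_prod_type, Finset.sum_mul, Finset.sum_mul, trace_sum]
        refine Finset.sum_congr rfl fun a _ => ?_
        rw [Finset.mul_sum, Finset.sum_mul, trace_sum]
        refine Finset.sum_congr rfl fun b _ => ?_
        simp only [smul_mul_assoc, mul_smul_comm, trace_smul, smul_eq_mul, map_mul, f]
        rw [show coef ρ X a = (n : k) * (Fintype.card K : k)⁻¹ * (X * ρ a⁻¹).trace from rfl,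
          show coef ρ Y b = (n : k) * (Fintype.card K : k)⁻¹ * (Y * ρ b⁻¹).trace from rfl]
        ring
    _ = ∑ z ∈ Finset.univ.filter (fun z : K × K => (perm φ).prodCongr (perm φ) z = z), f z := by
        refine sum_eq_sum_fixed p ((perm φ).prodCongr (perm φ)) ?_ f fun z => ?_
        · ext z : 1
          rw [← Equiv.Perm.iterate_eq_pow, show ⇑((perm φ).prodCongr (perm φ)) =
            Prod.map ⇑φ ⇑φ from rfl, Prod.map_iterate]
          exact Prod.ext (hφp z.1) (hφp z.2)
        · show coef ρ X (φ z.1) * coef ρ Y (φ z.2) * (ρ (φ z.1 * φ z.2 * d')).trace = _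
          rw [coef_invariant ρ φ hτ hτp hX, coef_invariant ρ φ hτ hτp hY,
            show φ z.1 * φ z.2 * d' = φ (z.1 * z.2 * d') by rw [map_mul, map_mul, hfix], hconj]
    _ = ∑ a : C, ∑ b : C, f (⟨(a : G), hCK a.2⟩, ⟨(b : G), hCK b.2⟩) := by
        rw [show (Finset.univ.filter fun z : K × K => (perm φ).prodCongr (perm φ) z = z) =
          (Finset.univ.filter fun a : K => φ a = a) ×ˢ (Finset.univ.filter fun a : K => φ a = a) by
            ext ⟨a, b⟩; simp [perm, Equiv.prodCongr, Prod.ext_iff],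
          Finset.sum_product, sum_fixed_eq hCK φ hC]
        exact Finset.sum_congr rfl fun a _ => sum_fixed_eq hCK φ hC _
    _ = _ := by
        rw [om_apply, om_apply, Finset.sum_mul, Finset.sum_mul, trace_sum, Finset.mul_sum]
        refine Finset.sum_congr rfl fun a _ => ?_
        rw [Finset.mul_sum, Finset.sum_mul, trace_sum, Finset.mul_sum]
        refine Finset.sum_congr rfl fun b _ => ?_
        simp only [smul_mul_assoc, mul_smul_comm, trace_smul, smul_eq_mul, ← map_mul, f]
        rw [hlink (a * b * d) (⟨(a : G), hCK a.2⟩ * ⟨(b : G), hCK b.2⟩ * d') rfl]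
        ring

include hC hτ hτp hKk hCk hρ hσ hφp hm hlink in
theorem om_rep (c : C) : om hCK ρ σ (ρ ⟨(c : G), hCK c.2⟩) = σ c := by
  refine hσ.ext_trace hCk fun d => mul_left_cancel₀ hm ?_
  rw [← trace_om hCK ρ σ φ hC hτ hτp hKk hρ hφp hlink (commute_rep hCK ρ φ hC hτ c), ← map_mul,
    ← map_mul, hlink (c * d) _ rfl]

include hC hτ hτp hKk hCk hρ hσ hφp hm hlink in
theorem om_one : om hCK ρ σ 1 = 1 := by
  have h := om_rep hCK ρ σ φ hC hτ hτp hKk hCk hρ hσ hφp hm hlink 1
  rwa [show (⟨((1 : C) : G), hCK (1 : C).2⟩ : K) = 1 from Subtype.ext rfl, map_one ρ,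
    map_one σ] at h

include hC hτ hτp hKk hCk hρ hσ hφp hm hlink in
theorem om_ad {Y : Matrix (Fin n) (Fin n) k} (hY : Commute τ (ad τ Y)) :
    om hCK ρ σ (ad τ Y) = 0 := by
  refine hσ.ext_trace hCk fun d => mul_left_cancel₀ hm ?_
  rw [← trace_om hCK ρ σ φ hC hτ hτp hKk hρ hφp hlink hY, zero_mul, trace_zero, mul_zero,
    ad_apply, sub_mul, trace_sub, mul_assoc τ, trace_mul_comm τ, mul_assoc Y, mul_assoc Y,
    ← (commute_rep hCK ρ φ hC hτ d).eq, sub_self]

include hτp in
theorem commute_ad_pow (Y : Matrix (Fin n) (Fin n) k) : Commute τ (((ad τ) ^ (p - 1)) Y) := by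
  have h : ad τ (((ad τ) ^ (p - 1)) Y) = 0 := by
    rw [← Module.End.mul_apply, ← pow_succ', Nat.sub_add_cancel (Fact.out : p.Prime).one_le,
      ad_pow_char, hτp, ad_apply, one_mul, mul_one, sub_self]
  rwa [ad_apply, sub_eq_zero] at h

include hC hτ hτp hKk hCk hρ hσ hφp hm hlink in
theorem om_ad_pow (Y : Matrix (Fin n) (Fin n) k) :
    om hCK ρ σ (((ad τ) ^ (p - 1)) Y) = 0 := by
  refine hσ.ext_trace hCk fun d => mul_left_cancel₀ hm ?_
  rw [← trace_om hCK ρ σ φ hC hτ hτp hKk hρ hφp hlink (commute_ad_pow hτp Y), zero_mul, trace_zero,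
    mul_zero, ad_pow_pred p, Finset.sum_mul, trace_sum]
  have key : ∀ i ∈ Finset.range p,
      (τ ^ i * Y * τ ^ (p - 1 - i) * ρ ⟨(d : G), hCK d.2⟩).trace =
        (Y * τ ^ (p - 1) * ρ ⟨(d : G), hCK d.2⟩).trace := by
    intro i hi
    rw [mul_assoc (τ ^ i) Y, mul_assoc (τ ^ i), trace_mul_comm (τ ^ i), mul_assoc, mul_assoc,
      ((commute_rep hCK ρ φ hC hτ d).pow_left i).eq.symm, ← mul_assoc (τ ^ (p - 1 - i)), ← pow_add,
      Nat.sub_add_cancel (Nat.le_sub_one_of_lt (Finset.mem_range.1 hi)), mul_assoc]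
  rw [Finset.sum_congr rfl key, Finset.sum_const, Finset.card_range, nsmul_eq_mul,
    CharP.cast_eq_zero k p, zero_mul]

include hC hτ hτp hKk hCk hρ hσ hφp hm hlink in
/-- **The kernel of the Brauer map.** -/
theorem mem_range_of_om_eq_zero {X : Matrix (Fin n) (Fin n) k} (hX : Commute τ X)
    (h0 : om hCK ρ σ X = 0) : X ∈ LinearMap.range ((ad τ) ^ (p - 1)) := by
  classical
  have hp := (Fact.out : p.Prime)
  have ha0 : ∀ a : K, φ a = a → coef ρ X a = 0 := by
    intro a ha
    have h := trace_om hCK ρ σ φ hC hτ hτp hKk hρ hφp hlink hX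
      (⟨(a : G), (hC a).1 ha⟩⁻¹ : C)
    rw [h0, zero_mul, trace_zero, mul_zero,
      show (⟨((⟨(a : G), (hC a).1 ha⟩⁻¹ : C) : G), hCK (⟨(a : G), (hC a).1 ha⟩⁻¹ : C).2⟩ : K) =
        a⁻¹ from Subtype.ext rfl] at h
    rw [coef, h, mul_zero]
  -- one representative in each orbit
  let e := Fintype.equivFin K
  let b : K → k := fun a =>
    if ∀ i < p, e a ≤ e ((⇑φ)^[i] a) then coef ρ X a else 0
  have hper : ∀ a : K, Function.IsPeriodicPt (⇑φ) p a := hφp
  have hb : ∀ a : K, ∑ i ∈ Finset.range p, b ((⇑φ)^[i] a) = coef ρ X a := by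
    intro a
    by_cases ha : φ a = a
    · have hfix : ∀ i, (⇑φ)^[i] a = a := fun i => Function.iterate_fixed ha i
      simp only [hfix, Finset.sum_const, Finset.card_range, nsmul_eq_mul, CharP.cast_eq_zero k p,
        zero_mul, ha0 a ha]
    have hmp : Function.minimalPeriod (⇑φ) a = p := by
      rcases hp.eq_one_or_self_of_dvd _ (hper a).minimalPeriod_dvd with h | h
      · exact absurd (Function.minimalPeriod_eq_one_iff_isFixedPt.1 h) ha
      · exact h
    obtain ⟨i₀, hi₀, hmin⟩ := Finset.exists_min_image (Finset.range p)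
      (fun i => e ((⇑φ)^[i] a)) ⟨0, Finset.mem_range.2 hp.pos⟩
    have hmin' : ∀ j, e ((⇑φ)^[i₀] a) ≤ e ((⇑φ)^[j] a) := fun j => by
      rw [← (hper a).iterate_mod_apply j]
      exact hmin _ (Finset.mem_range.2 (Nat.mod_lt _ hp.pos))
    have hinv : ∀ i, coef ρ X ((⇑φ)^[i] a) = coef ρ X a := by
      intro i
      induction i with
      | zero => rfl
      | succ i ih => rw [Function.iterate_succ_apply', coef_invariant ρ φ hτ hτp hX, ih]
    rw [Finset.sum_eq_single i₀]
    · rw [show b ((⇑φ)^[i₀] a) = coef ρ X ((⇑φ)^[i₀] a) from if_pos fun j _ => by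
        rw [← Function.iterate_add_apply]; exact hmin' _, hinv]
    · intro j hj hji
      refine if_neg fun hjle => hji ?_
      have hj' := Finset.mem_range.1 hj
      have hi' := Finset.mem_range.1 hi₀
      have h1 : e ((⇑φ)^[j] a) ≤ e ((⇑φ)^[i₀] a) := by
        have h2 := hjle ((i₀ + p - j) % p) (Nat.mod_lt _ hp.pos)
        rwa [(hper ((⇑φ)^[j] a)).iterate_mod_apply, ← Function.iterate_add_apply,
          show i₀ + p - j + j = i₀ + p by omega, Function.iterate_add_apply, hφp] at h2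
      have h2 : (⇑φ)^[j] a = (⇑φ)^[i₀] a := e.injective (le_antisymm h1 (hmin' j))
      exact Function.iterate_injOn_Iio_minimalPeriod
        (by rw [hmp]; exact hj') (by rw [hmp]; exact hi') h2
    · exact fun h => absurd hi₀ h
  set B : Matrix (Fin n) (Fin n) k := ∑ a : K, b a • ρ a with hB
  have hexp : ∀ i ∈ Finset.range p,
      ∑ a : K, b ((⇑φ)^[i] a) • ρ a = τ ^ (p - i) * B * τ ^ i := by
    intro i hi
    have hi' := (Finset.mem_range.1 hi).le
    rw [hB, Finset.mul_sum, Finset.sum_mul]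
    let E : K ≃ K :=
      { toFun := fun a => (⇑φ)^[i] a
        invFun := fun a => (⇑φ)^[p - i] a
        left_inv := fun a => by
          show (⇑φ)^[p - i] ((⇑φ)^[i] a) = a
          rw [← Function.iterate_add_apply, Nat.sub_add_cancel hi', hφp]
        right_inv := fun a => by
          show (⇑φ)^[i] ((⇑φ)^[p - i] a) = a
          rw [← Function.iterate_add_apply, Nat.add_sub_cancel' hi', hφp] }
    refine Fintype.sum_equiv E _ _ fun a => ?_
    show _ = τ ^ (p - i) * (b ((⇑φ)^[i] a) • ρ ((⇑φ)^[i] a)) * τ ^ i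
    rw [mul_smul_comm, smul_mul_assoc, pow_mul_rep ρ φ hτ, ← Function.iterate_add_apply,
      Nat.sub_add_cancel hi', hφp, mul_assoc, ← pow_add, Nat.sub_add_cancel hi', hτp, mul_one]
  have hX' : X = ∑ i ∈ Finset.range p, τ ^ (p - i) * B * τ ^ i := by
    rw [← Finset.sum_congr rfl hexp, Finset.sum_comm]
    conv_lhs => rw [← hρ.expand hKk X]
    refine Finset.sum_congr rfl fun a _ => ?_
    rw [← Finset.sum_smul, hb]
    rfl
  refine ⟨τ * B, ?_⟩
  rw [ad_pow_pred p, hX', ← Finset.sum_range_reflect]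
  refine Finset.sum_congr rfl fun i hi => ?_
  have hi' := Finset.mem_range.1 hi
  rw [show p - 1 - (p - 1 - i) = i by omega, show p - i = (p - 1 - i) + 1 by omega, pow_succ,
    mul_assoc (τ ^ (p - 1 - i))]
  simp only [mul_assoc]

end CfsgLib.BlockA.AbelianIso
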