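import Cfsg.Agent.Lib.BlockA.AbelianIso.AdBound
import Mathlib.Algebra.MvPolynomial.CommRing
import Mathlib.RingTheory.Localization.FractionRing
import Mathlib.LinearAlgebra.Matrix.ToLin
import Mathlib.GroupTheory.PGroup

/-!
# Orbit sums die on the homology of the general element

Over `k(a_w : w ∈ S)` put `y = ∑ a_w (t_w - 1)`.  A matrix commuting with all `t_w` without
component on the fixed points of `S` is of the form `(ad y) ^ (p - 1) Z` on each orbit type, so it
sends the kernel of `y` into the range of `y ^ (p - 1)`.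
-/

set_option autoImplicit false
set_option maxHeartbeats 1000000
set_option linter.unusedSectionVars false

namespace CfsgLib.BlockA.AbelianIso

open Matrix Module
open scoped Classical

universe u v

theorem sum_pow_char' {R : Type*} [Semiring R] (p : ℕ) [Fact p.Prime] [CharP R p] {ι : Type*}
    (s : Finset ι) (f : ι → R) (h : ∀ i ∈ s, ∀ j ∈ s, Commute (f i) (f j)) :
    (∑ i ∈ s, f i) ^ p = ∑ i ∈ s, f i ^ p := by
  induction s using Finset.induction_on with
  | empty => simp [zero_pow (Fact.out : p.Prime).ne_zero]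
  | insert i s hi ih =>
    have h1 : Commute (f i) (∑ j ∈ s, f j) := Commute.sum_right _ _ _ fun j hj =>
      h i (Finset.mem_insert_self _ _) j (Finset.mem_insert_of_mem hj)
    rw [Finset.sum_insert hi, Finset.sum_insert hi, add_pow_char_of_commute _ h1,
      ih fun a ha b hb => h a (Finset.mem_insert_of_mem ha) b (Finset.mem_insert_of_mem hb)]

variable {G : Type u} [Group G] [Finite G] {k : Type v} [Field k] {p : ℕ} [hp : Fact p.Prime]
  [CharP k p] [IsAlgClosed k] (D : Ops G k p)

/-- Implementers of the operators on `ρ` itself, of order dividing `p`. -/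
def Ops.IsImpK (t : D.S → Matrix (Fin D.n) (Fin D.n) k) : Prop :=
  ∀ w : D.S, t w ^ p = 1 ∧ ∀ a b : D.K, (b : G) = w * a * (w : G)⁻¹ → t w * D.ρ a = D.ρ b * t w

/-- The restriction of `ρ` to the fixed points of the trivial group, that is to all of `K`. -/
noncomputable def Ops.rhoBot : D.fix ⊥ →* Matrix (Fin D.n) (Fin D.n) k :=
  D.ρ.comp (Subgroup.inclusion inf_le_left)

theorem Ops.mem_fix_bot (a : D.K) : (a : G) ∈ D.fix ⊥ :=
  ⟨a.2, Subgroup.mem_centralizer_iff.2 fun t ht => by
    rw [Subgroup.mem_bot.1 ht, one_mul, mul_one]⟩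

theorem Ops.rhoBot_apply (a : D.K) : D.rhoBot ⟨(a : G), D.mem_fix_bot a⟩ = D.ρ a := rfl

theorem Ops.spans_rhoBot : Spans D.rhoBot := by
  have h : Set.range D.ρ ⊆ Set.range D.rhoBot := by
    rintro _ ⟨a, rfl⟩
    exact ⟨_, D.rhoBot_apply a⟩
  exact eq_top_iff.2 (D.spans.ge.trans (Submodule.span_mono h))

theorem Ops.linked_rhoBot : Linked D.ρ D.rhoBot :=
  ⟨1, one_ne_zero, fun y x e => by
    rw [one_mul]
    exact congrArg (fun a => (D.ρ a).trace) (Subtype.ext e)⟩

theorem Ops.isImp_rhoBot {t : D.S → Matrix (Fin D.n) (Fin D.n) k} (ht : D.IsImpK t) :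
    D.IsImp bot_le D.rhoBot t :=
  fun w => ⟨(ht w).1, fun c => (ht w).2 _ _ rfl⟩

theorem Ops.exists_impK (hn : D.n ≠ 0) : ∃ t, D.IsImpK t := by
  have := Fintype.ofFinite (D.fix ⊥)
  have : NeZero D.n := ⟨hn⟩
  obtain ⟨t, ht⟩ := D.exists_imp bot_le D.spans_rhoBot D.linked_rhoBot
  refine ⟨t, fun w => ⟨(ht w).1, fun a b hab => ?_⟩⟩
  have h := (ht w).2 ⟨(a : G), D.mem_fix_bot a⟩
  rw [D.rhoBot_apply] at h
  rw [h]
  congr 1
  exact congrArg D.ρ (Subtype.ext hab.symm)

theorem Ops.impK_commute (hn : D.n ≠ 0) {t : D.S → Matrix (Fin D.n) (Fin D.n) k}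
    (ht : D.IsImpK t) (w x : D.S) : Commute (t w) (t x) := by
  have := Fintype.ofFinite (D.fix ⊥)
  have : NeZero D.n := ⟨hn⟩
  exact D.imp_commute bot_le D.spans_rhoBot D.linked_rhoBot (D.isImp_rhoBot ht) w x

theorem Ops.impK_eq (hn : D.n ≠ 0) {t : D.S → Matrix (Fin D.n) (Fin D.n) k}
    (ht : D.IsImpK t) (w : D.S) {A : Matrix (Fin D.n) (Fin D.n) k} (hA : A ^ p = 1)
    (hAi : ∀ a b : D.K, (b : G) = w * a * (w : G)⁻¹ → A * D.ρ a = D.ρ b * A) : A = t w := by
  have := Fintype.ofFinite (D.fix ⊥)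
  have : NeZero D.n := ⟨hn⟩
  exact D.imp_eq bot_le D.spans_rhoBot D.linked_rhoBot (D.isImp_rhoBot ht) w hA
    fun c => hAi _ _ rfl

theorem Ops.impK_mul (hn : D.n ≠ 0) {t : D.S → Matrix (Fin D.n) (Fin D.n) k}
    (ht : D.IsImpK t) (w x : D.S) : t (w * x) = t w * t x := by
  refine (D.impK_eq hn ht (w * x) ?_ fun a b hab => ?_).symm
  · rw [(D.impK_commute hn ht w x).mul_pow, (ht w).1, (ht x).1, one_mul]
  · obtain ⟨c, hc⟩ : ∃ c : D.K, (c : G) = x * a * (x : G)⁻¹ :=
      ⟨⟨_, (Subgroup.mem_normalizer_iff.1 (D.norm x.2) a).1 a.2⟩, rfl⟩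
    rw [mul_assoc, (ht x).2 a c hc, ← mul_assoc, (ht w).2 c b (by
      rw [hab, hc, Subgroup.coe_mul]; group), mul_assoc]

theorem Ops.impK_one (hn : D.n ≠ 0) {t : D.S → Matrix (Fin D.n) (Fin D.n) k}
    (ht : D.IsImpK t) : t 1 = 1 :=
  (D.impK_eq hn ht 1 (one_pow p) fun a b hab => by
    rw [show b = a from Subtype.ext (by rw [hab]; simp), one_mul, mul_one]).symm

theorem Ops.impK_pow (hn : D.n ≠ 0) {t : D.S → Matrix (Fin D.n) (Fin D.n) k}
    (ht : D.IsImpK t) (w : D.S) : ∀ j : ℕ, t (w ^ j) = t w ^ j := by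
  intro j
  induction j with
  | zero => rw [pow_zero, pow_zero, D.impK_one hn ht]
  | succ j ih => rw [pow_succ, D.impK_mul hn ht, ih, pow_succ]

/-- The polynomial ring in the elements of `S`. -/
abbrev Ops.R : Type _ := MvPolynomial D.S k

/-- The field of rational functions in the elements of `S`. -/
abbrev Ops.F : Type _ := FractionRing D.R

/-- The constants. -/
noncomputable def Ops.inc : k →+* D.F :=
  (algebraMap D.R D.F).comp MvPolynomial.C

/-- The variable of `w`. -/
noncomputable def Ops.var (w : D.S) : D.F := algebraMap D.R D.F (MvPolynomial.X w)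

/-- The general element. -/
noncomputable def Ops.gy [Fintype D.S] (t : D.S → Matrix (Fin D.n) (Fin D.n) k) :
    Matrix (Fin D.n) (Fin D.n) D.F :=
  ∑ w, D.var w • ((t w).map D.inc - 1)

theorem Ops.charP_F : CharP D.F p :=
  charP_of_injective_ringHom (D.inc.injective) p

variable [Fintype D.S]

theorem Ops.ad_gy (t : D.S → Matrix (Fin D.n) (Fin D.n) k) :
    ad (D.gy t) = ∑ w, D.var w • ad ((t w).map D.inc) := by
  rw [Ops.gy]
  generalize (Finset.univ : Finset D.S) = s
  induction s using Finset.induction_on with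
  | empty => exact LinearMap.ext fun X => by simp [ad_apply]
  | insert w s hw ih => rw [Finset.sum_insert hw, Finset.sum_insert hw, ad_add, ad_smul, ad_sub_one, ih]

theorem Ops.gy_pow (hn : D.n ≠ 0) {t : D.S → Matrix (Fin D.n) (Fin D.n) k} (ht : D.IsImpK t) :
    D.gy t ^ p = 0 := by
  have := D.charP_F
  have : NeZero D.n := ⟨hn⟩
  have : CharP (Matrix (Fin D.n) (Fin D.n) D.F) p :=
    charP_of_injective_algebraMap (algebraMap D.F _).injective p
  rw [Ops.gy, sum_pow_char' p _ _ fun i _ j _ => ?_]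
  · refine Finset.sum_eq_zero fun w _ => ?_
    rw [smul_pow, sub_pow_char_of_commute _ (Commute.one_right _), one_pow, ← RingHom.mapMatrix_apply,
      ← map_pow, (ht w).1, map_one, sub_self, smul_zero]
  · refine (Commute.sub_left (Commute.sub_right ?_ (Commute.one_right _))
      (Commute.one_left _)).smul_left _ |>.smul_right _
    exact (D.impK_commute hn ht i j).map D.inc.mapMatrix

/-- The image of `gy ^ (p-1)` absorbs the images of `(ad gy) ^ (p-1)` on the kernel. -/
theorem ad_pow_mulVec {F : Type*} [Field F] {n : ℕ} [NeZero n] [CharP F p]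
    {y Z : Matrix (Fin n) (Fin n) F} {v : Fin n → F} (hv : y *ᵥ v = 0) :
    (((ad y) ^ (p - 1)) Z) *ᵥ v = (y ^ (p - 1)) *ᵥ (Z *ᵥ v) := by
  rw [ad_pow_pred p, Matrix.sum_mulVec,
    Finset.sum_eq_single_of_mem (p - 1) (Finset.mem_range.2 (Nat.sub_lt hp.out.pos one_pos))]
  · rw [Nat.sub_self, pow_zero, mul_one, Matrix.mulVec_mulVec]
  · intro i hi hne
    have hi' := Finset.mem_range.1 hi
    rw [show p - 1 - i = (p - 2 - i) + 1 by omega, pow_succ]
    simp only [← Matrix.mulVec_mulVec, hv, Matrix.mulVec_zero]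

/-- **One orbit type.** If `B` commutes with the implementers of a subgroup `Mx` with
`S = Mx ⟨x⟩`, the `p` conjugates of `B` sum to an element of the range of `(ad y) ^ (p-1)`. -/
theorem Ops.sum_conj_mem (hn : D.n ≠ 0) {t : D.S → Matrix (Fin D.n) (Fin D.n) k}
    (ht : D.IsImpK t) {Mx : Subgroup D.S} {x : D.S} (hx : ∀ w, ∃ j : ℕ, w * (x ^ j)⁻¹ ∈ Mx)
    {B : Matrix (Fin D.n) (Fin D.n) k} (hB : ∀ w ∈ Mx, Commute (t w) B) :
    ((((ad (t x)) ^ (p - 1)) B).map D.inc) ∈ LinearMap.range ((ad (D.gy t)) ^ (p - 1)) := by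
  have := D.charP_F
  have : NeZero D.n := ⟨hn⟩
  set T : D.S → Matrix (Fin D.n) (Fin D.n) D.F := fun w => (t w).map D.inc with hT
  have hTc : ∀ v w, Commute (T v) (T w) := fun v w =>
    (D.impK_commute hn ht v w).map D.inc.mapMatrix
  choose j hj using hx
  let jj : D.S → ℕ := fun w => if w = x then 1 else j w
  have hjj : ∀ w, w * (x ^ jj w)⁻¹ ∈ Mx := by
    intro w
    by_cases h : w = x
    · simp only [jj, h, if_true, pow_one, mul_inv_cancel, Mx.one_mem]
    · simp only [jj, if_neg h]; exact hj w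
  set E := Module.End D.F (Matrix (Fin D.n) (Fin D.n) D.F)
  have : CharP E p := charP_of_injective_algebraMap (algebraMap D.F E).injective p
  let L : D.S → E := fun w => LinearMap.mulLeft D.F (T w)
  let R : E := LinearMap.mulRight D.F (T x)
  let Qt : D.S → E := fun w =>
    L (w * (x ^ jj w)⁻¹) * ∑ i ∈ Finset.range (jj w), L x ^ i * R ^ (jj w - 1 - i)
  let Q : E := ∑ w, D.var w • Qt w
  have hLc : ∀ v w, Commute (L v) (L w) := fun v w => LinearMap.ext fun Z => by
    show T v * (T w * Z) = T w * (T v * Z)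
    rw [← mul_assoc, (hTc v w).eq, mul_assoc]
  have hLR : ∀ v, Commute (L v) R := fun v => LinearMap.commute_mulLeft_right (R := D.F) _ _
  have hterm : ∀ w, ∀ i j' : ℕ, ∀ v, ∀ i₂ j₂ : ℕ,
      Commute (L w * (L x ^ i * R ^ j')) (L v * (L x ^ i₂ * R ^ j₂)) := by
    intro w i j' v i₂ j₂
    refine Commute.mul_left ?_ (Commute.mul_left ?_ ?_) <;>
      refine Commute.mul_right ?_ (Commute.mul_right ?_ ?_)
    · exact hLc _ _
    · exact (hLc _ _).pow_right _
    · exact (hLR _).pow_right _
    · exact (hLc _ _).pow_left _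
    · exact (Commute.refl _).pow_pow _ _
    · exact (hLR _).pow_pow _ _
    · exact ((hLR _).symm).pow_left _
    · exact ((hLR _).symm).pow_pow _ _
    · exact (Commute.refl _).pow_pow _ _
  have hQtc : ∀ v w, Commute (Qt v) (Qt w) := by
    intro v w
    show Commute (L _ * _) (L _ * _)
    rw [Finset.mul_sum, Finset.mul_sum]
    exact Commute.sum_left _ _ _ fun i _ => Commute.sum_right _ _ _ fun i' _ => hterm _ _ _ _ _ _
  have hLp : ∀ w, L w ^ p = 1 := fun w => by
    rw [LinearMap.pow_mulLeft, hT]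
    simp only
    rw [← RingHom.mapMatrix_apply, ← map_pow, (ht w).1, map_one]
    exact LinearMap.mulLeft_one _ _
  have hRp : R ^ p = 1 := by
    rw [LinearMap.pow_mulRight, hT]
    simp only
    rw [← RingHom.mapMatrix_apply, ← map_pow, (ht x).1, map_one]
    exact LinearMap.mulRight_one _ _
  set lam : D.F := ∑ w, D.var w ^ p * (jj w : D.F) with hlam
  have hQp : Q ^ p = lam • (1 : E) := by
    rw [sum_pow_char' p _ _ fun v _ w _ => ((hQtc v w).smul_left _).smul_right _, hlam,
      Finset.sum_smul]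
    refine Finset.sum_congr rfl fun w _ => ?_
    rw [smul_pow, Commute.mul_pow (Commute.sum_right _ _ _ fun i _ =>
        ((hLc _ x).pow_right i).mul_right ((hLR _).pow_right _)), hLp, one_mul,
      sum_pow_char' p _ _ fun a _ b _ => Commute.mul_left
        (((Commute.refl (L x)).pow_pow a b).mul_right ((hLR x).pow_pow _ _))
        (((hLR x).symm.pow_pow _ _).mul_right ((Commute.refl R).pow_pow _ _))]
    rw [mul_smul]
    congr 1
    rw [Finset.sum_congr rfl fun i _ => by
      rw [((hLR x).pow_pow i _).mul_pow, ← pow_mul, ← pow_mul, mul_comm i, mul_comm (jj w - 1 - i),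
        pow_mul, pow_mul, hLp, hRp, one_pow, one_pow, one_mul], Finset.sum_const, Finset.card_range]
    rw [Nat.cast_smul_eq_nsmul]
  have hlam0 : lam ≠ 0 := by
    intro h
    have h1 : (∑ w, MvPolynomial.X w ^ p * (jj w : D.R)) = 0 := by
      apply IsFractionRing.injective D.R D.F
      rw [map_zero, map_sum]
      simp only [map_mul, map_pow, map_natCast]
      exact h
    have h2 := congrArg (MvPolynomial.eval fun w : D.S => if w = x then (1 : k) else 0) h1
    simp only [map_sum, map_mul, map_pow, map_natCast, MvPolynomial.eval_X, map_zero, ite_pow,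
      one_pow, zero_pow hp.out.ne_zero, ite_mul, one_mul, zero_mul, Finset.sum_ite_eq',
      Finset.mem_univ, if_true, jj] at h2
    simp at h2
  let z : E := L x - R
  let good : Matrix (Fin D.n) (Fin D.n) D.F → Prop := fun Z => ∀ w ∈ Mx, Commute (T w) Z
  have hzQ : Commute z Q := Commute.sum_right _ _ _ fun w _ =>
    ((Commute.mul_right ((hLc x _).sub_left (hLR _).symm) (Commute.sum_right _ _ _ fun i _ =>
      Commute.mul_right (((Commute.refl (L x)).sub_left (hLR x).symm).pow_right i)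
        (((hLR x).sub_left (Commute.refl R)).pow_right _)))).smul_right _
  have hstep : ∀ Z, good Z → ad (D.gy t) Z = (Q * z) Z := by
    intro Z hZ
    rw [D.ad_gy, LinearMap.sum_apply, Finset.sum_mul, LinearMap.sum_apply]
    refine Finset.sum_congr rfl fun w _ => ?_
    rw [smul_mul_assoc, LinearMap.smul_apply, LinearMap.smul_apply]
    congr 1
    simp only [Qt, mul_assoc (L _)]
    rw [Commute.geom_sum₂_mul (hLR x), Module.End.mul_apply, LinearMap.sub_apply,
      LinearMap.pow_mulLeft, LinearMap.pow_mulRight]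
    simp only [L, LinearMap.mulLeft_apply, LinearMap.mulRight_apply, ad_apply]
    have hw : T w = T (w * (x ^ jj w)⁻¹) * T x ^ jj w := by
      simp only [hT, ← RingHom.mapMatrix_apply, ← map_pow, ← map_mul]
      congr 1
      rw [← D.impK_pow hn ht, ← D.impK_mul hn ht, inv_mul_cancel_right]
    show T w * Z - Z * T w = _
    rw [mul_sub, hw, mul_assoc, ← mul_assoc Z, ← (hZ _ (hjj w)).eq, mul_assoc]
  have hgoodz : ∀ Z, good Z → good (z Z) := fun Z hZ w hw => by
    show Commute (T w) (T x * Z - Z * T x)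
    exact ((hTc w x).mul_right (hZ w hw)).sub_right ((hZ w hw).mul_right (hTc w x))
  have hgoodQ : ∀ Z, good Z → good (Q Z) := fun Z hZ w hw => by
    show Commute (T w) ((∑ v, D.var v • Qt v) Z)
    rw [LinearMap.sum_apply]
    refine Commute.sum_right _ _ _ fun v _ => ?_
    rw [LinearMap.smul_apply]
    refine Commute.smul_right ?_ _
    show Commute (T w) (T _ * ((∑ i ∈ Finset.range (jj v), L x ^ i * R ^ (jj v - 1 - i)) Z))
    rw [LinearMap.sum_apply]
    refine (hTc w _).mul_right (Commute.sum_right _ _ _ fun i _ => ?_)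
    simp only [L, R]
    rw [LinearMap.pow_mulLeft, LinearMap.pow_mulRight]
    show Commute (T w) (T x ^ i * (Z * T x ^ (jj v - 1 - i)))
    exact ((hTc w x).pow_right i).mul_right ((hZ w hw).mul_right ((hTc w x).pow_right _))
  have hiter : ∀ (q : ℕ) Z, good Z → good ((z ^ q) Z) ∧
      ((ad (D.gy t)) ^ q) Z = (Q ^ q * z ^ q) Z := by
    intro q
    induction q with
    | zero => intro Z hZ; simp only [pow_zero, mul_one]; exact ⟨hZ, trivial⟩
    | succ q ih =>
      intro Z hZ
      obtain ⟨h1, h2⟩ := ih (z Z) (hgoodz Z hZ)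
      refine ⟨by rw [pow_succ]; exact h1, ?_⟩
      rw [pow_succ, Module.End.mul_apply, hstep Z hZ]
      have hQZ : good ((z) Z) := hgoodz Z hZ
      obtain ⟨-, h4⟩ := ih (Q (z Z)) (hgoodQ _ hQZ)
      rw [Module.End.mul_apply, h4, ← Module.End.mul_apply, ← Module.End.mul_apply]
      congr 1
      rw [mul_assoc (Q ^ q), (hzQ.pow_left q).eq, ← mul_assoc, ← pow_succ, mul_assoc,
        ← pow_succ]
  have hgoodB : good (B.map D.inc) := fun w hw => (hB w hw).map D.inc.mapMatrix
  refine ⟨lam⁻¹ • Q (B.map D.inc), ?_⟩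
  have hgood : good (lam⁻¹ • Q (B.map D.inc)) := fun w hw => (hgoodQ _ hgoodB w hw).smul_right _
  rw [(hiter (p - 1) _ hgood).2, map_smul, ← Module.End.mul_apply, mul_assoc,
    (hzQ.pow_left _).eq, ← mul_assoc, ← pow_succ, Nat.sub_add_cancel hp.out.one_le, hQp,
    smul_mul_assoc, one_mul, LinearMap.smul_apply, smul_smul, inv_mul_cancel₀ hlam0, one_smul]
  have hz : ∀ q : ℕ, (z ^ q) (B.map D.inc) = (((ad (t x)) ^ q) B).map D.inc := by
    intro q
    induction q with
    | zero => rfl
    | succ q ih =>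
      rw [pow_succ', pow_succ', Module.End.mul_apply, ih, Module.End.mul_apply, ad_apply,
        ← RingHom.mapMatrix_apply, ← RingHom.mapMatrix_apply, map_sub, map_mul, map_mul]
      rfl
  exact hz _

end CfsgLib.BlockA.AbelianIso
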