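import Cfsg.Agent.Lib.BlockA.AbelianIso.Defs
import Cfsg.Agent.Lib.BlockA.CoreBlock
import Cfsg.Agent.Lib.Clifford.Degrees

/-!
The correspondence between `K` and `K ⊓ N(P)`, and the characters covered by a block of `N(P)`
whose induced block covers an orbit of characters of `K`.
-/

set_option autoImplicit false
set_option linter.unusedSectionVars false
set_option maxHeartbeats 1000000

namespace CfsgLib.BlockA.AbelianIso

open Cfsg CfsgLib.Block CfsgLib.BlockA MonoidAlgebra
open scoped ComplexConjugate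

universe u

variable {G : Type u} [Group G] [Fintype G]

/-- Restriction to `K ⊓ H`, read inside `H`. -/
def resC (K H : Subgroup G) (θ : K → ℂ) : K.subgroupOf H → ℂ :=
  fun x => θ ⟨((x : H) : G), x.2⟩

/-- `β` occurs in the restriction of `θ` with multiplicity prime to `p`. -/
def Mult (p : ℕ) (K H : Subgroup G) [Fintype (K.subgroupOf H)] (θ : K → ℂ)
    (β : K.subgroupOf H → ℂ) : Prop :=
  ∃ m : ℕ, classInner (resC K H θ) β = (m : ℂ) ∧ ¬ p ∣ m

variable {p : ℕ} [Fact p.Prime] {K : Subgroup G} [hKn : K.Normal] [Fintype K]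

/-- `θ` is fixed by `P`. -/
def Fixed (P : Subgroup G) (θ : IrrCharacter K) : Prop := ∀ r ∈ P, conjIrr K θ r = θ

theorem natCard_subgroupOf_dvd (H : Subgroup G) : Nat.card (K.subgroupOf H) ∣ Nat.card K :=
  Subgroup.card_comap_dvd_of_injective K H.subtype (Subgroup.subtype_injective H)

theorem not_dvd_natCard_subgroupOf (hKp : ¬ p ∣ Nat.card K) (H : Subgroup G) :
    ¬ p ∣ Nat.card (K.subgroupOf H) := fun h => hKp (h.trans (natCard_subgroupOf_dvd H))

variable {P : Subgroup G} (hP : IsPGroup p P) (hKp : ¬ p ∣ Nat.card K)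
include hP hKp

theorem eq_one_of_mem_inf {v : G} (hvP : v ∈ P) (hvK : v ∈ K) : v = 1 := by
  obtain ⟨k, hk⟩ := IsPGroup.iff_orderOf.1 hP ⟨v, hvP⟩
  rw [Subgroup.orderOf_mk] at hk
  rcases k with _ | k
  · rw [pow_zero, orderOf_eq_one_iff] at hk; exact hk
  · exact absurd ((hk ▸ dvd_pow_self p (Nat.succ_ne_zero k) : p ∣ orderOf v).trans
      (Subgroup.orderOf_dvd_natCard K hvK)) hKp

/-- `K ⊓ N(P)` centralizes `P`. -/
theorem comm_of_mem_normalizer {x r : G} (hx : x ∈ K) (hxN : x ∈ Subgroup.normalizer (P : Set G)) (hr : r ∈ P) :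
    r * x = x * r := by
  have h1 : x * r * x⁻¹ * r⁻¹ = 1 := by
    refine eq_one_of_mem_inf hP hKp
      (P.mul_mem ((Subgroup.mem_normalizer_iff.1 hxN r).1 hr) (P.inv_mem hr)) ?_
    rw [show x * r * x⁻¹ * r⁻¹ = x * (r * x⁻¹ * r⁻¹) by group]
    exact K.mul_mem hx (hKn.conj_mem _ (K.inv_mem hx) r)
  rw [mul_inv_eq_one, mul_inv_eq_iff_eq_mul] at h1
  exact h1.symm

theorem conj_resC (θ : IrrCharacter K) {r : G} (hr : r ∈ P) :
    resC K (Subgroup.normalizer (P : Set G)) (conjIrr K θ r : K → ℂ) = resC K (Subgroup.normalizer (P : Set G)) (θ : K → ℂ) := by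
  funext x
  show (conjIrr K θ r : K → ℂ) _ = (θ : K → ℂ) _
  rw [conjIrr_apply]
  refine congrArg (θ : K → ℂ) (Subtype.ext ?_)
  show r * ((x : Subgroup.normalizer (P : Set G)) : G) * r⁻¹ = ((x : Subgroup.normalizer (P : Set G)) : G)
  rw [comm_of_mem_normalizer hP hKp (x := ((x : Subgroup.normalizer (P : Set G)) : G)) x.2 (x : Subgroup.normalizer (P : Set G)).2 hr, mul_inv_cancel_right]

variable [Fintype (K.subgroupOf (Subgroup.normalizer (P : Set G)))] [Fintype (Subgroup.normalizer (P : Set G))]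

/-- **Glauberman's correspondence over `N(P)`.** -/
theorem mult_facts :
    (∀ θ : IrrCharacter K, Fixed P θ →
      ∃! β : IrrCharacter (K.subgroupOf (Subgroup.normalizer (P : Set G))), Mult p K (Subgroup.normalizer (P : Set G)) (θ : K → ℂ) (β : _ → ℂ)) ∧
    ∀ θ θ' : IrrCharacter K, Fixed P θ → Fixed P θ' →
      ∀ β : IrrCharacter (K.subgroupOf (Subgroup.normalizer (P : Set G))), Mult p K (Subgroup.normalizer (P : Set G)) (θ : K → ℂ) (β : _ → ℂ) →
        Mult p K (Subgroup.normalizer (P : Set G)) (θ' : K → ℂ) (β : _ → ℂ) → θ = θ' := by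
  classical
  let _inst : MulDistribMulAction P K :=
    MulDistribMulAction.compHom K ((MulAut.conjNormal : G →* MulAut K).comp P.subtype)
  have hsmul : ∀ (r : P) (k : K), ((r • k : K) : G) = (r : G) * k * (r : G)⁻¹ := fun r k =>
    MulAut.conjNormal_apply (r : G) k
  let ι : K.subgroupOf (Subgroup.normalizer (P : Set G)) →* K :=
    { toFun := fun x => ⟨((x : Subgroup.normalizer (P : Set G)) : G), x.2⟩
      map_one' := rfl
      map_mul' := fun _ _ => rfl }
  have hι : Function.Injective ι := fun x y h =>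
    Subtype.ext (Subtype.ext (congrArg (fun k : K => (k : G)) h))
  have hrange : ∀ g : K, g ∈ ι.range ↔ ∀ r : P, r • g = g := by
    intro g
    constructor
    · rintro ⟨x, rfl⟩ r
      apply Subtype.ext
      rw [hsmul]
      show (r : G) * ((x : Subgroup.normalizer (P : Set G)) : G) * (r : G)⁻¹ = ((x : Subgroup.normalizer (P : Set G)) : G)
      rw [comm_of_mem_normalizer hP hKp (x := ((x : Subgroup.normalizer (P : Set G)) : G)) x.2 (x : Subgroup.normalizer (P : Set G)).2 r.2, mul_inv_cancel_right]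
    · intro h
      have hg : (g : G) ∈ Subgroup.normalizer (P : Set G) := by
        refine Subgroup.centralizer_le_normalizer _ (Subgroup.mem_centralizer_iff.2 fun r hr => ?_)
        have := congrArg Subtype.val (h ⟨r, hr⟩)
        rw [hsmul] at this
        exact mul_inv_eq_iff_eq_mul.1 this
      exact ⟨⟨⟨(g : G), hg⟩, g.2⟩, rfl⟩
  have hinv : ∀ θ : IrrCharacter K, Fixed P θ → IsInv P (θ : K → ℂ) := by
    intro θ hθ r k
    have := congrArg (fun φ : IrrCharacter K => (φ : K → ℂ) k) (hθ r r.2)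
    simp only [conjIrr_apply] at this
    exact Eq.trans (congrArg (θ : K → ℂ) (Subtype.ext (hsmul r k))) this
  obtain ⟨hex, -, hinj, -⟩ := glauberman_pGroup ι hι hrange hP hKp
  refine ⟨fun θ hθ => hex θ (hinv θ hθ), fun θ θ' hθ hθ' β ⟨m, hm, hmp⟩ ⟨m', hm', hmp'⟩ => ?_⟩
  exact hinj θ θ' (hinv θ hθ) (hinv θ' hθ') β m m' hm hmp hm' hmp'

theorem mult_exists {θ : IrrCharacter K} (hθ : Fixed P θ) :
    ∃ β : IrrCharacter (K.subgroupOf (Subgroup.normalizer (P : Set G))), Mult p K (Subgroup.normalizer (P : Set G)) (θ : K → ℂ) (β : _ → ℂ) :=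
  ((mult_facts hP hKp).1 θ hθ).exists

theorem mult_unique {θ : IrrCharacter K} (hθ : Fixed P θ)
    {β β' : IrrCharacter (K.subgroupOf (Subgroup.normalizer (P : Set G)))} (h : Mult p K (Subgroup.normalizer (P : Set G)) (θ : K → ℂ) (β : _ → ℂ))
    (h' : Mult p K (Subgroup.normalizer (P : Set G)) (θ : K → ℂ) (β' : _ → ℂ)) : β = β' :=
  ((mult_facts hP hKp).1 θ hθ).unique h h'

theorem mult_injective {θ θ' : IrrCharacter K} (hθ : Fixed P θ) (hθ' : Fixed P θ')
    {β : IrrCharacter (K.subgroupOf (Subgroup.normalizer (P : Set G)))} (h : Mult p K (Subgroup.normalizer (P : Set G)) (θ : K → ℂ) (β : _ → ℂ))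
    (h' : Mult p K (Subgroup.normalizer (P : Set G)) (θ' : K → ℂ) (β : _ → ℂ)) : θ = θ' :=
  (mult_facts hP hKp).2 θ θ' hθ hθ' β h h'

omit hP hKp [Fintype (K.subgroupOf (Subgroup.normalizer (P : Set G)))] in
theorem fixed_conj {θ : IrrCharacter K} (hθ : Fixed P θ) {h : G} (hh : h ∈ Subgroup.normalizer (P : Set G)) :
    Fixed P (conjIrr K θ h) := by
  intro r hr
  rw [conjIrr_conjIrr, show h * r = h * r * h⁻¹ * h by group, ← conjIrr_conjIrr,
    hθ _ ((Subgroup.mem_normalizer_iff.1 hh r).1 hr)]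

omit hP hKp in
theorem mult_conj {θ : IrrCharacter K}
    {β : IrrCharacter (K.subgroupOf (Subgroup.normalizer (P : Set G)))} (h : Mult p K (Subgroup.normalizer (P : Set G)) (θ : K → ℂ) (β : _ → ℂ))
    (x : Subgroup.normalizer (P : Set G)) :
    Mult p K (Subgroup.normalizer (P : Set G)) (conjIrr K θ (x : G) : K → ℂ) (conjIrr (K.subgroupOf (Subgroup.normalizer (P : Set G))) β x : _ → ℂ) := by
  obtain ⟨m, hm, hmp⟩ := h
  refine ⟨m, ?_, hmp⟩
  rw [← hm, CfsgLib.Char.classInner_def, CfsgLib.Char.classInner_def]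
  congr 1
  refine Fintype.sum_equiv (conjEquiv (K.subgroupOf (Subgroup.normalizer (P : Set G))) x).toEquiv _ _ fun n => ?_
  rw [conjIrr_apply]
  rfl

/-- The stabilisers of corresponding characters agree on `N(P)`. -/
theorem mult_stab {θ : IrrCharacter K} (hθ : Fixed P θ)
    {β : IrrCharacter (K.subgroupOf (Subgroup.normalizer (P : Set G)))} (h : Mult p K (Subgroup.normalizer (P : Set G)) (θ : K → ℂ) (β : _ → ℂ))
    (x : Subgroup.normalizer (P : Set G)) :
    conjIrr (K.subgroupOf (Subgroup.normalizer (P : Set G))) β x = β ↔ conjIrr K θ (x : G) = θ := by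
  constructor
  · intro e
    have h1 := mult_conj h x
    rw [e] at h1
    exact mult_injective hP hKp (fixed_conj hθ x.2) hθ h1 h
  · intro e
    have h1 := mult_conj h x
    rw [e] at h1
    exact mult_unique hP hKp hθ h1 h

/-- Corresponding characters are congruent modulo `M`. -/
theorem isCorrespondent_of_mult {M : Ideal AlgInt} [M.IsPrime] (hM : IsPModular p M)
    {θ : IrrCharacter K} (hθ : Fixed P θ) {β : IrrCharacter (K.subgroupOf (Subgroup.normalizer (P : Set G)))}
    (h : Mult p K (Subgroup.normalizer (P : Set G)) (θ : K → ℂ) (β : _ → ℂ)) :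
    IsCorrespondent p M K (Subgroup.normalizer (P : Set G)) (θ : K → ℂ) (β : _ → ℂ) := by
  classical
  obtain ⟨m, hm, hmp⟩ := h
  refine ⟨m, hmp, fun x => ?_⟩
  have := Fintype.ofFinite (IrrCharacter (K.subgroupOf (Subgroup.normalizer (P : Set G))))
  let ι : K.subgroupOf (Subgroup.normalizer (P : Set G)) →* K :=
    { toFun := fun x => ⟨((x : Subgroup.normalizer (P : Set G)) : G), x.2⟩
      map_one' := rfl
      map_mul' := fun _ _ => rfl }
  have hch := CfsgLib.Char.isCharacter_comp (CfsgLib.Char.irr_isCharacter θ.2) ι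
  have hcl : IsClassFunction _ (resC K (Subgroup.normalizer (P : Set G)) (θ : K → ℂ)) :=
    CfsgLib.Char.isCharacter_isClassFunction hch
  rw [show (θ : K → ℂ) ⟨((x : Subgroup.normalizer (P : Set G)) : G), x.2⟩ = resC K (Subgroup.normalizer (P : Set G)) (θ : K → ℂ) x from rfl,
    CfsgLib.Char.classFunction_apply_eq_sum hcl x,
    ← Finset.add_sum_erase _ _ (Finset.mem_univ β), hm, add_sub_cancel_left]
  refine memLocalIdeal_sum _ _ fun β' hβ' => ?_
  obtain ⟨v, hv⟩ := CfsgLib.Char.classInner_isCharacter_nat hch (CfsgLib.Char.irr_isCharacter β'.2)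
  have hpv : p ∣ v := by
    by_contra hnd
    exact (Finset.mem_erase.1 hβ').1 (mult_unique hP hKp hθ ⟨v, hv, hnd⟩ ⟨m, hm, hmp⟩)
  rw [show classInner (resC K (Subgroup.normalizer (P : Set G)) (θ : K → ℂ)) (β' : _ → ℂ) = (v : ℂ) from hv]
  exact memLocalIdeal_mul_right (memLocalRing_irr_apply β' _) ((memLocalIdeal_natCast_iff hM v).2 hpv)

/-- **Covering through induction of blocks.** -/
theorem exists_fixed_mult_of_induced {M : Ideal AlgInt} [M.IsPrime]
    (hM : IsPModular p M) {B : Set (IrrCharacter G)} {c : Set (IrrCharacter (Subgroup.normalizer (P : Set G)))}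
    (hind : IsInducedBlock M (Subgroup.normalizer (P : Set G)) c B) {χ : IrrCharacter G} (hχ : χ ∈ B) {θ : IrrCharacter K}
    (hθ : classInner (fun k : K => (χ : G → ℂ) k) (θ : K → ℂ) ≠ 0)
    {ξ : IrrCharacter (Subgroup.normalizer (P : Set G))} (hξ : ξ ∈ c) {β : IrrCharacter (K.subgroupOf (Subgroup.normalizer (P : Set G)))}
    (hβ : classInner (fun k : K.subgroupOf (Subgroup.normalizer (P : Set G)) => (ξ : (Subgroup.normalizer (P : Set G)) → ℂ) k) (β : _ → ℂ) ≠ 0) :
    ∃ g : G, Fixed P (conjIrr K θ g) ∧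
      Mult p K (Subgroup.normalizer (P : Set G)) (conjIrr K θ g : K → ℂ) (β : _ → ℂ) := by
  classical
  by_contra hall
  push Not at hall
  let O : Set (IrrCharacter K) := {η | ∃ g : G, η = conjIrr K θ g}
  have hO : ∀ η ∈ O, ∀ g : G, conjIrr K η g ∈ O := by
    rintro _ ⟨g, rfl⟩ h
    exact ⟨g * h, conjIrr_conjIrr θ g h⟩
  have hint : ∀ n, MemLocalRing M (blockCoeff O n) := fun n =>
    memLocalRing_blockCoeff_of_coprime hM hKp _ n
  set w : MonoidAlgebra ℂ G := inclSub K (blockSum O) with hw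
  have hwl : IsLocalCentral M w := isLocalCentral_inclSub_blockSum hO hint
  let z : Subalgebra.center (kres M) (MonoidAlgebra (kres M) G) :=
    ⟨redA M w, isClassCoeff_iff_mem_center.1 (redA_isClassCoeff hwl.1)⟩
  have h1 : lam M ξ (resZ (Subgroup.normalizer (P : Set G)) z) = 1 := by
    rw [(isInducedBlock_iff _ hind.1 hind.2.1 hξ hχ).1 hind, lam_apply χ hwl z rfl, hw,
      omegaC_inclSub_blockSum hO hθ, if_pos ⟨1, (conjIrr_one θ).symm⟩, redC_one]
  rw [lam_apply ξ (isLocalCentral_resSub (Subgroup.normalizer (P : Set G)) hwl) (resZ (Subgroup.normalizer (P : Set G)) z)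
    (by rw [redA_resSub, coe_resZ])] at h1
  have hsupp : ∀ x ∉ K.subgroupOf (Subgroup.normalizer (P : Set G)), (resSub (Subgroup.normalizer (P : Set G)) w).coeff x = 0 := fun x hx => by
    rw [coeff_resSub, hw, coeff_inclSub_of_not_mem]
    exact hx
  rw [omegaC_eq_of_constituent (resSub_isClassCoeff _ hwl.1) hsupp hβ] at h1
  -- the orbit
  have := Fintype.ofFinite O
  let ι : K.subgroupOf (Subgroup.normalizer (P : Set G)) →* K :=
    { toFun := fun x => ⟨((x : Subgroup.normalizer (P : Set G)) : G), x.2⟩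
      map_one' := rfl
      map_mul' := fun _ _ => rfl }
  have hnat : ∀ η : O, ∃ v : ℕ, classInner (resC K (Subgroup.normalizer (P : Set G)) ((η : IrrCharacter K) : K → ℂ))
      (β : _ → ℂ) = (v : ℂ) := fun η =>
    CfsgLib.Char.classInner_isCharacter_nat
      (CfsgLib.Char.isCharacter_comp (CfsgLib.Char.irr_isCharacter η.1.2) ι)
      (CfsgLib.Char.irr_isCharacter β.2)
  choose v hv using hnat
  have hV : p ∣ ∑ η : O, v η := by
    let _ : MulAction P O :=
      { smul := fun r η => ⟨conjIrr K η.1 (r : G)⁻¹, hO _ η.2 _⟩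
        one_smul := fun η => Subtype.ext (by
          show conjIrr K η.1 ((1 : P) : G)⁻¹ = η.1
          rw [Subgroup.coe_one, inv_one, conjIrr_one])
        mul_smul := fun r s η => Subtype.ext (by
          show conjIrr K η.1 ((r * s : P) : G)⁻¹ = conjIrr K (conjIrr K η.1 (s : G)⁻¹) (r : G)⁻¹
          rw [conjIrr_conjIrr, Subgroup.coe_mul, mul_inv_rev]) }
    have h2 := pDiv_sum_sub_sum_fixed hP (fun η : O => (v η : ℂ))
      (fun η => isIntegral_natCast' _) (fun r η => by
        show (v (r • η) : ℂ) = (v η : ℂ)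
        rw [← hv, ← hv]
        show classInner (resC K (Subgroup.normalizer (P : Set G)) (conjIrr K η.1 (r : G)⁻¹ : K → ℂ)) _ = _
        rw [conj_resC hP hKp η.1 (P.inv_mem r.2)])
    have h3 : PDiv p (∑ η : O with ∀ r : P, r • η = η, (v η : ℂ)) := by
      refine pDiv_sum _ _ fun η hη => (pDiv_natCast_iff _).2 ?_
      obtain ⟨g, hg⟩ := η.2
      by_contra hnd
      refine hall g ?_ ⟨v η, by rw [← hg]; exact hv η, hnd⟩
      rw [← hg]
      intro r hr
      have := congrArg Subtype.val ((Finset.mem_filter.1 hη).2 ⟨r⁻¹, P.inv_mem hr⟩)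
      show conjIrr K η.1 r = η.1
      simpa using (show conjIrr K η.1 (r⁻¹)⁻¹ = η.1 from this)
    have h4 := pDiv_add h2 h3
    rw [sub_add_cancel, ← Nat.cast_sum, pDiv_natCast_iff] at h4
    exact h4
  have hcoef : ∀ y : K, blockCoeff O y =
      (Nat.card K : ℂ)⁻¹ * ((θ : K → ℂ) 1 * ∑ η : O, conj ((η.1 : K → ℂ) y)) := by
    intro y
    rw [blockCoeff, finsum_mem_eq_finite_toFinset_sum _ O.toFinite,
      Finset.sum_subtype _ (fun η => O.toFinite.mem_toFinset), Finset.mul_sum, Finset.mul_sum,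
      Finset.mul_sum]
    refine Finset.sum_congr rfl fun η _ => ?_
    obtain ⟨g, hg⟩ := η.2
    rw [hg, conjIrr_apply θ g 1]
    congr 2
    exact congrArg (θ : K → ℂ) (Subtype.ext (by simp))
  set L : ℂ := (Nat.card K : ℂ)⁻¹ * (θ : K → ℂ) 1 *
    ((Nat.card (K.subgroupOf (Subgroup.normalizer (P : Set G))) : ℂ) * ((β : K.subgroupOf (Subgroup.normalizer (P : Set G)) → ℂ) 1)⁻¹) with hLdef
  have hval : omegaC (β : _ → ℂ) (resSub (K.subgroupOf (Subgroup.normalizer (P : Set G))) (resSub (Subgroup.normalizer (P : Set G)) w)) =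
      L * ((∑ η : O, v η : ℕ) : ℂ) := by
    have e : ∀ η : O, ∑ x : K.subgroupOf (Subgroup.normalizer (P : Set G)),
        conj ((η.1 : K → ℂ) ⟨((x : Subgroup.normalizer (P : Set G)) : G), x.2⟩) * (β : K.subgroupOf (Subgroup.normalizer (P : Set G)) → ℂ) x =
        (Nat.card (K.subgroupOf (Subgroup.normalizer (P : Set G))) : ℂ) * (v η : ℂ) := by
      intro η
      have h := congrArg conj (hv η)
      rw [CfsgLib.Char.classInner_conj_symm, Complex.conj_natCast,
        CfsgLib.Char.classInner_def, inv_mul_eq_iff_eq_mul₀ CfsgLib.Char.natCard_ne_zero] at h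
      rw [← h]
      exact Finset.sum_congr rfl fun x _ => mul_comm _ _
    have e2 : ∀ x : K.subgroupOf (Subgroup.normalizer (P : Set G)),
        (resSub (K.subgroupOf (Subgroup.normalizer (P : Set G))) (resSub (Subgroup.normalizer (P : Set G)) w)).coeff x =
          blockCoeff O ⟨((x : Subgroup.normalizer (P : Set G)) : G), x.2⟩ := fun x => by
      rw [coeff_resSub, coeff_resSub, hw]
      exact (coeff_inclSub_of_mem K (blockSum O) ⟨_, x.2⟩).trans (by simp [blockSum])
    rw [omegaC_eq]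
    simp only [e2, hcoef, Finset.mul_sum, Finset.sum_mul]
    rw [Finset.sum_comm, Nat.cast_sum, Finset.mul_sum, Finset.sum_div]
    refine Finset.sum_congr rfl fun η _ => ?_
    rw [Finset.sum_congr rfl (g := fun x : K.subgroupOf (Subgroup.normalizer (P : Set G)) =>
      ((Nat.card K : ℂ)⁻¹ * (θ : K → ℂ) 1) *
        (conj ((η.1 : K → ℂ) ⟨((x : Subgroup.normalizer (P : Set G)) : G), x.2⟩) * (β : K.subgroupOf (Subgroup.normalizer (P : Set G)) → ℂ) x)) fun x _ => by ring,
      ← Finset.mul_sum, e η, hLdef]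
    ring
  have hLloc : MemLocalRing M L := by
    refine memLocalRing_mul (memLocalRing_mul (memLocalRing_inv_natCast hM hKp)
      (memLocalRing_irr_apply θ 1)) (memLocalRing_mul (memLocalRing_natCast _) ?_)
    rw [← CfsgLib.Block.charDegree_cast (CfsgLib.Char.irr_isCharacter β.2)]
    exact memLocalRing_inv_natCast hM fun h => not_dvd_natCard_subgroupOf hKp _
      (h.trans (CfsgLib.Clifford.Degrees.charDegree_dvd_card β.2))
  rw [hval] at h1
  have h0 : MemLocalIdeal M (L * ((∑ η : O, v η : ℕ) : ℂ)) :=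
    memLocalIdeal_mul_left hLloc ((memLocalIdeal_natCast_iff hM _).2 hV)
  rw [(redC_eq_zero_iff (memLocalRing_of_memLocalIdeal h0)).2 h0] at h1
  exact zero_ne_one h1

end CfsgLib.BlockA.AbelianIso
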