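import Cfsg.Prelude.Def_BlockLocal
import Cfsg.Prelude.Def_BlockRank
import Cfsg.Agent.Lib.BlockA.StabBlockChar

/-!
Perfect isometries preserve the regular rank, are transported by isomorphisms and by induction
from stabilisers.
-/

set_option autoImplicit false
set_option linter.unusedSectionVars false

namespace CfsgLib.BlockA.AbelianIso

open Cfsg CfsgLib.Block CfsgLib.BlockA
open scoped ComplexConjugate

universe u v w

section Rank

variable {p : ℕ} {A : Type u} [Group A] [Fintype A] {D : Type v} [Group D] [Fintype D]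
  {ι : Type w}

/-- A signed family whose kernel separates regular and singular elements maps the regular parts of
one side onto those of the other. -/
theorem blockRank_le_of_vanish (s : Finset ι) (a : ι → IrrCharacter A) (b : ι → IrrCharacter D)
    (ε : ι → ℂ) (hε : ∀ i ∈ s, ε i ≠ 0) (ha : Set.InjOn a (s : Set ι))
    (hvan : ∀ x y, ¬ (IsPRegular p x ↔ IsPRegular p y) →
      ∑ i ∈ s, ε i * (a i : A → ℂ) x * (b i : D → ℂ) y = 0) :
    blockRank p (b '' (s : Set ι)) ≤ blockRank p (a '' (s : Set ι)) := by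
  classical
  let μ : A → D → ℂ := fun x y => ∑ i ∈ s, ε i * (a i : A → ℂ) x * (b i : D → ℂ) y
  let L : (A → ℂ) →ₗ[ℂ] (D → ℂ) :=
    { toFun := fun f y => (Nat.card A : ℂ)⁻¹ * ∑ x, μ x y * f x⁻¹
      map_add' := fun f g => by
        funext y
        simp only [Pi.add_apply, mul_add, Finset.sum_add_distrib]
      map_smul' := fun c f => by
        funext y
        simp only [Pi.smul_apply, smul_eq_mul, RingHom.id_apply, Finset.mul_sum]
        exact Finset.sum_congr rfl fun x _ => by ring }
  have hL : ∀ i ∈ s, L (pRegularPart p (a i : A → ℂ)) = ε i • pRegularPart p (b i : D → ℂ) := by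
    intro i hi
    funext y
    show (Nat.card A : ℂ)⁻¹ * ∑ x, μ x y * pRegularPart p (a i : A → ℂ) x⁻¹ = _
    simp only [Pi.smul_apply, smul_eq_mul, pRegularPart]
    by_cases hy : IsPRegular p y
    · rw [if_pos hy]
      have e : ∀ x : A, μ x y * (if IsPRegular p x⁻¹ then (a i : A → ℂ) x⁻¹ else 0) =
          μ x y * conj ((a i : A → ℂ) x) := by
        intro x
        by_cases hx : IsPRegular p x⁻¹
        · rw [if_pos hx, irr_conj_eq (a i).2]
        · rw [show μ x y = 0 from hvan x y fun h => hx (by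
            simpa [IsPRegular] using h.2 hy), zero_mul, zero_mul]
      have e2 : ∀ j ∈ s, (Nat.card A : ℂ)⁻¹ *
          ∑ x, ε j * (a j : A → ℂ) x * (b j : D → ℂ) y * conj ((a i : A → ℂ) x) =
          if j = i then ε j * (b j : D → ℂ) y else 0 := by
        intro j hj
        have h := CfsgLib.Char.irr_classInner (a j).2 (a i).2
        rw [CfsgLib.Char.classInner_def] at h
        rw [show ∑ x, ε j * (a j : A → ℂ) x * (b j : D → ℂ) y * conj ((a i : A → ℂ) x) =
          ε j * (b j : D → ℂ) y * ∑ x, (a j : A → ℂ) x * conj ((a i : A → ℂ) x) by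
            rw [Finset.mul_sum]; exact Finset.sum_congr rfl fun x _ => by ring,
          mul_left_comm, h]
        by_cases hji : j = i
        · subst hji; simp
        · rw [if_neg fun e => hji (ha hj hi (Subtype.ext e)), if_neg hji, mul_zero]
      simp only [e, μ, Finset.sum_mul]
      rw [Finset.sum_comm, Finset.mul_sum, Finset.sum_congr rfl e2, Finset.sum_ite_eq' s i,
        if_pos hi]
    · rw [if_neg hy, mul_zero]
      refine mul_eq_zero_of_right _ (Finset.sum_eq_zero fun x _ => ?_)
      by_cases hx : IsPRegular p x⁻¹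
      · rw [show μ x y = 0 from hvan x y fun h => hy (h.1 (by simpa [IsPRegular] using hx)),
          zero_mul]
      · rw [if_neg hx, mul_zero]
  unfold blockRank
  refine le_trans (Submodule.finrank_mono ?_) (Submodule.finrank_map_le L _)
  rw [Submodule.span_le]
  rintro _ ⟨_, ⟨i, hi, rfl⟩, rfl⟩
  show pRegularPart p (b i : D → ℂ) ∈ _
  have h : (ε i)⁻¹ • L (pRegularPart p (a i : A → ℂ)) = pRegularPart p (b i : D → ℂ) := by
    rw [hL i hi, smul_smul, inv_mul_cancel₀ (hε i hi), one_smul]
  rw [← h]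
  exact Submodule.smul_mem _ _ ⟨_, Submodule.subset_span ⟨a i, ⟨i, hi, rfl⟩, rfl⟩, rfl⟩

/-- **A perfect isometry preserves the regular rank.** -/
theorem blockRank_eq_of_isometry {M : Ideal AlgInt} {B : Set (IrrCharacter A)}
    {c : Set (IrrCharacter D)} {I : IrrCharacter D → IrrCharacter A} {ε : IrrCharacter D → ℤ}
    (h : IsPerfectIsometry p M c B I ε) : blockRank p c = blockRank p B := by
  classical
  obtain ⟨hI, hε, hμ⟩ := h
  have hfin : c.Finite := c.toFinite
  have hne : ∀ η ∈ hfin.toFinset, (ε η : ℂ) ≠ 0 := fun η hη => by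
    rcases hε η (hfin.mem_toFinset.1 hη) with h | h <;> simp [h]
  have hvan : ∀ x y, ¬ (IsPRegular p x ↔ IsPRegular p y) →
      ∑ η ∈ hfin.toFinset, (ε η : ℂ) * (I η : A → ℂ) x * (η : D → ℂ) y = 0 := fun x y hxy => by
    rw [← finsum_mem_eq_finite_toFinset_sum _ hfin]
    exact ((hμ x y).2.2).resolve_left hxy
  have hB : I '' (hfin.toFinset : Set (IrrCharacter D)) = B := by
    rw [Set.Finite.coe_toFinset]; exact hI.image_eq
  have hc : id '' (hfin.toFinset : Set (IrrCharacter D)) = c := by
    rw [Set.Finite.coe_toFinset, Set.image_id]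
  refine le_antisymm ?_ ?_
  · have h1 := blockRank_le_of_vanish hfin.toFinset I id (fun η => (ε η : ℂ)) hne
      (by rw [Set.Finite.coe_toFinset]; exact hI.injOn) hvan
    rwa [hB, hc] at h1
  · have h1 := blockRank_le_of_vanish hfin.toFinset id I (fun η => (ε η : ℂ)) hne
      Function.injective_id.injOn (fun y x hyx => by
        rw [← hvan x y fun h => hyx h.symm]
        exact Finset.sum_congr rfl fun η _ => by simp only [id]; ring)
    rwa [hB, hc] at h1

end Rank

section Precomp

variable {p : ℕ} {M : Ideal AlgInt} {A : Type u} [Group A] {F : Type v} [Group F] [Finite F]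
  {S : Type w} [Group S] [Finite S]

/-- Perfect isometries may be precomposed with isomorphisms. -/
theorem isPerfectIsometry_precomp (e : F ≃* S) {c : Set (IrrCharacter S)}
    {B : Set (IrrCharacter A)} {J : IrrCharacter F → IrrCharacter A} {ε : IrrCharacter F → ℤ}
    (h : IsPerfectIsometry p M (blockMap e c) B J ε) :
    IsPerfectIsometry p M c B (fun η => J (irrMap e η)) (fun η => ε (irrMap e η)) := by
  classical
  obtain ⟨hJ, hε, hμ⟩ := h
  have hb : Set.BijOn (irrMap e) c (blockMap e c) := (irrMap_injective e).injOn.bijOn_image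
  refine ⟨hJ.comp hb, fun η hη => hε _ (hb.mapsTo hη), fun x y => ?_⟩
  have e1 : signedBijectionKernel c (fun η => J (irrMap e η)) (fun η => ε (irrMap e η)) x y =
      signedBijectionKernel (blockMap e c) J ε x (e.symm y) := by
    rw [signedBijectionKernel, signedBijectionKernel]
    refine finsum_mem_eq_of_bijOn (irrMap e) hb fun η _ => ?_
    rw [irrMap_apply, MulEquiv.apply_symm_apply]
  have e2 : Nat.card (Subgroup.centralizer ({e.symm y} : Set F)) =
      Nat.card (Subgroup.centralizer ({y} : Set S)) := by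
    have h1 := Subgroup.index_mul_card (Subgroup.centralizer ({e.symm y} : Set F))
    rw [index_centralizer_map e.symm y, Nat.card_congr e.toEquiv,
      ← Subgroup.index_mul_card (Subgroup.centralizer ({y} : Set S))] at h1
    exact Nat.eq_of_mul_eq_mul_left (Nat.pos_of_ne_zero Subgroup.index_ne_zero_of_finite) h1
  have e3 : IsPRegular p (e.symm y) ↔ IsPRegular p y := by
    rw [IsPRegular, IsPRegular, MulEquiv.orderOf_eq]
  obtain ⟨h1, h2, h3⟩ := hμ x (e.symm y)
  rw [e1]
  exact ⟨h1, e2 ▸ h2, h3.imp_left fun h => h.trans e3⟩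

end Precomp

section Induce

variable {G : Type u} [Group G] [Fintype G] (T : Subgroup G)

/-- An induced class function, class by class of the subgroup. -/
theorem indFun_eq_sum_classes {f : T → ℂ} (hf : IsClassFunction T f) (x : G)
    [Fintype (ConjClasses T)] [DecidableRel (IsConj : G → G → Prop)] :
    indFun T f x = ∑ C : ConjClasses T, if IsConj x ((C.out : T) : G) then
      ((Nat.card (Subgroup.centralizer ({x} : Set G)) : ℂ) /
        (Nat.card (Subgroup.centralizer ({C.out} : Set T)) : ℂ)) * f C.out else 0 := by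
  classical
  have := Fintype.ofFinite T
  have hsum : ∑ a : G, extendByZero T f (a⁻¹ * x * a) =
      (Nat.card (Subgroup.centralizer ({x} : Set G)) : ℂ) *
        ∑ t : T, if IsConj x (t : G) then f t else 0 := by
    calc ∑ a : G, extendByZero T f (a⁻¹ * x * a)
        = ∑ a : G, ∑ t : T, if a⁻¹ * x * a = (t : G) then f t else 0 := by
          refine Finset.sum_congr rfl fun a _ => ?_
          by_cases ha : a⁻¹ * x * a ∈ T
          · rw [CfsgLib.Char.extendByZero_of_mem _ ha,
              Finset.sum_eq_single (⟨a⁻¹ * x * a, ha⟩ : T)]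
            · rw [if_pos rfl]
            · exact fun t _ hne => if_neg fun e => hne (Subtype.ext e.symm)
            · exact fun h => absurd (Finset.mem_univ _) h
          · rw [CfsgLib.Char.extendByZero_of_not_mem _ ha]
            exact (Finset.sum_eq_zero fun t _ => if_neg fun e => ha (by rw [e]; exact t.2)).symm
      _ = _ := by
          rw [Finset.sum_comm, Finset.mul_sum]
          refine Finset.sum_congr rfl fun t _ => ?_
          by_cases hc : IsConj x (t : G)
          · rw [if_pos hc, ← Finset.sum_filter, Finset.sum_const, nsmul_eq_mul,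
              ← natCard_conjugators hc]
            congr 2
            refine Finset.card_bij (fun a _ => a⁻¹) ?_ ?_ ?_
            · intro a ha
              simpa using ha
            · exact fun a _ c _ e => inv_injective e
            · intro a ha
              exact ⟨a⁻¹, by simpa using ha, inv_inv a⟩
          · rw [if_neg hc, mul_zero]
            exact Finset.sum_eq_zero fun a _ =>
              if_neg fun e => hc (isConj_iff.2 ⟨a⁻¹, by simpa using e⟩)
  rw [CfsgLib.Char.indFun_def, hsum, ← Finset.sum_fiberwise Finset.univ (fun t : T => ConjClasses.mk t),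
    Finset.mul_sum, Finset.mul_sum]
  refine Finset.sum_congr rfl fun C _ => ?_
  have hconst : ∀ t ∈ Finset.univ.filter (fun t : T => ConjClasses.mk t = C),
      (if IsConj x (t : G) then f t else 0) = if IsConj x ((C.out : T) : G) then f C.out else 0 := by
    intro t ht
    have hc : IsConj t C.out := by
      rw [← ConjClasses.mk_eq_mk_iff_isConj, (Finset.mem_filter.1 ht).2]
      exact (Quotient.out_eq C).symm
    obtain ⟨a, ha⟩ := isConj_iff.1 hc
    have hG : IsConj (t : G) ((C.out : T) : G) := T.subtype.map_isConj hc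
    rw [← ha] at hG ⊢
    rw [hf t a]
    exact if_congr ⟨fun h => h.trans hG, fun h => h.trans hG.symm⟩ rfl rfl
  rw [Finset.sum_eq_card_nsmul hconst, nsmul_eq_mul]
  have h1 : (Finset.univ.filter (fun t : T => ConjClasses.mk t = C)).card =
      (Subgroup.centralizer ({C.out} : Set T)).index := by
    rw [← CfsgLib.Char.natCard_carrier_eq_index, Nat.card_eq_fintype_card,
      Fintype.card_of_subtype]
    intro t
    rw [Finset.mem_filter, ConjClasses.mem_carrier_iff_mk_eq,
      show ConjClasses.mk C.out = C from Quotient.out_eq C]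
    simp
  have h2 : (Nat.card T : ℂ) = ((Subgroup.centralizer ({C.out} : Set T)).index : ℂ) *
      (Nat.card (Subgroup.centralizer ({C.out} : Set T)) : ℂ) := by
    exact_mod_cast (Subgroup.index_mul_card _).symm
  have h3 : (Nat.card (Subgroup.centralizer ({C.out} : Set T)) : ℂ) ≠ 0 :=
    Nat.cast_ne_zero.2 Nat.card_pos.ne'
  have h4 : ((Subgroup.centralizer ({C.out} : Set T)).index : ℂ) ≠ 0 :=
    Nat.cast_ne_zero.2 Subgroup.index_ne_zero_of_finite
  rw [h1, h2]
  split_ifs
  · field_simp
  · ring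

variable {p : ℕ} {M : Ideal AlgInt} [M.IsPrime] {f : T → ℂ} (hf : IsClassFunction T f)
include hf

/-- The centralizer orders divide along induction. -/
theorem indFun_div_local
    (h : ∀ t : T, MemLocalRing M (f t / (Nat.card (Subgroup.centralizer ({t} : Set T)) : ℂ)))
    (x : G) :
    MemLocalRing M (indFun T f x / (Nat.card (Subgroup.centralizer ({x} : Set G)) : ℂ)) := by
  classical
  have := Finite.of_surjective _ (ConjClasses.mk_surjective (α := T))
  have := Fintype.ofFinite (ConjClasses T)
  rw [indFun_eq_sum_classes T hf x, Finset.sum_div]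
  refine memLocalRing_sum _ _ fun C _ => ?_
  split_ifs
  · have hx : (Nat.card (Subgroup.centralizer ({x} : Set G)) : ℂ) ≠ 0 :=
      Nat.cast_ne_zero.2 Nat.card_pos.ne'
    convert h C.out using 1
    field_simp
  · rw [zero_div]; exact (lring M).zero_mem

/-- Inducing keeps local values. -/
theorem indFun_local (h : ∀ t : T, MemLocalRing M (f t)) (x : G) :
    MemLocalRing M (indFun T f x) := by
  classical
  have := Finite.of_surjective _ (ConjClasses.mk_surjective (α := T))
  have := Fintype.ofFinite (ConjClasses T)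
  rw [indFun_eq_sum_classes T hf x]
  refine memLocalRing_sum _ _ fun C _ => ?_
  split_ifs with hC
  · refine memLocalRing_mul ?_ (h C.out)
    have hd : Nat.card (Subgroup.centralizer ({C.out} : Set T)) ∣
        Nat.card (Subgroup.centralizer ({x} : Set G)) := by
      obtain ⟨a, ha⟩ := isConj_iff.1 hC.symm
      have hcard : Nat.card (Subgroup.centralizer ({x} : Set G)) =
          Nat.card (Subgroup.centralizer ({((C.out : T) : G)} : Set G)) := by
        have h1 := Subgroup.index_mul_card (Subgroup.centralizer ({x} : Set G))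
        rw [← ha, show a * ((C.out : T) : G) * a⁻¹ = MulAut.conj a ((C.out : T) : G) from rfl,
          index_centralizer_map (MulAut.conj a),
          ← Subgroup.index_mul_card (Subgroup.centralizer ({((C.out : T) : G)} : Set G))] at h1
        rw [← ha]
        exact Nat.eq_of_mul_eq_mul_left (Nat.pos_of_ne_zero Subgroup.index_ne_zero_of_finite) h1
      rw [hcard, ← Subgroup.card_map_of_injective T.subtype_injective]
      refine Subgroup.card_dvd_of_le ?_
      rintro _ ⟨t, ht, rfl⟩
      exact Subgroup.mem_centralizer_singleton_iff.2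
        (congrArg Subtype.val (Subgroup.mem_centralizer_singleton_iff.1 ht))
    obtain ⟨k, hk⟩ := hd
    rw [hk, Nat.cast_mul, mul_div_cancel_left₀ _ (Nat.cast_ne_zero.2 Nat.card_pos.ne')]
    exact memLocalRing_natCast k
  · exact (lring M).zero_mem

omit [M.IsPrime] hf in
/-- Inducing keeps vanishing off one kind of elements. -/
theorem indFun_eq_zero_of_regular {x : G}
    (h : ∀ t : T, (IsPRegular p (t : G) ↔ IsPRegular p x) → f t = 0) : indFun T f x = 0 := by
  rw [CfsgLib.Char.indFun_def]
  refine mul_eq_zero_of_right _ (Finset.sum_eq_zero fun a _ => ?_)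
  by_cases ha : a⁻¹ * x * a ∈ T
  · rw [CfsgLib.Char.extendByZero_of_mem _ ha]
    refine h _ ?_
    have : orderOf (a⁻¹ * x * a) = orderOf x := by
      simpa using orderOf_injective (MulAut.conj a⁻¹).toMonoidHom (MulAut.conj a⁻¹).injective x
    show ¬ p ∣ orderOf (a⁻¹ * x * a) ↔ _
    rw [this]
    rfl
  · exact CfsgLib.Char.extendByZero_of_not_mem _ ha

end Induce

section Isometry

variable {G : Type u} [Group G] [Fintype G] {H : Type v} [Group H] [Fintype H]
  {p : ℕ} {M : Ideal AlgInt} [M.IsPrime]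

/-- **Induction of perfect isometries.** -/
theorem exists_induced_isometry (T : Subgroup G) (S : Subgroup H)
    {c : Set (IrrCharacter H)} {B : Set (IrrCharacter G)} {c' : Set (IrrCharacter S)}
    {B' : Set (IrrCharacter T)} {J : IrrCharacter S → IrrCharacter T} {δ : IrrCharacter S → ℤ}
    (hJ : IsPerfectIsometry p M c' B' J δ)
    (hc : ∀ η : IrrCharacter H, η ∈ c ↔ ∃ ψ ∈ c', (η : H → ℂ) = indFun S (ψ : S → ℂ))
    (hcirr : ∀ ψ ∈ c', IsIrrCharacter H (indFun S (ψ : S → ℂ)))
    (hcinj : ∀ ψ ∈ c', ∀ ψ' ∈ c', indFun S (ψ : S → ℂ) = indFun S (ψ' : S → ℂ) → ψ = ψ')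
    (hB : ∀ χ : IrrCharacter G, χ ∈ B ↔ ∃ ψ ∈ B', (χ : G → ℂ) = indFun T (ψ : T → ℂ))
    (hBirr : ∀ ψ ∈ B', IsIrrCharacter G (indFun T (ψ : T → ℂ)))
    (hBinj : ∀ ψ ∈ B', ∀ ψ' ∈ B', indFun T (ψ : T → ℂ) = indFun T (ψ' : T → ℂ) → ψ = ψ') :
    ∃ (I : IrrCharacter H → IrrCharacter G) (ε : IrrCharacter H → ℤ),
      IsPerfectIsometry p M c B I ε := by
  classical
  obtain ⟨hb, hδ, hμ⟩ := hJ
  have : Nonempty (IrrCharacter G) := ⟨⟨_, CfsgLib.Char.isIrrCharacter_one⟩⟩
  let I : IrrCharacter H → IrrCharacter G := fun η =>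
    if h : η ∈ c then ⟨_, hBirr _ (hb.mapsTo ((hc η).1 h).choose_spec.1)⟩
    else Classical.arbitrary _
  let ε : IrrCharacter H → ℤ := fun η => if h : η ∈ c then δ ((hc η).1 h).choose else 1
  let L : IrrCharacter S → IrrCharacter H := fun ψ =>
    if h : ψ ∈ c' then ⟨_, hcirr ψ h⟩ else ⟨_, CfsgLib.Char.isIrrCharacter_one⟩
  have hL : ∀ ψ ∈ c', (L ψ : H → ℂ) = indFun S (ψ : S → ℂ) := fun ψ h => by
    simp only [L, dif_pos h]
  have hLb : Set.BijOn L c' c := by
    refine ⟨fun ψ h => (hc _).2 ⟨ψ, h, hL ψ h⟩, fun ψ h ψ' h' e => ?_, fun η hη => ?_⟩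
    · refine hcinj ψ h ψ' h' ?_
      rw [← hL ψ h, ← hL ψ' h', e]
    · obtain ⟨ψ, h, e⟩ := (hc η).1 hη
      exact ⟨ψ, h, Subtype.ext ((hL ψ h).trans e.symm)⟩
  have hspec : ∀ ψ ∈ c', (I (L ψ) : G → ℂ) = indFun T (J ψ : T → ℂ) ∧ ε (L ψ) = δ ψ := by
    intro ψ h
    have hm := hLb.mapsTo h
    have e : ((hc (L ψ)).1 hm).choose = ψ := by
      obtain ⟨h1, h2⟩ := ((hc (L ψ)).1 hm).choose_spec
      exact hcinj _ h1 _ h (h2.symm.trans (hL ψ h))
    simp only [I, ε, dif_pos hm, e, and_self]
  have hbij : Set.BijOn I c B := by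
    refine ⟨fun η hη => ?_, fun η hη η' hη' e => ?_, fun χ hχ => ?_⟩
    · obtain ⟨ψ, h, rfl⟩ := hLb.surjOn hη
      exact (hB _).2 ⟨J ψ, hb.mapsTo h, (hspec ψ h).1⟩
    · obtain ⟨ψ, h, rfl⟩ := hLb.surjOn hη
      obtain ⟨ψ', h', rfl⟩ := hLb.surjOn hη'
      have := hBinj _ (hb.mapsTo h) _ (hb.mapsTo h')
        (by rw [← (hspec ψ h).1, ← (hspec ψ' h').1, e])
      rw [hb.injOn h h' this]
    · obtain ⟨φ, hφ, e⟩ := (hB χ).1 hχ
      obtain ⟨ψ, h, rfl⟩ := hb.surjOn hφ
      exact ⟨L ψ, hLb.mapsTo h, Subtype.ext ((hspec ψ h).1.trans e.symm)⟩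
  refine ⟨I, ε, hbij, fun η hη => ?_, fun x y => ?_⟩
  · obtain ⟨ψ, h, rfl⟩ := hLb.surjOn hη
    rw [(hspec ψ h).2]
    exact hδ ψ h
  set μ := signedBijectionKernel c' J δ with hμdef
  set s := c'.toFinite.toFinset
  have hμ' : ∀ t u, μ t u = ∑ ψ ∈ s, (δ ψ : ℂ) * (J ψ : T → ℂ) t * (ψ : S → ℂ) u := fun t u =>
    finsum_mem_eq_finite_toFinset_sum _ c'.toFinite
  have hcf : ∀ t : T, IsClassFunction S (μ t) := fun t a b => by
    simp only [hμ', CfsgLib.Char.irr_isClassFunction (Subtype.property _) a b]
  have hcg : ∀ u : S, IsClassFunction T (fun t => μ t u) := fun u a b => by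
    simp only [hμ', CfsgLib.Char.irr_isClassFunction (Subtype.property _) a b]
  have hker : signedBijectionKernel c I ε x y =
      ∑ ψ ∈ s, (δ ψ : ℂ) * indFun T (J ψ : T → ℂ) x * indFun S (ψ : S → ℂ) y := by
    rw [signedBijectionKernel, ← finsum_mem_eq_of_bijOn L hLb fun ψ _ => rfl,
      finsum_mem_eq_finite_toFinset_sum _ c'.toFinite]
    refine Finset.sum_congr rfl fun ψ hψ => ?_
    have h := c'.toFinite.mem_toFinset.1 hψ
    rw [(hspec ψ h).1, (hspec ψ h).2, hL ψ h]
  have h1 : signedBijectionKernel c I ε x y = indFun T (fun t => indFun S (μ t) y) x := by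
    rw [hker]
    have e : (fun t => indFun S (μ t) y) =
        ∑ ψ ∈ s, ((δ ψ : ℂ) * indFun S (ψ : S → ℂ) y) • (J ψ : T → ℂ) := by
      funext t
      rw [show μ t = ∑ ψ ∈ s, ((δ ψ : ℂ) * (J ψ : T → ℂ) t) • (ψ : S → ℂ) from funext fun u => by
        simp [hμ'], CfsgLib.Char.indFun_sum, Finset.sum_apply, Finset.sum_apply]
      refine Finset.sum_congr rfl fun ψ _ => ?_
      rw [CfsgLib.Char.indFun_smul, Pi.smul_apply, Pi.smul_apply, smul_eq_mul, smul_eq_mul]
      ring
    rw [e, CfsgLib.Char.indFun_sum, Finset.sum_apply]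
    refine Finset.sum_congr rfl fun ψ _ => ?_
    rw [CfsgLib.Char.indFun_smul, Pi.smul_apply, smul_eq_mul]
    ring
  have h2 : signedBijectionKernel c I ε x y = indFun S (fun u => indFun T (fun t => μ t u) x) y := by
    rw [hker]
    have e : (fun u => indFun T (fun t => μ t u) x) =
        ∑ ψ ∈ s, ((δ ψ : ℂ) * indFun T (J ψ : T → ℂ) x) • (ψ : S → ℂ) := by
      funext u
      rw [show (fun t => μ t u) = ∑ ψ ∈ s, ((δ ψ : ℂ) * (ψ : S → ℂ) u) • (J ψ : T → ℂ) from
        funext fun t => by
          simp only [hμ', Finset.sum_apply, Pi.smul_apply, smul_eq_mul]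
          exact Finset.sum_congr rfl fun ψ _ => by ring,
        CfsgLib.Char.indFun_sum, Finset.sum_apply, Finset.sum_apply]
      refine Finset.sum_congr rfl fun ψ _ => ?_
      rw [CfsgLib.Char.indFun_smul, Pi.smul_apply, Pi.smul_apply, smul_eq_mul, smul_eq_mul]
      ring
    rw [e, CfsgLib.Char.indFun_sum, Finset.sum_apply]
    refine Finset.sum_congr rfl fun ψ _ => ?_
    rw [CfsgLib.Char.indFun_smul, Pi.smul_apply, smul_eq_mul]
  have hT : IsClassFunction T fun t => indFun S (μ t) y := fun a b => by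
    show indFun S (μ (b * a * b⁻¹)) y = indFun S (μ a) y
    rw [show μ (b * a * b⁻¹) = μ a from funext fun u => hcg u a b]
  have hS : IsClassFunction S fun u => indFun T (fun t => μ t u) x := fun a b => by
    show indFun T (fun t => μ t (b * a * b⁻¹)) x = indFun T (fun t => μ t a) x
    rw [show (fun t => μ t (b * a * b⁻¹)) = fun t => μ t a from funext fun t => hcf t a b]
  refine ⟨?_, ?_, ?_⟩
  · rw [h1]
    refine indFun_div_local T hT (fun t => ?_) x
    have e : indFun S (μ t) y / (Nat.card (Subgroup.centralizer ({t} : Set T)) : ℂ) =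
        indFun S ((Nat.card (Subgroup.centralizer ({t} : Set T)) : ℂ)⁻¹ • μ t) y := by
      rw [CfsgLib.Char.indFun_smul, Pi.smul_apply, smul_eq_mul, div_eq_inv_mul]
    rw [e]
    refine indFun_local S (fun a b => by simp [hcf t a b]) (fun u => ?_) y
    rw [Pi.smul_apply, smul_eq_mul, ← div_eq_inv_mul]
    exact (hμ t u).1
  · rw [h2]
    refine indFun_div_local S hS (fun u => ?_) y
    have e : indFun T (fun t => μ t u) x / (Nat.card (Subgroup.centralizer ({u} : Set S)) : ℂ) =
        indFun T ((Nat.card (Subgroup.centralizer ({u} : Set S)) : ℂ)⁻¹ • fun t => μ t u) x := by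
      rw [CfsgLib.Char.indFun_smul, Pi.smul_apply, smul_eq_mul, div_eq_inv_mul]
    rw [e]
    refine indFun_local T (fun a b => ?_) (fun t => ?_) x
    · simp only [Pi.smul_apply, smul_eq_mul]
      rw [show μ (b * a * b⁻¹) u = μ a u from hcg u a b]
    · rw [Pi.smul_apply, smul_eq_mul, ← div_eq_inv_mul]
      exact (hμ t u).2.1
  · refine or_iff_not_imp_left.2 fun hne => ?_
    rw [h1]
    refine indFun_eq_zero_of_regular (p := p) T fun t ht => ?_
    refine indFun_eq_zero_of_regular (p := p) S fun u hu => ?_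
    refine ((hμ t u).2.2).resolve_left fun h => hne ?_
    have a1 : IsPRegular p t ↔ IsPRegular p (t : G) := by simp [IsPRegular]
    have a2 : IsPRegular p u ↔ IsPRegular p (u : H) := by simp [IsPRegular]
    exact ht.symm.trans (a1.symm.trans (h.trans (a2.trans hu)))

end Isometry

end CfsgLib.BlockA.AbelianIso
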