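import Cfsg.Agent.Lib.BlockA.AbelianIso.TwistData
import Cfsg.Prelude.Def_BlockLocal

/-!
# The perfect isometry given by a twist
-/

set_option autoImplicit false
set_option linter.unusedSectionVars false

namespace CfsgLib.BlockA.AbelianIso

open Cfsg
open scoped ComplexConjugate

universe u

variable {G : Type u} [Group G] [Fintype G] {K H : Subgroup G} [K.Normal] [Fintype K]
  [Fintype (K.subgroupOf H)]
  {θ : IrrCharacter K} {β : IrrCharacter (K.subgroupOf H)}

namespace TwistData

variable (T : TwistData K H (θ : K → ℂ) (β : K.subgroupOf H → ℂ)) (hKH : K ⊔ H = ⊤)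

/-- From functions on `H` to functions on `G`. -/
noncomputable def up (η : H → ℂ) : G → ℂ :=
  letI := Fintype.ofFinite (pairs K H)
  push pr1 (pr1_surjective hKH) fun d => T.twist d * η (pr2 d)

/-- From functions on `G` to functions on `H`. -/
noncomputable def down (χ : G → ℂ) : H → ℂ :=
  letI := Fintype.ofFinite (pairs K H)
  push pr2 pr2_surjective fun d => conj (T.twist d) * χ (pr1 d)

theorem isCharacter_up {η : H → ℂ} (hη : IsCharacter H η) : IsCharacter G (T.up hKH η) := by
  let := Fintype.ofFinite (pairs K H)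
  exact isCharacter_push _ _ (Char.isCharacter_mul T.isCharacter_twist (Char.isCharacter_comp hη pr2))

theorem isCharacter_down {χ : G → ℂ} (hχ : IsCharacter G χ) : IsCharacter H (T.down χ) := by
  let := Fintype.ofFinite (pairs K H)
  exact isCharacter_push _ _
    (Char.isCharacter_mul (Char.isCharacter_conj T.isCharacter_twist) (Char.isCharacter_comp hχ pr1))

theorem classInner_up [Fintype H] (η : H → ℂ) (χ : G → ℂ) :
    classInner (T.up hKH η) χ = classInner η (T.down χ) := by
  let := Fintype.ofFinite (pairs K H)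
  rw [up, classInner_push, ← Char.classInner_conj_symm (T.down χ) η, down, classInner_push,
    Char.classInner_def, Char.classInner_def, map_mul, map_inv₀, map_natCast, map_sum]
  congr 1
  refine Finset.sum_congr rfl fun d _ => ?_
  simp only [Function.comp_apply, map_mul, Complex.conj_conj]
  ring

/-- The pair moved inside its fibre over `G`. -/
def shiftH (d : pairs K H) (a : K.subgroupOf H) : pairs K H :=
  ⟨((d : G × H).1, (a : H) * (d : G × H).2), by
    show (d : G × H).1 * (((a : H) * (d : G × H).2 : H) : G)⁻¹ ∈ K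
    rw [Subgroup.coe_mul, mul_inv_rev, ← mul_assoc]
    exact mul_mem d.2 (inv_mem a.2)⟩

/-- The pair moved inside its fibre over `H`. -/
def shiftG (d : pairs K H) (k : K) : pairs K H :=
  ⟨((k : G) * (d : G × H).1, (d : G × H).2), by
    show (k : G) * (d : G × H).1 * _ ∈ K
    rw [mul_assoc]
    exact mul_mem k.2 d.2⟩

theorem up_apply (η : H → ℂ) (d : pairs K H) :
    T.up hKH η (d : G × H).1 = (Nat.card (K.subgroupOf H) : ℂ)⁻¹ *
      ∑ a : K.subgroupOf H, T.twist (shiftH d a) * η ((a : H) * (d : G × H).2) := by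
  let := Fintype.ofFinite (pairs K H)
  refine push_apply pr1 (pr1_surjective hKH) _ (shiftH d) (fun a b e => Subtype.ext
    (mul_right_cancel (congrArg (fun x : pairs K H => (x : G × H).2) e))) d fun x => ?_
  constructor
  · rintro ⟨a, rfl⟩; rfl
  · intro e
    have e' : (x : G × H).1 = (d : G × H).1 := e
    refine ⟨⟨(x : G × H).2 * (d : G × H).2⁻¹, Subgroup.mem_subgroupOf.2 ?_⟩, Subtype.ext (Prod.ext e'.symm ?_)⟩
    · have hx : (x : G × H).1 * (((x : G × H).2 : H) : G)⁻¹ ∈ K := x.2
      have hd : (d : G × H).1 * (((d : G × H).2 : H) : G)⁻¹ ∈ K := d.2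
      rw [e'] at hx
      simpa [mul_assoc] using mul_mem (inv_mem hx) hd
    · simp [shiftH]

theorem down_apply (χ : G → ℂ) (d : pairs K H) :
    T.down χ (d : G × H).2 = (Nat.card K : ℂ)⁻¹ *
      ∑ k : K, conj (T.twist (shiftG d k)) * χ ((k : G) * (d : G × H).1) := by
  let := Fintype.ofFinite (pairs K H)
  refine push_apply pr2 pr2_surjective _ (shiftG d) (fun a b e => Subtype.ext
    (mul_right_cancel (congrArg (fun x : pairs K H => (x : G × H).1) e))) d fun x => ?_
  constructor
  · rintro ⟨a, rfl⟩; rfl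
  · intro e
    have e' : (x : G × H).2 = (d : G × H).2 := e
    refine ⟨⟨(x : G × H).1 * (d : G × H).1⁻¹, ?_⟩, Subtype.ext (Prod.ext ?_ e'.symm)⟩
    · have hx : (x : G × H).1 * (((x : G × H).2 : H) : G)⁻¹ ∈ K := x.2
      have hd : (d : G × H).1 * (((d : G × H).2 : H) : G)⁻¹ ∈ K := d.2
      rw [e'] at hx
      simpa [mul_assoc] using mul_mem hx (inv_mem hd)
    · simp [shiftG]

theorem up_restrict (η : H → ℂ) (x : K) :
    T.up hKH η (x : G) =
      classInner (fun a : K.subgroupOf H => η a) (β : K.subgroupOf H → ℂ) * (θ : K → ℂ) x := by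
  obtain ⟨d, hd⟩ : ∃ d : pairs K H, (d : G × H) = ((x : G), 1) :=
    ⟨⟨((x : G), 1), by show (x : G) * ((1 : H) : G)⁻¹ ∈ K; simp⟩, rfl⟩
  have h := T.up_apply hKH η d
  rw [hd] at h
  simp only [mul_one] at h
  rw [h, Char.classInner_def, Finset.mul_sum, Finset.mul_sum, Finset.sum_mul]
  refine Finset.sum_congr rfl fun a _ => ?_
  rw [T.twist_inner _ x a (by simp [shiftH, hd]) (by simp [shiftH, hd]),
    Char.char_inv (Char.irr_isCharacter β.2)]
  ring

theorem down_restrict (χ : G → ℂ) (a : K.subgroupOf H) :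
    T.down χ (a : H) =
      classInner (fun x : K => χ x) (θ : K → ℂ) * (β : K.subgroupOf H → ℂ) a := by
  obtain ⟨d, hd⟩ : ∃ d : pairs K H, (d : G × H) = (1, (a : H)) :=
    ⟨⟨(1, (a : H)), by show 1 * ((a : H) : G)⁻¹ ∈ K; rw [one_mul]; exact inv_mem a.2⟩, rfl⟩
  have h := T.down_apply χ d
  rw [hd] at h
  simp only [mul_one] at h
  rw [h, Char.classInner_def, Finset.mul_sum, Finset.mul_sum, Finset.sum_mul]
  refine Finset.sum_congr rfl fun x _ => ?_
  rw [T.twist_inner _ x a (by simp [shiftG, hd]) (by simp [shiftG, hd]), map_mul,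
    Char.char_inv (Char.irr_isCharacter β.2), Complex.conj_conj]
  ring

/-- On the characters over `β` the way down inverts the way up. -/
theorem down_up [Fintype H] (η : IrrCharacter H)
    (hη : η ∈ Over (K.subgroupOf H) (β : K.subgroupOf H → ℂ)) :
    T.down (T.up hKH (η : H → ℂ)) = (η : H → ℂ) := by
  funext y
  obtain ⟨Z, hZ⟩ := exists_coset_matrix T.spans_σ T.β_eq T.β_invariant η hη y
  have hd := (Matrix.isUnit_iff_isUnit_det _).1 (T.B_unit y)
  -- the matrix of the coset is a multiple of the implementer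
  obtain ⟨f, hf⟩ : ∃ f : ℂ, Z = f • T.B y := by
    have hcomm : ∀ c, (T.B y)⁻¹ * Z * T.σ c = T.σ c * ((T.B y)⁻¹ * Z) := by
      intro c
      obtain ⟨c', hc'⟩ : ∃ c' : K.subgroupOf H, (c' : H) = y * c * y⁻¹ :=
        ⟨Clifford.conjN y c, rfl⟩
      have hZc : Z * T.σ c = T.σ c' * Z := by
        refine T.spans_σ.trace_ext fun a => ?_
        rw [← mul_assoc, ← mul_assoc, Matrix.trace_mul_comm, ← mul_assoc, ← map_mul, ← map_mul,
          ← hZ, ← hZ, Subgroup.coe_mul, Subgroup.coe_mul, mul_assoc (c : H),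
          Char.isClassFunction_mul_comm (Char.irr_isClassFunction η.2), mul_assoc, mul_assoc, hc',
          inv_mul_cancel_right]
      have h1 : (T.B y)⁻¹ * T.σ c' = T.σ c * (T.B y)⁻¹ := by
        have h := congrArg (fun X => (T.B y)⁻¹ * X * (T.B y)⁻¹) (T.B_conj y c c' hc')
        simp only [← mul_assoc, Matrix.nonsing_inv_mul _ hd, one_mul] at h
        rw [mul_assoc _ (T.B y), Matrix.mul_nonsing_inv _ hd, mul_one] at h
        exact h.symm
      rw [mul_assoc, hZc, ← mul_assoc, h1, mul_assoc]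
    obtain ⟨f, hf⟩ := T.spans_σ.comm_scalar hcomm
    refine ⟨f, ?_⟩
    rw [← mul_one (T.B y), ← mul_smul_comm, ← hf, ← mul_assoc, Matrix.mul_nonsing_inv _ hd, one_mul]
  obtain ⟨d, hdd⟩ : ∃ d : pairs K H, (d : G × H) = ((y : G), y) :=
    ⟨⟨((y : G), y), by show (y : G) * (y : G)⁻¹ ∈ K; rw [mul_inv_cancel]; exact one_mem _⟩, rfl⟩
  have h := T.down_apply (T.up hKH (η : H → ℂ)) d
  rw [hdd] at h
  simp only at h
  have hterm : ∀ k : K, conj (T.twist (shiftG d k)) * T.up hKH (η : H → ℂ) ((k : G) * y) =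
      (η : H → ℂ) y * (((T.ρ k * T.A y)⁻¹).trace * (T.ρ k * T.A y).trace) := by
    intro k
    have hkp : kp (shiftG d k) = k := Subtype.ext (by simp [kp, shiftG, hdd])
    have hsnd : ((shiftG d k : pairs K H) : G × H).2 = y := by simp [shiftG, hdd]
    have hup := T.up_apply hKH (η : H → ℂ) (shiftG d k)
    have hfst : ((shiftG d k : pairs K H) : G × H).1 = (k : G) * y := by simp [shiftG, hdd]
    rw [hfst, hsnd] at hup
    have hin : ∀ a : K.subgroupOf H, T.twist (shiftH (shiftG d k) a) * (η : H → ℂ) ((a : H) * y) =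
        (T.ρ k * T.A y).trace * f * ((T.σ a * T.B y).trace * ((T.σ a * T.B y)⁻¹).trace) := by
      intro a
      have h2 : ((shiftH (shiftG d k) a : pairs K H) : G × H).2 = (a : H) * y := by
        simp [shiftH, hsnd]
      have h3 : T.ρ (kp (shiftH (shiftG d k) a)) * T.A ((a : H) * y) = T.ρ k * T.A y := by
        rw [T.A_mul y ((a : H) * y) ⟨((a : H) : G), a.2⟩ (by simp), ← mul_assoc, ← map_mul]
        congr 2
        exact Subtype.ext (by simp [kp, shiftH, hfst, hsnd, mul_assoc])
      rw [twist, h2, h3, T.B_mul, hZ, hf, mul_smul_comm, Matrix.trace_smul, smul_eq_mul]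
      ring
    rw [T.conj_twist, hkp, hsnd, hup, Finset.sum_congr rfl fun a _ => hin a, ← Finset.mul_sum,
      spans_inv_avg T.spans_σ T.s_ne (T.B_unit y)]
    have hy : (η : H → ℂ) y = f * (T.B y).trace := by
      have := hZ 1
      rwa [OneMemClass.coe_one, one_mul, map_one, one_mul, hf, Matrix.trace_smul, smul_eq_mul] at this
    rw [hy]
    have hN : (Nat.card (K.subgroupOf H) : ℂ) ≠ 0 := Char.natCard_ne_zero
    field_simp
  rw [h, Finset.sum_congr rfl fun k _ => hterm k, ← Finset.mul_sum,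
    Finset.sum_congr rfl fun k _ => mul_comm _ _, spans_inv_avg T.spans_ρ T.n_ne (T.A_unit y),
    mul_left_comm, inv_mul_cancel₀ Char.natCard_ne_zero, mul_one]

theorem classInner_up_up [Fintype H] (η η' : IrrCharacter H)
    (hη' : η' ∈ Over (K.subgroupOf H) (β : K.subgroupOf H → ℂ)) :
    classInner (T.up hKH (η : H → ℂ)) (T.up hKH (η' : H → ℂ)) =
      classInner (η : H → ℂ) (η' : H → ℂ) := by
  rw [T.classInner_up hKH, T.down_up hKH η' hη']

theorem isIrr_up [Fintype H] (η : IrrCharacter H)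
    (hη : η ∈ Over (K.subgroupOf H) (β : K.subgroupOf H → ℂ)) :
    IsIrrCharacter G (T.up hKH (η : H → ℂ)) :=
  Char.isIrrCharacter_iff.2 ⟨T.isCharacter_up hKH (Char.irr_isCharacter η.2), by
    rw [T.classInner_up_up hKH η η hη, Char.irr_classInner_self η.2]⟩

theorem up_over (η : IrrCharacter H) (hη : η ∈ Over (K.subgroupOf H) (β : K.subgroupOf H → ℂ)) :
    classInner (fun x : K => T.up hKH (η : H → ℂ) x) (θ : K → ℂ) ≠ 0 := by
  rw [show (fun x : K => T.up hKH (η : H → ℂ) x) =
      classInner (fun a : K.subgroupOf H => (η : H → ℂ) a) (β : K.subgroupOf H → ℂ) • (θ : K → ℂ)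
    from funext fun x => by rw [T.up_restrict hKH, Pi.smul_apply, smul_eq_mul],
    Char.classInner_smul_left, Char.irr_classInner_self θ.2, mul_one]
  exact hη

theorem exists_up [Fintype H] (χ : IrrCharacter G) (hχ : χ ∈ Over K (θ : K → ℂ)) :
    ∃ η : IrrCharacter H, η ∈ Over (K.subgroupOf H) (β : K.subgroupOf H → ℂ) ∧
      T.up hKH (η : H → ℂ) = (χ : G → ℂ) := by
  have hres : classInner (fun a : K.subgroupOf H => T.down (χ : G → ℂ) a) (β : K.subgroupOf H → ℂ) ≠ 0 := by
    rw [show (fun a : K.subgroupOf H => T.down (χ : G → ℂ) a) =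
        classInner (fun x : K => (χ : G → ℂ) x) (θ : K → ℂ) • (β : K.subgroupOf H → ℂ)
      from funext fun a => by rw [T.down_restrict, Pi.smul_apply, smul_eq_mul],
      Char.classInner_smul_left, Char.irr_classInner_self β.2, mul_one]
    exact hχ
  obtain ⟨η, hη, hin, hover⟩ :=
    Clifford.exists_constituent_over (T.isCharacter_down (Char.irr_isCharacter χ.2)) hres
  refine ⟨⟨η, hη⟩, hover, ?_⟩
  by_contra hne
  have h := T.classInner_up hKH η (χ : G → ℂ)
  rw [Char.irr_classInner_ne (T.isIrr_up hKH ⟨η, hη⟩ hover) χ.2 hne, ← Char.classInner_conj_symm] at h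
  exact hin (by simpa using h.symm)

end TwistData

theorem memLocalRing_col {M : Ideal AlgInt} [M.IsPrime] {L : Type*} [Group L] [Fintype L]
    (hinv : MemLocalRing M (Nat.card L : ℂ)⁻¹) (β : IrrCharacter L) (P : L → Prop) [DecidablePred P]
    (c : ℕ) :
    MemLocalRing M ((β : L → ℂ) 1 / (Nat.card L : ℂ) *
      (∑ m : L, (β : L → ℂ) m⁻¹ * if P m then (c : ℂ) else 0) / (c : ℂ)) := by
  have hint : ∀ m : L, MemLocalRing M ((β : L → ℂ) m) := fun m =>
    Block.memLocalRing_of_isIntegral (Block.irr_apply_isIntegral (Char.irr_isCharacter β.2) m)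
  rw [mul_div_assoc, Finset.sum_div, div_eq_mul_inv ((β : L → ℂ) 1)]
  refine Block.memLocalRing_mul (Block.memLocalRing_mul (hint 1) hinv)
    (Block.memLocalRing_sum _ _ fun m _ => ?_)
  rw [mul_div_assoc]
  refine Block.memLocalRing_mul (hint _) ?_
  split_ifs
  · rcases eq_or_ne (c : ℂ) 0 with h | h
    · rw [h, zero_div]; exact Block.memLocalRing_of_isIntegral isIntegral_zero
    · rw [div_self h]; exact Block.memLocalRing_of_isIntegral isIntegral_one
  · rw [zero_div]; exact Block.memLocalRing_of_isIntegral isIntegral_zero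

/-- A twist gives a perfect isometry from the characters over `β` onto those over `θ`. -/
theorem exists_perfectIsometry_of_twist {p : ℕ} {M : Ideal AlgInt} [M.IsPrime] (hM : IsPModular p M)
    (K H : Subgroup G) [K.Normal] [Fintype K] [Fintype (K.subgroupOf H)] (hKH : K ⊔ H = ⊤)
    (hKp : ¬ p ∣ Nat.card K) {θ : IrrCharacter K} {β : IrrCharacter (K.subgroupOf H)}
    (htw : HasTwist K H (θ : K → ℂ) (β : K.subgroupOf H → ℂ)) :
    ∃ I : IrrCharacter H → IrrCharacter G,
      IsPerfectIsometry p M (Over (K.subgroupOf H) (β : K.subgroupOf H → ℂ)) (Over K (θ : K → ℂ)) I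
        (fun _ => 1) := by
  classical
  have : Fact p.Prime := ⟨hM.1⟩
  obtain ⟨T⟩ := exists_twistData htw
  let := Fintype.ofFinite H
  let := Fintype.ofFinite (IrrCharacter H)
  let := Fintype.ofFinite (IrrCharacter G)
  let c := Over (K.subgroupOf H) (β : K.subgroupOf H → ℂ)
  let I : IrrCharacter H → IrrCharacter G := fun η =>
    if h : η ∈ c then ⟨_, T.isIrr_up hKH η h⟩ else ⟨_, Char.isIrrCharacter_one⟩
  have hI : ∀ η ∈ c, (I η : G → ℂ) = T.up hKH (η : H → ℂ) := fun η h => by simp only [I, dif_pos h]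
  have hbij : Set.BijOn I c (Over K (θ : K → ℂ)) := by
    refine ⟨fun η h => ?_, fun η h η' h' e => Subtype.ext ?_, fun χ hχ => ?_⟩
    · show classInner (fun x : K => (I η : G → ℂ) x) (θ : K → ℂ) ≠ 0
      rw [hI η h]
      exact T.up_over hKH η h
    · rw [← T.down_up hKH η h, ← T.down_up hKH η' h', ← hI η h, ← hI η' h', e]
    · obtain ⟨η, h, e⟩ := T.exists_up hKH χ hχ
      exact ⟨η, h, Subtype.ext (by rw [hI η h, e])⟩
  refine ⟨I, hbij, fun _ _ => Or.inl rfl, fun x y => ?_⟩
  have hNp : ¬ p ∣ Nat.card (K.subgroupOf H) := fun h => hKp (h.trans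
    (Subgroup.card_comap_dvd_of_injective K H.subtype (Subgroup.subtype_injective H)))
  have hinvK := Block.memLocalRing_inv_natCast hM hKp
  have hinvN := Block.memLocalRing_inv_natCast hM hNp
  obtain ⟨d, hd⟩ := pr1_surjective (K := K) (H := H) hKH x
  have hd' : (d : G × H).1 = x := hd
  obtain ⟨e, he⟩ : ∃ e : pairs K H, (e : G × H) = ((y : G), y) :=
    ⟨⟨((y : G), y), by show (y : G) * (y : G)⁻¹ ∈ K; rw [mul_inv_cancel]; exact one_mem _⟩, rfl⟩
  have hμ : signedBijectionKernel c I (fun _ => 1) x y =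
      ∑ η ∈ Finset.univ.filter (· ∈ c), T.up hKH (η : H → ℂ) x * (η : H → ℂ) y := by
    rw [signedBijectionKernel, finsum_mem_eq_finite_toFinset_sum _ c.toFinite]
    refine Finset.sum_congr (by ext; simp) fun η hη => ?_
    rw [Int.cast_one, one_mul, hI η (by simpa using hη)]
  -- as a sum over the columns of `H`
  have hH : signedBijectionKernel c I (fun _ => 1) x y = (Nat.card (K.subgroupOf H) : ℂ)⁻¹ *
      ∑ a : K.subgroupOf H, T.twist (TwistData.shiftH d a) *
        ∑ η ∈ Finset.univ.filter (· ∈ c), (η : H → ℂ) ((a : H) * (d : G × H).2) * (η : H → ℂ) y := by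
    rw [hμ, ← hd']
    simp only [T.up_apply hKH, Finset.mul_sum, Finset.sum_mul]
    rw [Finset.sum_comm]
    exact Finset.sum_congr rfl fun a _ => Finset.sum_congr rfl fun η _ => mul_assoc _ _ _ |>.trans
      (by ring)
  -- as a sum over the columns of `G`
  have hG : signedBijectionKernel c I (fun _ => 1) x y = (Nat.card K : ℂ)⁻¹ *
      ∑ k : K, conj (T.twist (TwistData.shiftG e k)) *
        ∑ χ ∈ Finset.univ.filter (· ∈ Over K (θ : K → ℂ)), (χ : G → ℂ) ((k : G) * y) * (χ : G → ℂ) x := by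
    rw [hμ]
    trans ∑ χ ∈ Finset.univ.filter (· ∈ Over K (θ : K → ℂ)), (χ : G → ℂ) x * T.down (χ : G → ℂ) y
    · refine Finset.sum_bij (fun η _ => I η) (fun η hη => ?_) (fun η hη η' hη' h => ?_) (fun χ hχ => ?_)
        fun η hη => ?_
      · simpa using hbij.mapsTo (by simpa using hη)
      · exact hbij.injOn (by simpa using hη) (by simpa using hη') h
      · obtain ⟨η, h, h'⟩ := hbij.surjOn (show χ ∈ Over K (θ : K → ℂ) by simpa using hχ)
        exact ⟨η, by simpa using h, h'⟩
      · rw [hI η (by simpa using hη), T.down_up hKH η (by simpa using hη)]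
    · have hdn : ∀ χ : G → ℂ, T.down χ y = (Nat.card K : ℂ)⁻¹ *
          ∑ k : K, conj (T.twist (TwistData.shiftG e k)) * χ ((k : G) * y) := fun χ => by
        have := T.down_apply χ e
        rwa [he] at this
      simp only [hdn, Finset.mul_sum]
      rw [Finset.sum_comm]
      exact Finset.sum_congr rfl fun k _ => Finset.sum_congr rfl fun χ _ => by ring
  refine ⟨?_, ?_, ?_⟩
  · rw [hG, mul_div_assoc, Finset.sum_div]
    refine Block.memLocalRing_mul hinvK (Block.memLocalRing_sum _ _ fun k _ => ?_)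
    rw [mul_div_assoc, sum_over_mul T.spans_ρ T.θ_eq (T.θ_invariant hKH)]
    refine Block.memLocalRing_mul (Block.memLocalRing_of_isIntegral ?_) (memLocalRing_col hinvK θ _ _)
    rw [← Char.char_inv T.isCharacter_twist]
    exact Block.irr_apply_isIntegral T.isCharacter_twist _
  · rw [hH, mul_div_assoc, Finset.sum_div]
    refine Block.memLocalRing_mul hinvN (Block.memLocalRing_sum _ _ fun a _ => ?_)
    rw [mul_div_assoc, sum_over_mul T.spans_σ T.β_eq T.β_invariant]
    exact Block.memLocalRing_mul (Block.memLocalRing_of_isIntegral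
      (Block.irr_apply_isIntegral T.isCharacter_twist _)) (memLocalRing_col hinvN β _ _)
  · by_cases hreg : IsPRegular p x ↔ IsPRegular p y
    · exact Or.inl hreg
    refine Or.inr ?_
    rw [hH, Finset.sum_eq_zero fun a _ => ?_, mul_zero]
    rw [sum_over_mul T.spans_σ T.β_eq T.β_invariant, Finset.sum_eq_zero fun m _ => ?_, mul_zero, mul_zero]
    rw [if_neg, mul_zero]
    intro hconj
    refine hreg ?_
    obtain ⟨z, hz⟩ := isConj_iff.1 hconj
    have e1 : IsPRegular p (y : G) ↔
        IsPRegular p ((((m : H) * ((a : H) * (d : G × H).2)) : H) : G) := by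
      rw [IsPRegular, IsPRegular, Subgroup.orderOf_coe, Subgroup.orderOf_coe,
        ← orderOf_inv (((m : H) * ((a : H) * (d : G × H).2))), ← hz]
      rw [← MulAut.conj_apply, MulEquiv.orderOf_eq]
    have e2 := regular_congr (p := p) K hKp (a := x)
      (b := ((((m : H) * ((a : H) * (d : G × H).2)) : H) : G)) (by
        rw [← hd', Subgroup.coe_mul, Subgroup.coe_mul, mul_inv_rev, mul_inv_rev, ← mul_assoc, ← mul_assoc]
        exact mul_mem (mul_mem d.2 (inv_mem a.2)) (inv_mem m.2))
    rw [e2, ← e1, IsPRegular, IsPRegular, Subgroup.orderOf_coe]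

end CfsgLib.BlockA.AbelianIso
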