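import Cfsg.Agent.Lib.BlockA.AbelianIso.ReduceIsometry
import Cfsg.Agent.Lib.BlockA.AbelianIso.ReduceCover
import Cfsg.Agent.Lib.BlockA.AbelianIso.Twist
import Cfsg.Agent.Lib.BlockA.PrincipalType
import Cfsg.Agent.Lib.BlockA.BrauerConj
import Cfsg.Agent.Lib.BlockA.PairNorm
import Cfsg.Agent.Lib.BlockA.BrauerCorr
import Cfsg.Agent.Lib.PLength.Series
import Cfsg.Agent.Lib.Clifford.RamifiedSylow

/-!
Abelian defect groups of `p`-solvable groups: the reduction to an invariant character of the
`p'`-core, and the assembly of the perfect isometry with the correspondent.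
-/

set_option autoImplicit false
set_option linter.unusedSectionVars false
set_option maxHeartbeats 1000000

namespace CfsgLib.BlockA.AbelianIso

open Cfsg CfsgLib.Block CfsgLib.BlockA
open scoped ComplexConjugate

universe u

/-- The existence of a common factor set for corresponding characters over a group `P` of
operators. -/
def TwistLaw : Prop :=
  ∀ {G : Type u} [Group G] [Fintype G] {p : ℕ} [Fact p.Prime] {M : Ideal AlgInt} [M.IsPrime],
    IsPModular p M → ∀ (K : Subgroup G) [K.Normal] [Fintype K], ¬ p ∣ Nat.card K →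
    ∀ (P : Subgroup G), IsPGroup p P → (∀ x ∈ P, ∀ y ∈ P, x * y = y * x) →
    ∀ [Fintype (K.subgroupOf (Subgroup.normalizer (P : Set G)))] (θ : IrrCharacter K),
    (∀ g : G, conjIrr K θ g = θ) →
    ∀ β : IrrCharacter (K.subgroupOf (Subgroup.normalizer (P : Set G))),
    IsCorrespondent p M K (Subgroup.normalizer (P : Set G)) (θ : K → ℂ) (β : _ → ℂ) →
      HasTwist K (Subgroup.normalizer (P : Set G)) (θ : K → ℂ) (β : _ → ℂ)

variable {G : Type u} [Group G] [Fintype G] {p : ℕ} [Fact p.Prime] {M : Ideal AlgInt} [M.IsPrime]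

/-- In a constrained quotient, an abelian Sylow subgroup is the core. -/
theorem map_eq_pCore {K : Subgroup G} [K.Normal]
    (hcons : Subgroup.centralizer (pCore p (G ⧸ K) : Set (G ⧸ K)) ≤ pCore p (G ⧸ K))
    (S : Sylow p G) (hab : ∀ x ∈ (S : Subgroup G), ∀ y ∈ (S : Subgroup G), x * y = y * x) :
    (S : Subgroup G).map (QuotientGroup.mk' K) = pCore p (G ⧸ K) := by
  set q := QuotientGroup.mk' K with hq
  set Pb := (S : Subgroup G).map q
  have hidx : ¬ p ∣ Pb.index := fun h => S.not_dvd_index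
    (h.trans (Subgroup.index_map_dvd _ (QuotientGroup.mk'_surjective K)))
  have hle : pCore p (G ⧸ K) ≤ Pb :=
    CfsgLib.Solvable.pCore_le_sylow ((S.2.map q).toSylow hidx)
  refine le_antisymm (le_trans ?_ hcons) hle
  rintro _ ⟨x, hx, rfl⟩
  refine Subgroup.mem_centralizer_iff.2 fun z hz => ?_
  obtain ⟨y, hy, rfl⟩ := hle hz
  rw [← map_mul, ← map_mul, hab x hx y hy]

/-- **The invariant case.** -/
theorem isometry_of_invariant (htl : TwistLaw.{u}) (hM : IsPModular p M)
    (hsolv : IsPSolvable p G) {K : Subgroup G} [hKn : K.Normal] [Fintype K]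
    (hK : K = pPrimeCore p G) {B : Set (IrrCharacter G)} (hB : IsPBlock M B) {P : Subgroup G}
    (hPD : IsDefectGroup p M B P) (hab : ∀ x ∈ P, ∀ y ∈ P, x * y = y * x)
    [Fintype (Subgroup.normalizer (P : Set G))] [Fintype (K.subgroupOf (Subgroup.normalizer (P : Set G)))]
    {c : Set (IrrCharacter (Subgroup.normalizer (P : Set G)))} (hc : IsInducedBlock M (Subgroup.normalizer (P : Set G)) c B)
    {χ₀ : IrrCharacter G} (hχ₀ : χ₀ ∈ B) {θ : IrrCharacter K}
    (hθ : classInner (fun k : K => (χ₀ : G → ℂ) k) (θ : K → ℂ) ≠ 0)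
    (hinv : ∀ g : G, conjIrr K θ g = θ) :
    ∃ (I : IrrCharacter (Subgroup.normalizer (P : Set G)) → IrrCharacter G) (ε : IrrCharacter (Subgroup.normalizer (P : Set G)) → ℤ),
      IsPerfectIsometry p M c B I ε := by
  classical
  have hKc : (Nat.card K).Coprime p := hK ▸ CfsgLib.Solvable.pPrimeCore_coprime (G := G) p
  have hKp : ¬ p ∣ Nat.card K := (Fact.out : p.Prime).coprime_iff_not_dvd.1 hKc.symm
  have hP : IsPGroup p P := isPGroup_defectGroup hM hB hPD
  have hcons : Subgroup.centralizer (pCore p (G ⧸ K) : Set (G ⧸ K)) ≤ pCore p (G ⧸ K) := by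
    subst hK
    exact CfsgLib.Block.centralizer_pCore_le_of_isPSolvable
      (isPSolvable_of_surjective (QuotientGroup.mk' _) (QuotientGroup.mk'_surjective _) hsolv)
      (CfsgLib.Solvable.pPrimeCore_quotient_eq_bot p)
  obtain ⟨B₁, hB₁, hmem, -, hsyl, -⟩ := principalType hM hcons hKc θ hinv
  obtain rfl : B = B₁ := isPBlock_eq_of_mem hB hB₁ hχ₀ ((hmem χ₀).2 hθ)
  obtain ⟨S, hPS⟩ := hsyl P hPD
  set q := QuotientGroup.mk' K with hq
  have hmap : P.map q = pCore p (G ⧸ K) := by
    rw [hPS]
    exact map_eq_pCore hcons S (hPS ▸ hab)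
  -- the Frattini argument
  have hKH : K ⊔ (Subgroup.normalizer (P : Set G)) = ⊤ := by
    have hQn := CfsgLib.Solvable.pCore_normal p (G ⧸ K)
    have hLn : (P ⊔ K).Normal := by
      have e : (pCore p (G ⧸ K)).comap q = P ⊔ K := by
        rw [← hmap, Subgroup.comap_map_eq, hq, QuotientGroup.ker_mk']
      exact e ▸ Subgroup.Normal.comap hQn q
    have hidx : ¬ p ∣ (P.subgroupOf (P ⊔ K)).index := fun h => S.not_dvd_index
      (hPS ▸ h.trans (Subgroup.relIndex_dvd_index_of_le le_sup_left))
    have h1 := Sylow.normalizer_sup_eq_top ((hP.comap_subtype (K := P ⊔ K)).toSylow hidx)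
    have e : (P.comap (P ⊔ K : Subgroup G).subtype).map (P ⊔ K : Subgroup G).subtype = P := by
      rw [Subgroup.map_comap_eq, Subgroup.range_subtype, inf_eq_right.2 le_sup_left]
    have h2 : Subgroup.normalizer (((P.comap (P ⊔ K : Subgroup G).subtype).map
        (P ⊔ K : Subgroup G).subtype : Subgroup G) : Set G) ⊔ (P ⊔ K) = ⊤ := h1
    rw [e] at h2
    rw [eq_top_iff, ← h2]
    exact sup_le le_sup_right (sup_le (Subgroup.le_normalizer.trans le_sup_right) le_sup_left)
  have hfix : Fixed P θ := fun r _ => hinv r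
  obtain ⟨β, hβ⟩ := mult_exists hP hKp hfix
  have hover : ∀ ξ ∈ c, ξ ∈ Over (K.subgroupOf (Subgroup.normalizer (P : Set G))) (β : _ → ℂ) := by
    intro ξ hξ
    obtain ⟨β₀, hβ₀⟩ := exists_constituent_res (N := K.subgroupOf (Subgroup.normalizer (P : Set G))) ξ
    obtain ⟨g, -, hg⟩ := exists_fixed_mult_of_induced hP hKp hM hc hχ₀ hθ hξ hβ₀
    rw [hinv g] at hg
    rw [mult_unique hP hKp hfix hβ hg]
    exact hβ₀
  have hβinv : ∀ x : (Subgroup.normalizer (P : Set G)), conjIrr (K.subgroupOf (Subgroup.normalizer (P : Set G))) β x = β := fun x =>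
    (mult_stab hP hKp hfix hβ x).2 (hinv _)
  have hc' : c = Over (K.subgroupOf (Subgroup.normalizer (P : Set G))) (β : _ → ℂ) := by
    obtain ⟨ξ₀, hξ₀⟩ := isPBlock_nonempty hc.1
    refine Set.Subset.antisymm hover fun ξ hξ => mem_of_sameBlock hc.1 hξ₀ ?_
    have : (P.subgroupOf (Subgroup.normalizer (P : Set G))).Normal := Subgroup.normal_in_normalizer
    have := Fintype.ofFinite (K.subgroupOf (Subgroup.normalizer (P : Set G)) ⊔ P.subgroupOf (Subgroup.normalizer (P : Set G)) : Subgroup _)
    have hKCp := not_dvd_natCard_subgroupOf hKp (Subgroup.normalizer (P : Set G))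
    have hidx : ∃ k : ℕ, (K.subgroupOf (Subgroup.normalizer (P : Set G))).relIndex (K.subgroupOf (Subgroup.normalizer (P : Set G)) ⊔ P.subgroupOf (Subgroup.normalizer (P : Set G))) = p ^ k := by
      obtain ⟨a, ha⟩ := IsPGroup.iff_card.1 (hP.comap_subtype (K := (Subgroup.normalizer (P : Set G))))
      rw [sup_comm, Subgroup.relIndex_sup_right]
      obtain ⟨j, -, hj⟩ := (Nat.dvd_prime_pow (Fact.out : p.Prime)).1
        (ha ▸ Subgroup.relIndex_dvd_card (K.subgroupOf (Subgroup.normalizer (P : Set G))) (P.subgroupOf (Subgroup.normalizer (P : Set G))))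
      exact ⟨j, hj⟩
    refine sameBlock_of_core hM le_sup_left hKCp hidx β hβinv (hP.comap_subtype (K := (Subgroup.normalizer (P : Set G))))
      le_sup_right ?_ ?_ (hover ξ₀ hξ₀) hξ
    · obtain ⟨x, hx⟩ := exists_blockCoeff_ne_zero hM (isPBlock_singleton hM hKCp β)
      refine ⟨x, Subgroup.mem_centralizer_iff.2 fun r hr => Subtype.ext ?_, hx⟩
      exact comm_of_mem_normalizer hP hKp (x := ((x : (Subgroup.normalizer (P : Set G))) : G)) x.2 (x : (Subgroup.normalizer (P : Set G))).2 hr
    · intro x hx hxo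
      refine Subgroup.mem_sup_left (show (x : G) ∈ K from (QuotientGroup.eq_one_iff _).1 ?_)
      have h1 : q (x : G) ∈ pCore p (G ⧸ K) := hcons (Subgroup.mem_centralizer_iff.2 fun z hz => by
        rw [SetLike.mem_coe, ← hmap] at hz
        obtain ⟨v, hv, rfl⟩ := hz
        rw [← map_mul, ← map_mul]
        exact congrArg q (congrArg Subtype.val
          (Subgroup.mem_centralizer_iff.1 hx ⟨v, Subgroup.le_normalizer hv⟩ hv)))
      obtain ⟨k, hk⟩ := IsPGroup.iff_orderOf.1 (CfsgLib.Solvable.pCore_isPGroup p) ⟨q (x : G), h1⟩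
      rw [Subgroup.orderOf_mk] at hk
      rcases k with _ | k
      · rw [pow_zero, orderOf_eq_one_iff] at hk
        exact hk
      · refine absurd ?_ hxo
        rw [← Subgroup.orderOf_coe]
        exact (hk ▸ dvd_pow_self p (Nat.succ_ne_zero k) : p ∣ orderOf (q (x : G))).trans
          (orderOf_map_dvd q (x : G))
  have hB' : B = Over K (θ : K → ℂ) := Set.ext hmem
  obtain ⟨I, hI⟩ := exists_perfectIsometry_of_twist hM K (Subgroup.normalizer (P : Set G)) hKH hKp
    (htl hM K hKp P hP hab θ hinv β (isCorrespondent_of_mult hP hKp hM hfix hβ))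
  exact ⟨I, fun _ => 1, by rw [hc', hB']; exact hI⟩

/-- **The isometry with the correspondent.** -/
theorem exists_isometry (htl : TwistLaw.{u}) (p : ℕ) [Fact p.Prime] (M : Ideal AlgInt) [M.IsPrime]
    (hM : IsPModular p M) (n : ℕ) : ∀ (G : Type u) [Group G] [Fintype G], Nat.card G ≤ n →
    IsPSolvable p G → ∀ B : Set (IrrCharacter G), IsPBlock M B → ∀ P : Subgroup G,
    IsDefectGroup p M B P → (∀ x ∈ P, ∀ y ∈ P, x * y = y * x) →
    ∀ c : Set (IrrCharacter (Subgroup.normalizer (P : Set G))), IsDefectGroup p M c (P.subgroupOf (Subgroup.normalizer (P : Set G))) →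
    IsInducedBlock M (Subgroup.normalizer (P : Set G)) c B →
    ∃ (I : IrrCharacter (Subgroup.normalizer (P : Set G)) → IrrCharacter G) (ε : IrrCharacter (Subgroup.normalizer (P : Set G)) → ℤ),
      IsPerfectIsometry p M c B I ε := by
  classical
  induction n with
  | zero =>
    intro G _ _ h
    exact absurd h (Nat.not_le.2 Nat.card_pos)
  | succ n ih =>
    intro G _ _ hn hsolv B hB P hPD hab c hcD hc
    set K := pPrimeCore p G with hK
    have hKn : K.Normal := CfsgLib.Solvable.pPrimeCore_normal p G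
    have := Fintype.ofFinite K
    have := Fintype.ofFinite (Subgroup.normalizer (P : Set G))
    have := Fintype.ofFinite (K.subgroupOf (Subgroup.normalizer (P : Set G)))
    have hKp : ¬ p ∣ Nat.card K := (Fact.out : p.Prime).coprime_iff_not_dvd.1
      (CfsgLib.Solvable.pPrimeCore_coprime (G := G) p).symm
    have hP : IsPGroup p P := isPGroup_defectGroup hM hB hPD
    obtain ⟨χ₀, hχ₀⟩ := isPBlock_nonempty hB
    obtain ⟨ξ₀, hξ₀⟩ := isPBlock_nonempty hc.1
    obtain ⟨θ₀, hθ₀⟩ := exists_constituent_res (N := K) χ₀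
    obtain ⟨β, hβξ⟩ := exists_constituent_res (N := K.subgroupOf (Subgroup.normalizer (P : Set G))) ξ₀
    obtain ⟨g, hfix, hmult⟩ := exists_fixed_mult_of_induced hP hKp hM hc hχ₀ hθ₀ hξ₀ hβξ
    obtain ⟨θ, rfl⟩ : ∃ θ, θ = conjIrr K θ₀ g := ⟨_, rfl⟩
    have hθ : classInner (fun k : K => (χ₀ : G → ℂ) k) (conjIrr K θ₀ g : K → ℂ) ≠ 0 := by
      rwa [classInner_res_conjIrr]
    generalize conjIrr K θ₀ g = θ at hfix hmult hθ
    by_cases hinv : ∀ g : G, conjIrr K θ g = θ
    · exact isometry_of_invariant htl hM hsolv hK hB hPD hab hc hχ₀ hθ hinv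
    -- the stabiliser in `G`
    let T : Subgroup G :=
      { carrier := {g | conjIrr K θ g = θ}
        one_mem' := conjIrr_one θ
        mul_mem' := fun {g h} (hg : conjIrr K θ g = θ) (hh : conjIrr K θ h = θ) => by
          show conjIrr K θ (g * h) = θ
          rw [← conjIrr_conjIrr, hg, hh]
        inv_mem' := fun {g} (hg : conjIrr K θ g = θ) => by
          show conjIrr K θ g⁻¹ = θ
          conv_lhs => rw [← hg]
          rw [conjIrr_conjIrr, mul_inv_cancel, conjIrr_one] }
    have hT : ∀ g : G, g ∈ T ↔ ∀ θ' ∈ ({θ} : Set (IrrCharacter K)),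
        conjIrr K θ' g ∈ ({θ} : Set (IrrCharacter K)) := fun g =>
      ⟨fun hg θ' h => by rw [Set.mem_singleton_iff.1 h]; exact hg,
        fun h => Set.mem_singleton_iff.1 (h θ rfl)⟩
    have hKT : K ≤ T := fun k hk => by
      show conjIrr K θ k = θ
      refine Subtype.ext (funext fun m => ?_)
      rw [conjIrr_apply]
      exact CfsgLib.Char.irr_isClassFunction θ.2 m ⟨k, hk⟩
    have hPT : P ≤ T := fun r hr => hfix r hr
    have := Fintype.ofFinite T
    have hb := isPBlock_singleton hM hKp θ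
    -- the stabiliser in the normalizer
    set S : Subgroup (Subgroup.normalizer (P : Set G)) := T.subgroupOf (Subgroup.normalizer (P : Set G)) with hSdef
    have hKS : K.subgroupOf (Subgroup.normalizer (P : Set G)) ≤ S := fun x hx => hKT hx
    have hS : ∀ x : (Subgroup.normalizer (P : Set G)), x ∈ S ↔ ∀ β' ∈ ({β} : Set (IrrCharacter (K.subgroupOf (Subgroup.normalizer (P : Set G))))),
        conjIrr (K.subgroupOf (Subgroup.normalizer (P : Set G))) β' x ∈ ({β} : Set (IrrCharacter (K.subgroupOf (Subgroup.normalizer (P : Set G))))) := fun x =>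
      ⟨fun hx β' h => by
        rw [Set.mem_singleton_iff.1 h]
        exact (mult_stab hP hKp hfix hmult x).2 hx,
        fun h => (mult_stab hP hKp hfix hmult x).1 (Set.mem_singleton_iff.1 (h β rfl))⟩
    have := Fintype.ofFinite S
    have hKCp := not_dvd_natCard_subgroupOf hKp (Subgroup.normalizer (P : Set G))
    have hbH := isPBlock_singleton hM hKCp β
    obtain ⟨c', hc'B, ⟨ψ₀, hψ₀, h₀⟩, hind'⟩ :=
      stab_surjective hKS hM hbH hS hc.1 hξ₀ (Set.mem_singleton β) hβξ
    obtain ⟨A', hA', hov', hirr', -, hA'mem⟩ := exists_induced_stab hKS hM hbH hS hc'B hψ₀ h₀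
    obtain rfl : A' = c := isInducedBlock_unique S hA' hind'
    obtain ⟨D', hD'⟩ := exists_isDefectGroup (p := p) hM hc'B
    obtain ⟨x, hx⟩ := defectGroup_exists_conj hM hc.1 hcD
      (defect_stab hKS hM hbH hS hc'B hind' hψ₀ h₀ hD')
    have hPn : (P.subgroupOf (Subgroup.normalizer (P : Set G))).Normal := Subgroup.normal_in_normalizer
    have hxe : (P.subgroupOf (Subgroup.normalizer (P : Set G))).map (MulAut.conj x).toMonoidHom = P.subgroupOf (Subgroup.normalizer (P : Set G)) := by
      ext y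
      rw [mem_map_conj_iff]
      exact ⟨fun h => by simpa [mul_assoc] using hPn.conj_mem _ h x,
        fun h => by simpa [mul_assoc] using hPn.conj_mem _ h x⁻¹⟩
    have hcardD : Nat.card P = p ^ blockDefect p c' := by
      rw [← natCard_defectGroup hM hc'B hD', ← Subgroup.card_map_of_injective S.subtype_injective,
        hx, hxe, Nat.card_congr (Subgroup.subgroupOfEquivOfLe Subgroup.le_normalizer).toEquiv]
    -- the normalizer inside the stabiliser
    set PT : Subgroup T := P.subgroupOf T with hPTdef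
    set NT : Subgroup T := Subgroup.normalizer (PT : Set T) with hNTdef
    have hmem : ∀ y : T, y ∈ NT ↔ (y : G) ∈ (Subgroup.normalizer (P : Set G)) := fun y => mem_normalizer_subgroupOf hPT y
    let e : NT ≃* S :=
      { toFun := fun y => ⟨⟨((y : T) : G), (hmem _).1 y.2⟩, (y : T).2⟩
        invFun := fun s => ⟨⟨((s : (Subgroup.normalizer (P : Set G))) : G), s.2⟩, (hmem _).2 (s : (Subgroup.normalizer (P : Set G))).2⟩
        left_inv := fun _ => rfl
        right_inv := fun _ => rfl
        map_mul' := fun _ _ => rfl }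
    have := Fintype.ofFinite NT
    have hPTp : IsPGroup p PT := hP.comap_subtype
    have hc'' := isPBlock_blockMap (M := M) e hc'B
    have : (PT.subgroupOf NT).Normal := Subgroup.normal_in_normalizer
    have hc''D : IsDefectGroup p M (blockMap e c') (PT.subgroupOf NT) :=
      defectGroup_of_normal_of_card hM (D := PT.subgroupOf NT) (hPTp.comap_subtype) hc'' (by
        rw [blockDefect_blockMap, ← hcardD,
          Nat.card_congr (Subgroup.subgroupOfEquivOfLe Subgroup.le_normalizer).toEquiv,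
          Nat.card_congr (Subgroup.subgroupOfEquivOfLe hPT).toEquiv])
    obtain ⟨B', hB', hB'D, hind''⟩ := firstMain_induced hM hPTp hc'' hc''D
    -- the block of the stabiliser covers `θ`
    have := Fintype.ofFinite (K.subgroupOf T)
    have := Fintype.ofFinite ((K.subgroupOf T).subgroupOf NT)
    have hKTp : ¬ p ∣ Nat.card (K.subgroupOf T) := not_dvd_natCard_subgroupOf hKp T
    set θT : IrrCharacter (K.subgroupOf T) := irrMap (Subgroup.subgroupOfEquivOfLe hKT) θ with hθT
    have hfixT : Fixed PT θT := fun r hr => Subtype.ext (funext fun k =>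
      congrArg (fun φ : IrrCharacter K => (φ : K → ℂ) (Subgroup.subgroupOfEquivOfLe hKT k))
        (hfix (r : G) hr))
    let eC : (K.subgroupOf T).subgroupOf NT ≃* K.subgroupOf (Subgroup.normalizer (P : Set G)) :=
      { toFun := fun y => ⟨⟨(((y : NT) : T) : G), (hmem _).1 (y : NT).2⟩, y.2⟩
        invFun := fun k => ⟨⟨⟨((k : (Subgroup.normalizer (P : Set G))) : G), hKT k.2⟩, (hmem _).2 (k : (Subgroup.normalizer (P : Set G))).2⟩, k.2⟩
        left_inv := fun _ => rfl
        right_inv := fun _ => rfl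
        map_mul' := fun _ _ => rfl }
    have hβT : classInner (fun y : (K.subgroupOf T).subgroupOf NT =>
        (irrMap e ψ₀ : NT → ℂ) y) (irrMap eC β : _ → ℂ) ≠ 0 := by
      obtain ⟨β', hβ', hne⟩ := h₀
      rw [Set.mem_singleton_iff.1 hβ', ← CfsgLib.Clifford.RamifiedSylow.classInner_comp_equiv eC]
        at hne
      exact hne
    have hmultT : Mult p (K.subgroupOf T) NT (θT : K.subgroupOf T → ℂ) (irrMap eC β : _ → ℂ) := by
      obtain ⟨m, hm, hmp⟩ := hmult
      refine ⟨m, ?_, hmp⟩
      rw [← hm, ← CfsgLib.Clifford.RamifiedSylow.classInner_comp_equiv eC]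
      rfl
    obtain ⟨χT, hχT⟩ := isPBlock_nonempty hB'
    obtain ⟨θ₁, hθ₁⟩ := exists_constituent_res (N := K.subgroupOf T) χT
    obtain ⟨t, ht, htm⟩ := exists_fixed_mult_of_induced hPTp hKTp hM hind'' hχT hθ₁
      (show irrMap e ψ₀ ∈ blockMap e c' from ⟨ψ₀, hψ₀, rfl⟩) hβT
    have hovT : OverBlock hKT ({θ} : Set (IrrCharacter K)) (χT : T → ℂ) := by
      refine ⟨θ, rfl, ?_⟩
      rw [← classInner_subgroupOf hKT, ← hθT, ← mult_injective hPTp hKTp ht hfixT htm hmultT,
        classInner_res_conjIrr]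
      exact hθ₁
    obtain ⟨A, hA, hov, hirr, -, hAmem⟩ := exists_induced_stab hKT hM hb hT hB' hχT hovT
    obtain rfl : A = B := by
      refine isInducedBlock_unique T hA ((isInducedBlock_iff T hB' hB hχT hχ₀).2 fun z => ?_)
      rw [← (isInducedBlock_iff NT hc'' hB' ⟨ψ₀, hψ₀, rfl⟩ hχT).1 hind'' (resZ T z),
        ← (isInducedBlock_iff (Subgroup.normalizer (P : Set G)) hc.1 hB hξ₀ hχ₀).1 hc z,
        ← (isInducedBlock_iff S hc'B hc.1 hψ₀ hξ₀).1 hind' (resZ (Subgroup.normalizer (P : Set G)) z)]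
      refine lam_irrMap e ψ₀ _ _ fun y => ?_
      simp only [coe_resZ, coeff_resSub]
      rfl
    have hcard : Nat.card T ≤ n := by
      have hne : T ≠ ⊤ := fun e => hinv fun g => (e ▸ Subgroup.mem_top g : g ∈ T)
      have := Subgroup.card_le_card_group T
      have h2 : Nat.card T ≠ Nat.card G := fun e => hne (Subgroup.eq_top_of_card_eq T e)
      omega
    obtain ⟨J, δ, hJ⟩ := ih T hcard (CfsgLib.PLength.isPSolvable_subgroup hsolv T) B' hB' PT hB'D
      (fun a ha b hb => Subtype.ext (hab _ ha _ hb)) (blockMap e c') hc''D hind''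
    exact exists_induced_isometry T S (isPerfectIsometry_precomp e hJ) hA'mem hirr'
      (fun ψ hψ ψ' hψ' h => eq_of_indFun_eq hKS hbH hS (hov' ψ hψ) (hov' ψ' hψ') h)
      hAmem hirr (fun ψ hψ ψ' hψ' h => eq_of_indFun_eq hKT hb hT (hov ψ hψ) (hov ψ' hψ') h)

/-- **Abelian defect groups in `p`-solvable groups**, from the existence of twists. -/
theorem main (htl : TwistLaw.{u}) {G : Type u} [Group G] [Finite G] (p : ℕ) [Fact p.Prime]
    (M : Ideal AlgInt) (hM : IsPModular p M) (hsolv : IsPSolvable p G)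
    (B : Set (IrrCharacter G)) (hB : IsPBlock M B) (P : Subgroup G)
    (hPD : IsDefectGroup p M B P) (hPab : ∀ x ∈ P, ∀ y ∈ P, x * y = y * x)
    (c : Set (IrrCharacter (Subgroup.normalizer (P : Set G)))) (hcD : IsDefectGroup p M c (P.subgroupOf (Subgroup.normalizer (P : Set G))))
    (hc : IsInducedBlock M (Subgroup.normalizer (P : Set G)) c B) :
    Nat.card c = Nat.card B ∧ blockRank p c = blockRank p B ∧
      ∃ (I : IrrCharacter (Subgroup.normalizer (P : Set G)) → IrrCharacter G) (ε : IrrCharacter (Subgroup.normalizer (P : Set G)) → ℤ),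
        IsPerfectIsometry p M c B I ε := by
  have := Fintype.ofFinite G
  have := Fintype.ofFinite (Subgroup.normalizer (P : Set G))
  have : M.IsPrime := hM.2.1.isPrime
  obtain ⟨I, ε, h⟩ :=
    exists_isometry htl p M hM (Nat.card G) G le_rfl hsolv B hB P hPD hPab c hcD hc
  exact ⟨Nat.card_congr (h.1.equiv I), blockRank_eq_of_isometry h, I, ε, h⟩

end CfsgLib.BlockA.AbelianIso
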