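import Cfsg.Agent.Lib.BlockA.AbelianIso.Defs
import Cfsg.Agent.Lib.Clifford.CosetAvg
import Cfsg.Agent.Lib.Clifford.Correspondence
import Cfsg.Agent.Lib.Char.Column
import Cfsg.Agent.Lib.Char.Linear
import Cfsg.Agent.Lib.Block.LocalRing
import Cfsg.Agent.Lib.Block.Omega

/-!
# Matrix tools for twisting: Schur relations, pushing forward, the characters over an invariant one
-/

set_option autoImplicit false
set_option linter.unusedSectionVars false

namespace CfsgLib.BlockA.AbelianIso

open Cfsg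
open scoped ComplexConjugate Kronecker

universe u v

section Schur

variable {L : Type u} [Group L] {s : ℕ} {N : Subgroup L} {σ : N →* Matrix (Fin s) (Fin s) ℂ}

theorem Spans.comm_scalar (hσ : Spans σ) {X : Matrix (Fin s) (Fin s) ℂ}
    (hX : ∀ a, X * σ a = σ a * X) : ∃ c : ℂ, X = c • 1 := by
  have hall : ∀ M : Matrix (Fin s) (Fin s) ℂ, Commute M X := by
    intro M
    have hM : M ∈ Submodule.span ℂ (Set.range σ) := by rw [hσ]; trivial
    induction hM using Submodule.span_induction with
    | mem _ h => obtain ⟨a, rfl⟩ := h; exact (hX a).symm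
    | zero => exact Commute.zero_left X
    | add _ _ _ _ h1 h2 => exact h1.add_left h2
    | smul c _ _ h => exact h.smul_left c
  obtain ⟨c, rfl⟩ := Matrix.mem_range_scalar_of_commute_single (fun i j _ => hall (Matrix.single i j 1))
  exact ⟨c, (Matrix.smul_one_eq_diagonal c).symm⟩

theorem Spans.trace_ext (hσ : Spans σ) {X Y : Matrix (Fin s) (Fin s) ℂ}
    (h : ∀ a, (σ a * X).trace = (σ a * Y).trace) : X = Y := by
  refine Matrix.ext_iff_trace_mul_left.2 fun M => ?_
  have hM : M ∈ Submodule.span ℂ (Set.range σ) := by rw [hσ]; trivial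
  induction hM using Submodule.span_induction with
  | mem _ h' => obtain ⟨a, rfl⟩ := h'; exact h a
  | zero => simp
  | add _ _ _ _ h1 h2 => simp [add_mul, h1, h2]
  | smul c _ _ h' => simp [h']

theorem mul_single_mul (A C : Matrix (Fin s) (Fin s) ℂ) (i j b c : Fin s) :
    (A * Matrix.single j b (1 : ℂ) * C : Matrix (Fin s) (Fin s) ℂ) i c = A i j * C b c := by
  rw [Matrix.mul_apply, Finset.sum_eq_single b]
  · simp
  · intro x _ hx
    simp [hx]
  · simp

/-- Schur's relations for a spanning representation. -/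
theorem Spans.schur [Fintype N] (hσ : Spans σ) (X Y : Matrix (Fin s) (Fin s) ℂ) :
    (s : ℂ) * ∑ a : N, (X * σ a).trace * (σ a⁻¹ * Y).trace = (Nat.card N : ℂ) * (X * Y).trace := by
  classical
  obtain ⟨Φ, hΦ⟩ : ∃ Φ : Fin s → Fin s → Matrix (Fin s) (Fin s) ℂ,
      ∀ j b, Φ j b = ∑ a : N, σ a * Matrix.single j b 1 * σ a⁻¹ := ⟨_, fun _ _ => rfl⟩
  have hval : ∀ j b i c, (s : ℂ) * Φ j b i c =
      if i = c ∧ j = b then (Nat.card N : ℂ) else 0 := by
    intro j b i c
    have hcomm : ∀ m, Φ j b * σ m = σ m * Φ j b := by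
      intro m
      rw [hΦ, Finset.sum_mul, Finset.mul_sum]
      refine Fintype.sum_equiv (Equiv.mulLeft m⁻¹) _ _ fun a => ?_
      simp only [Equiv.coe_mulLeft, mul_inv_rev, inv_inv, map_mul, ← mul_assoc]
      rw [← map_mul σ m, mul_inv_cancel, map_one, one_mul]
    obtain ⟨t, ht⟩ := hσ.comm_scalar hcomm
    have htr : (s : ℂ) * t = if j = b then (Nat.card N : ℂ) else 0 := by
      have h := congrArg Matrix.trace ht
      rw [hΦ, Matrix.trace_sum, Finset.sum_congr rfl fun a _ => by
        rw [Matrix.trace_mul_comm, ← mul_assoc, ← map_mul, inv_mul_cancel, map_one, one_mul],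
        Finset.sum_const, Finset.card_univ, ← Nat.card_eq_fintype_card, nsmul_eq_mul,
        Matrix.trace_smul, Matrix.trace_one, Fintype.card_fin, smul_eq_mul] at h
      rw [mul_comm, ← h]
      by_cases hjb : j = b
      · subst hjb; simp [Matrix.trace_single_eq_same]
      · simp [hjb, Matrix.trace_single_eq_of_ne _ _ _ hjb]
    rw [ht, Matrix.smul_apply, smul_eq_mul, ← mul_assoc, htr]
    by_cases h1 : i = c <;> by_cases h2 : j = b <;> simp [h1, h2, Matrix.one_apply]
  have h1 : ∀ a, (X * σ a).trace * (σ a⁻¹ * Y).trace =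
      ∑ j, ∑ i, ∑ b, ∑ c, X j i * Y c b *
        (σ a * Matrix.single j b (1 : ℂ) * σ a⁻¹ : Matrix (Fin s) (Fin s) ℂ) i c := by
    intro a
    simp only [mul_single_mul]
    simp only [Matrix.trace, Matrix.diag_apply, Matrix.mul_apply]
    rw [Finset.sum_mul]
    refine Finset.sum_congr rfl fun j _ => ?_
    rw [Finset.sum_mul]
    refine Finset.sum_congr rfl fun i _ => ?_
    rw [Finset.mul_sum]
    refine Finset.sum_congr rfl fun b _ => ?_
    rw [Finset.mul_sum]
    exact Finset.sum_congr rfl fun c _ => by ring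
  calc (s : ℂ) * ∑ a : N, (X * σ a).trace * (σ a⁻¹ * Y).trace
      = ∑ j, ∑ i, ∑ b, ∑ c, X j i * Y c b * ((s : ℂ) * Φ j b i c) := by
        simp only [h1, hΦ, Matrix.sum_apply, Finset.mul_sum]
        rw [Finset.sum_comm]
        refine Finset.sum_congr rfl fun j _ => ?_
        rw [Finset.sum_comm]
        refine Finset.sum_congr rfl fun i _ => ?_
        rw [Finset.sum_comm]
        refine Finset.sum_congr rfl fun b _ => ?_
        rw [Finset.sum_comm]
        refine Finset.sum_congr rfl fun c _ => Finset.sum_congr rfl fun a _ => by ring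
    _ = _ := by
        simp only [hval, ite_and, mul_ite, mul_zero]
        simp only [Finset.sum_ite_eq, Finset.mem_univ, if_true, Matrix.trace, Matrix.diag_apply,
          Matrix.mul_apply, Finset.mul_sum]
        exact Finset.sum_congr rfl fun j _ => Finset.sum_congr rfl fun i _ => by
          ring

end Schur

theorem isCharacter_matrix {E : Type u} [Group E] {ι : Type} [Fintype ι] [DecidableEq ι]
    (R : E →* Matrix ι ι ℂ) : IsCharacter E fun e => (R e).trace := by
  let τ : Representation ℂ E (ι → ℂ) :=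
    (Matrix.toLinAlgEquiv' (R := ℂ) (n := ι)).toAlgHom.toMonoidHom.comp R
  rw [show (fun e => (R e).trace) = τ.character from funext fun e => (Matrix.trace_toLin'_eq _).symm]
  exact Char.isCharacter_of_rep τ

section Push

variable {L : Type u} {Q : Type u} [Group L] [Group Q] [Fintype L] (π : L →* Q)
  (hπ : Function.Surjective π)

/-- The average over the fibres of `π`. -/
noncomputable def push (f : L → ℂ) : Q → ℂ := fun q =>
  letI := Fintype.ofFinite π.ker
  Clifford.cosetAvg π.ker f (Function.surjInv hπ q)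

theorem push_apply (f : L → ℂ) {N : Type v} [Fintype N] (ι : N → L) (hι : Function.Injective ι)
    (l : L) (hker : ∀ a, a ∈ Set.range ι ↔ π a = π l) :
    push π hπ f (π l) = (Nat.card N : ℂ)⁻¹ * ∑ n, f (ι n) := by
  classical
  let := Fintype.ofFinite π.ker
  set t := Function.surjInv hπ (π l)
  have ht : π t = π l := Function.surjInv_eq hπ _
  let e : π.ker ≃ N :=
    (Equiv.ofBijective (fun k : π.ker => (⟨(k : L) * t, (hker _).2 (by
        rw [map_mul, k.2, one_mul, ht])⟩ : Set.range ι))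
      ⟨fun a b h => Subtype.ext (mul_right_cancel (congrArg Subtype.val h)),
        fun a => ⟨⟨(a : L) * t⁻¹, MonoidHom.mem_ker.2 (by
          rw [map_mul, map_inv, ht, (hker _).1 a.2, mul_inv_cancel])⟩,
          Subtype.ext (inv_mul_cancel_right (a : L) t)⟩⟩).trans (Equiv.ofInjective ι hι).symm
  show Clifford.cosetAvg π.ker f t = _
  rw [Clifford.cosetAvg, Nat.card_congr e]
  congr 1
  refine Fintype.sum_equiv e _ _ fun k => congrArg f ?_
  simp only [e, Equiv.trans_apply, Equiv.apply_ofInjective_symm]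
  rfl

theorem push_comp (f : L → ℂ) [Fintype π.ker] (l : L) :
    push π hπ f (π l) = Clifford.cosetAvg π.ker f l := by
  rw [push_apply π hπ f (fun k : π.ker => (k : L) * l)
    (fun a b h => Subtype.ext (mul_right_cancel h)) l]
  · rfl
  intro a
  refine ⟨?_, fun h => ⟨⟨a * l⁻¹, MonoidHom.mem_ker.2 (by rw [map_mul, map_inv, h, mul_inv_cancel])⟩,
    inv_mul_cancel_right a l⟩⟩
  rintro ⟨k, rfl⟩
  rw [map_mul, k.2, one_mul]

theorem isCharacter_push {f : L → ℂ} (hf : IsCharacter L f) : IsCharacter Q (push π hπ f) := by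
  have := Fintype.ofFinite π.ker
  obtain ⟨ψ, hψ, e⟩ := Char.isCharacter_quotient_lift π.ker (Clifford.isCharacter_cosetAvg π.ker hf)
    fun n hn => by
      simpa using Clifford.cosetAvg_mem π.ker f ⟨n, hn⟩
  have h2 : push π hπ f = ψ ∘ (QuotientGroup.quotientKerEquivOfSurjective π hπ).symm := funext fun q => by
    obtain ⟨l, rfl⟩ := hπ q
    rw [push_comp, e]
    refine congrArg ψ ((MulEquiv.eq_symm_apply _).2 ?_)
    rfl
  rw [h2]
  exact Char.isCharacter_comp hψ (QuotientGroup.quotientKerEquivOfSurjective π hπ).symm.toMonoidHom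

include hπ in
theorem sum_comp_surj [Fintype Q] (F : Q → ℂ) :
    ∑ l : L, F (π l) = (Nat.card π.ker : ℂ) * ∑ q : Q, F q := by
  classical
  have := Fintype.ofFinite π.ker
  have hs := Function.surjInv_eq hπ
  let e : L ≃ π.ker × Q :=
    { toFun := fun l => (⟨l * (Function.surjInv hπ (π l))⁻¹, MonoidHom.mem_ker.2 (by
        rw [map_mul, map_inv, hs, mul_inv_cancel])⟩, π l)
      invFun := fun x => (x.1 : L) * Function.surjInv hπ x.2
      left_inv := fun l => by simp
      right_inv := fun x => by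
        have h : π ((x.1 : L) * Function.surjInv hπ x.2) = x.2 := by rw [map_mul, x.1.2, one_mul, hs]
        refine Prod.ext (Subtype.ext ?_) h
        simp [h] }
  rw [Fintype.sum_equiv e (fun l => F (π l)) (fun x => F x.2) (fun l => rfl), Fintype.sum_prod_type]
  show ∑ _x : π.ker, ∑ q : Q, F q = _
  rw [Finset.sum_const, Finset.card_univ, ← Nat.card_eq_fintype_card, nsmul_eq_mul]

theorem classInner_push [Fintype Q] (f : L → ℂ) (φ : Q → ℂ) :
    classInner (push π hπ f) φ = classInner f (φ ∘ π) := by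
  classical
  have := Fintype.ofFinite π.ker
  rw [← Clifford.classInner_cosetAvg π.ker f (φ ∘ π) fun n g => by simp [MonoidHom.mem_ker.1 n.2],
    Char.classInner_def, Char.classInner_def]
  simp only [← push_comp π hπ, Function.comp_apply]
  rw [sum_comp_surj π hπ fun q => push π hπ f q * conj (φ q)]
  have hc : Nat.card L = Nat.card π.ker * Nat.card Q := by
    rw [← Nat.card_congr (QuotientGroup.quotientKerEquivOfSurjective π hπ).toEquiv, mul_comm,
      ← Subgroup.card_eq_card_quotient_mul_card_subgroup]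
  rw [hc, Nat.cast_mul, mul_inv, mul_mul_mul_comm, inv_mul_cancel₀ (Char.natCard_ne_zero), one_mul]

end Push

section Projection

variable {L : Type u} [Group L] [Fintype L] {N : Subgroup L} [N.Normal] [Fintype N] {s : ℕ}
  {σ : N →* Matrix (Fin s) (Fin s) ℂ} (hσ : Spans σ) {β : IrrCharacter N}
  (hβ : ∀ a, (β : N → ℂ) a = (σ a).trace) (hinv : ∀ g : L, Clifford.conjFn g (β : N → ℂ) = β)

/-- The value at `h` of the part of `η` over `β`. -/
noncomputable def proj (β : IrrCharacter N) (η : L → ℂ) (h : L) : ℂ :=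
  (β : N → ℂ) 1 / (Nat.card N : ℂ) * ∑ a : N, (β : N → ℂ) a⁻¹ * η ((a : L) * h)

include hσ hβ in
theorem beta_conv (m : N) :
    (β : N → ℂ) 1 * ∑ a : N, (β : N → ℂ) a⁻¹ * (β : N → ℂ) (m⁻¹ * a) =
      (Nat.card N : ℂ) * (β : N → ℂ) m⁻¹ := by
  have h := hσ.schur (σ m⁻¹) 1
  simp only [mul_one, ← map_mul, ← hβ] at h
  rw [hβ 1, map_one, Matrix.trace_one, Fintype.card_fin, ← h]
  simp only [mul_comm ((β : N → ℂ) _⁻¹)]

include hσ hβ hinv in
theorem proj_eq (η : IrrCharacter L) (h : L) [Decidable (η ∈ Over N (β : N → ℂ))] :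
    proj β (η : L → ℂ) h =
      if η ∈ Over N (β : N → ℂ) then (η : L → ℂ) h else 0 := by
  obtain ⟨d, π, hπirr, hπ⟩ := η.2
  obtain ⟨c, hc⟩ : ∃ c : ℂ, c = (β : N → ℂ) 1 / (Nat.card N : ℂ) := ⟨_, rfl⟩
  obtain ⟨P, hP⟩ : ∃ P : Module.End ℂ (Fin d → ℂ), P = c • ∑ a : N, (β : N → ℂ) a⁻¹ • π (a : L) :=
    ⟨_, rfl⟩
  have hN : (Nat.card N : ℂ) ≠ 0 := Char.natCard_ne_zero
  have hidem : IsIdempotentElem P := by
    show P * P = P
    have h1 : (∑ a : N, (β : N → ℂ) a⁻¹ • π (a : L)) * (∑ a : N, (β : N → ℂ) a⁻¹ • π (a : L)) =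
        ∑ m : N, (∑ a : N, (β : N → ℂ) a⁻¹ * (β : N → ℂ) (m⁻¹ * a)) • π (m : L) := by
      rw [Finset.sum_mul]
      simp only [Finset.sum_smul]
      rw [Finset.sum_comm]
      refine Finset.sum_congr rfl fun a _ => ?_
      rw [Finset.mul_sum]
      refine Fintype.sum_equiv (Equiv.mulLeft a) _ _ fun b => ?_
      rw [smul_mul_smul_comm, Equiv.coe_mulLeft, mul_inv_rev, inv_mul_cancel_right, Subgroup.coe_mul,
        map_mul]
    rw [hP, smul_mul_smul_comm, h1, mul_smul]
    congr 1
    rw [Finset.smul_sum]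
    refine Finset.sum_congr rfl fun m _ => ?_
    rw [smul_smul, hc, div_mul_eq_mul_div, beta_conv hσ hβ, mul_div_cancel_left₀ _ hN]
  have htr : ∀ g : L, LinearMap.trace ℂ _ (P * π g) = proj β (η : L → ℂ) g := by
    intro g
    simp only [hP, proj, hc, smul_mul_assoc, Finset.sum_mul, map_smul, map_sum, smul_eq_mul, ← hπ,
      ← map_mul, Representation.character]
  have htr1 : LinearMap.trace ℂ _ P =
      (β : N → ℂ) 1 * classInner (fun a : N => (η : L → ℂ) a) (β : N → ℂ) := by
    rw [← mul_one P, ← map_one π, htr, proj, Char.classInner_def]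
    rw [Finset.sum_congr rfl fun a (_ : a ∈ Finset.univ) => show
      (β : N → ℂ) a⁻¹ * (η : L → ℂ) ((a : L) * 1) = (η : L → ℂ) a * conj ((β : N → ℂ) a) by
      rw [mul_one, Char.char_inv (Char.irr_isCharacter β.2), mul_comm]]
    ring
  have zero_of : ∀ {Q : Module.End ℂ (Fin d → ℂ)}, IsIdempotentElem Q →
      LinearMap.trace ℂ _ Q = 0 → Q = 0 := by
    intro Q hQ h0
    have hp : LinearMap.IsProj (LinearMap.range Q) Q :=
      (LinearMap.isProj_range_iff_isIdempotentElem Q).2 hQ
    rw [hp.trace] at h0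
    exact LinearMap.range_eq_bot.1 (Submodule.finrank_eq_zero.1 (by exact_mod_cast h0))
  by_cases hover : η ∈ Over N (β : N → ℂ)
  · rw [if_pos hover, ← htr, ← hπ]
    have hr := congr_fun (Clifford.restrict_eq_smul_of_invariant η.2 β.2 hinv hover) 1
    simp only [Pi.smul_apply, smul_eq_mul, OneMemClass.coe_one] at hr
    have h1 : LinearMap.trace ℂ _ (1 - P) = 0 := by
      rw [map_sub, htr1, mul_comm, ← hr, ← hπ, Representation.character, map_one π, sub_self]
    rw [(sub_eq_zero.1 (zero_of hidem.one_sub h1)).symm, one_mul]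
    rfl
  · rw [if_neg hover, ← htr]
    simp only [Over, Set.mem_ofPred_eq, not_not] at hover
    rw [zero_of hidem (by rw [htr1, hover, mul_zero]), zero_mul, map_zero]

include hσ hβ hinv in
/-- On a coset the characters over `β` are given by one matrix. -/
theorem exists_coset_matrix (η : IrrCharacter L) (hη : η ∈ Over N (β : N → ℂ)) (y : L) :
    ∃ Z : Matrix (Fin s) (Fin s) ℂ, ∀ a : N, (η : L → ℂ) ((a : L) * y) = (σ a * Z).trace := by
  refine ⟨((β : N → ℂ) 1 / (Nat.card N : ℂ)) • ∑ b : N, (η : L → ℂ) ((b : L) * y) • σ b⁻¹,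
    fun a => ?_⟩
  classical
  have h := proj_eq hσ hβ hinv η ((a : L) * y)
  rw [if_pos hη] at h
  rw [← h, proj, Matrix.mul_smul, Matrix.trace_smul, smul_eq_mul, Finset.mul_sum (a := σ a), Matrix.trace_sum]
  congr 1
  refine Fintype.sum_equiv (Equiv.mulRight a) _ _ fun b => ?_
  rw [Equiv.coe_mulRight, Matrix.mul_smul, Matrix.trace_smul, smul_eq_mul, ← map_mul, ← hβ,
    mul_inv_rev, mul_inv_cancel_left, Subgroup.coe_mul, mul_assoc, mul_comm]

include hσ hβ hinv in
/-- The column product restricted to the characters over `β`. -/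
theorem sum_over_mul (a y : L) [Fintype (IrrCharacter L)] [DecidablePred (· ∈ Over N (β : N → ℂ))]
    [DecidableRel (IsConj : L → L → Prop)] :
    ∑ η ∈ Finset.univ.filter (· ∈ Over N (β : N → ℂ)), (η : L → ℂ) a * (η : L → ℂ) y =
      (β : N → ℂ) 1 / (Nat.card N : ℂ) * ∑ m : N, (β : N → ℂ) m⁻¹ *
        (if IsConj y ((m : L) * a)⁻¹ then (Nat.card (Subgroup.centralizer ({y} : Set L)) : ℂ) else 0) := by
  rw [Finset.sum_filter]
  calc ∑ η : IrrCharacter L, (if η ∈ Over N (β : N → ℂ) then (η : L → ℂ) a * (η : L → ℂ) y else 0)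
      = ∑ η : IrrCharacter L, proj β (η : L → ℂ) a * (η : L → ℂ) y :=
        Finset.sum_congr rfl fun η _ => by
          rw [proj_eq hσ hβ hinv η a, ite_mul, zero_mul]
    _ = (β : N → ℂ) 1 / (Nat.card N : ℂ) * ∑ m : N, (β : N → ℂ) m⁻¹ *
          ∑ η : IrrCharacter L, (η : L → ℂ) y * (η : L → ℂ) ((m : L) * a) := by
        simp only [proj, Finset.mul_sum, Finset.sum_mul]
        rw [Finset.sum_comm]
        exact Finset.sum_congr rfl fun m _ => Finset.sum_congr rfl fun η _ => by ring
    _ = _ := by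
        congr 1
        refine Finset.sum_congr rfl fun m _ => ?_
        congr 1
        rw [Finset.sum_congr rfl fun η (_ : η ∈ Finset.univ) => by
          rw [show (η : L → ℂ) ((m : L) * a) = conj ((η : L → ℂ) ((m : L) * a)⁻¹) by
            rw [Char.char_inv (Char.irr_isCharacter η.2), Complex.conj_conj]]]
        rw [Char.column_orthogonality]
        congr

end Projection

/-- Regularity is seen modulo a normal subgroup of order prime to `p`. -/
theorem regular_congr {L : Type u} [Group L] {p : ℕ} [Fact p.Prime] (N : Subgroup L) [N.Normal]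
    (hN : ¬ p ∣ Nat.card N) {a b : L} (h : a * b⁻¹ ∈ N) : IsPRegular p a ↔ IsPRegular p b := by
  have key : ∀ x : L, p ∣ orderOf x ↔ p ∣ orderOf (QuotientGroup.mk' N x) := by
    intro x
    refine ⟨fun hx => ?_, fun hx => hx.trans (orderOf_map_dvd _ x)⟩
    have h2 : x ^ orderOf (QuotientGroup.mk' N x) ∈ N := by
      rw [← QuotientGroup.eq_one_iff, ← QuotientGroup.mk'_apply, map_pow, pow_orderOf_eq_one]
    have h3 : orderOf x ∣ orderOf (QuotientGroup.mk' N x) * Nat.card N := by
      rw [orderOf_dvd_iff_pow_eq_one, pow_mul]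
      exact congrArg Subtype.val (pow_card_eq_one' (x := (⟨_, h2⟩ : N)))
    exact ((Fact.out : p.Prime).dvd_mul.1 (hx.trans h3)).resolve_right hN
  have e : QuotientGroup.mk' N a = QuotientGroup.mk' N b := by
    rw [← mul_inv_eq_one, ← map_inv, ← map_mul]
    exact (QuotientGroup.eq_one_iff _).2 h
  rw [IsPRegular, IsPRegular, key a, key b, e]

end CfsgLib.BlockA.AbelianIso
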