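import Cfsg.Agent.Lib.BlockA.AbelianIso.TwistBasic

/-!
# The twisting character of the group of pairs
-/

set_option autoImplicit false
set_option linter.unusedSectionVars false

namespace CfsgLib.BlockA.AbelianIso

open Cfsg
open scoped ComplexConjugate Kronecker

universe u

variable {G : Type u} [Group G] {n : ℕ}

theorem spans_inv_avg {N : Subgroup G} [Fintype N] {σ : N →* Matrix (Fin n) (Fin n) ℂ} (hσ : Spans σ)
    (hn : n ≠ 0) {U : Matrix (Fin n) (Fin n) ℂ} (hU : IsUnit U) :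
    ∑ a : N, (σ a * U).trace * ((σ a * U)⁻¹).trace = (Nat.card N : ℂ) := by
  have hd := (Matrix.isUnit_iff_isUnit_det U).1 hU
  have e : ∀ a, (σ a * U)⁻¹ = U⁻¹ * σ a⁻¹ := fun a => Matrix.inv_eq_left_inv (by
    rw [mul_assoc, ← mul_assoc (σ a⁻¹), ← map_mul, inv_mul_cancel, map_one, one_mul,
      Matrix.nonsing_inv_mul _ hd])
  have h := hσ.schur U U⁻¹
  rw [Matrix.mul_nonsing_inv _ hd, Matrix.trace_one, Fintype.card_fin, mul_comm (Nat.card N : ℂ)] at h
  refine Eq.trans (Finset.sum_congr rfl fun a _ => ?_) (mul_left_cancel₀ (Nat.cast_ne_zero.2 hn) h)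
  rw [e, Matrix.trace_mul_comm (σ a) U, Matrix.trace_mul_comm U⁻¹]

/-- The data of a twist, with the smaller representation on the subgroup of `H`. -/
structure TwistData (K H : Subgroup G) (θ : K → ℂ) (β : K.subgroupOf H → ℂ) where
  n : ℕ
  s : ℕ
  n_ne : n ≠ 0
  s_ne : s ≠ 0
  ρ : K →* Matrix (Fin n) (Fin n) ℂ
  σ : K.subgroupOf H →* Matrix (Fin s) (Fin s) ℂ
  A : H → Matrix (Fin n) (Fin n) ℂ
  B : H → Matrix (Fin s) (Fin s) ℂ
  spans_ρ : Spans ρ
  spans_σ : Spans σ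
  θ_eq : ∀ x, θ x = (ρ x).trace
  β_eq : ∀ a, β a = (σ a).trace
  A_unit : ∀ h, IsUnit (A h)
  B_unit : ∀ h, IsUnit (B h)
  A_conj : ∀ (h : H) (x x' : K), (x' : G) = h * x * (h : G)⁻¹ → A h * ρ x = ρ x' * A h
  B_conj : ∀ (h : H) (a a' : K.subgroupOf H), (a' : H) = h * a * h⁻¹ → B h * σ a = σ a' * B h
  A_mul : ∀ (h h' : H) (x : K), (h' : G) = (x : G) * h → A h' = ρ x * A h
  B_mul : ∀ (h : H) (a : K.subgroupOf H), B ((a : H) * h) = σ a * B h
  factor : SameFactor A B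

variable {K H : Subgroup G}

theorem exists_twistData {θ : IrrCharacter K} {β : IrrCharacter (K.subgroupOf H)}
    (htw : HasTwist K H (θ : K → ℂ) (β : K.subgroupOf H → ℂ)) :
    Nonempty (TwistData K H (θ : K → ℂ) (β : K.subgroupOf H → ℂ)) := by
  obtain ⟨n, s, ρ, σ, A, B, hρ, hσ, hθ, hβ, ⟨hAu, hAc, hAm⟩, ⟨hBu, hBc, hBm⟩, hf⟩ := htw
  let ι : K.subgroupOf H →* (K ⊓ H : Subgroup G) :=
    { toFun := fun a => ⟨((a : H) : G), Subgroup.mem_inf.2 ⟨a.2, (a : H).2⟩⟩
      map_one' := rfl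
      map_mul' := fun _ _ => rfl }
  have hι : Function.Surjective ι := fun y =>
    ⟨⟨⟨(y : G), (Subgroup.mem_inf.1 y.2).2⟩, (Subgroup.mem_inf.1 y.2).1⟩, rfl⟩
  have hσ' : Spans (σ.comp ι) := by
    have h : Set.range (σ.comp ι) = Set.range σ := by
      rw [MonoidHom.coe_comp, hι.range_comp]
    rw [Spans, h]; exact hσ
  have hn : n ≠ 0 := fun e => Char.irr_apply_one_ne_zero θ.2 (by
    rw [hθ, map_one, Matrix.trace_one, Fintype.card_fin, e, Nat.cast_zero])
  have hs : s ≠ 0 := fun e => Char.irr_apply_one_ne_zero β.2 (by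
    rw [hβ 1 1 rfl, map_one, Matrix.trace_one, Fintype.card_fin, e, Nat.cast_zero])
  exact ⟨⟨n, s, hn, hs, ρ, σ.comp ι, A, B, hρ, hσ', hθ, fun a => hβ a (ι a) rfl, hAu, hBu, hAc,
    fun h a a' e => hBc h (ι a) (ι a') (congrArg Subtype.val e), hAm,
    fun h a => hBm h _ (ι a) rfl, hf⟩⟩

/-- The pairs congruent modulo `K`. -/
def pairs (K H : Subgroup G) [K.Normal] : Subgroup (G × H) where
  carrier := {d | d.1 * (d.2 : G)⁻¹ ∈ K}
  one_mem' := by simp
  mul_mem' := fun {a b} ha hb => by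
    have h := mul_mem ha (Subgroup.Normal.conj_mem ‹K.Normal› _ hb (a.2 : G))
    simpa [mul_assoc] using h
  inv_mem' := fun {a} ha => by
    have h := Subgroup.Normal.conj_mem ‹K.Normal› _ (inv_mem ha) (a.2 : G)⁻¹
    simpa [mul_assoc] using h

variable [K.Normal]

/-- The difference of a pair. -/
def kp (d : pairs K H) : K := ⟨(d : G × H).1 * (((d : G × H).2 : H) : G)⁻¹, d.2⟩

/-- The first projection. -/
def pr1 : pairs K H →* G := (MonoidHom.fst G H).comp (pairs K H).subtype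

/-- The second projection. -/
def pr2 : pairs K H →* H := (MonoidHom.snd G H).comp (pairs K H).subtype

theorem pr2_surjective : Function.Surjective (pr2 (K := K) (H := H)) := fun y =>
  ⟨⟨((y : G), y), by show (y : G) * (y : G)⁻¹ ∈ K; rw [mul_inv_cancel]; exact one_mem _⟩, rfl⟩

theorem pr1_surjective (hKH : K ⊔ H = ⊤) : Function.Surjective (pr1 (K := K) (H := H)) := fun g => by
  have hg : g ∈ ((K ⊔ H : Subgroup G) : Set G) := by rw [hKH]; trivial
  rw [Subgroup.normal_mul] at hg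
  obtain ⟨k, hk, h, hh, rfl⟩ := hg
  exact ⟨⟨(k * h, ⟨h, hh⟩), by show k * h * h⁻¹ ∈ K; rw [mul_inv_cancel_right]; exact hk⟩, rfl⟩

namespace TwistData

variable {θ : IrrCharacter K} {β : IrrCharacter (K.subgroupOf H)}
  (T : TwistData K H (θ : K → ℂ) (β : K.subgroupOf H → ℂ))

theorem exists_scalar : ∃ c : ℂ, c ≠ 0 ∧ T.A 1 = c • 1 ∧ T.B 1 = c • 1 := by
  obtain ⟨c, h1, h2⟩ := T.factor 1 1
  rw [mul_one] at h1 h2
  have hA : T.A 1 = c • 1 := (T.A_unit 1).mul_right_cancel (by rw [h1, smul_mul_assoc, one_mul])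
  have hB : T.B 1 = c • 1 := (T.B_unit 1).mul_right_cancel (by rw [h2, smul_mul_assoc, one_mul])
  refine ⟨c, fun hc => ?_, hA, hB⟩
  have h0 := T.A_unit 1
  have : Nonempty (Fin T.n) := ⟨⟨0, Nat.pos_of_ne_zero T.n_ne⟩⟩
  rw [hA, hc, zero_smul, Matrix.isUnit_iff_isUnit_det, Matrix.det_zero] at h0
  exact not_isUnit_zero h0

/-- The representation of the pairs. -/
noncomputable def rep : pairs K H →* Matrix (Fin T.n × Fin T.s) (Fin T.n × Fin T.s) ℂ where
  toFun d := (T.ρ (kp d) * T.A (d : G × H).2) ⊗ₖ (((T.B (d : G × H).2)⁻¹).transpose)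
  map_one' := by
    obtain ⟨c, hc, hA, hB⟩ := T.exists_scalar
    have e : ((c • (1 : Matrix (Fin T.s) (Fin T.s) ℂ))⁻¹) = c⁻¹ • 1 :=
      Matrix.inv_eq_left_inv (by rw [smul_mul_smul_comm, one_mul, inv_mul_cancel₀ hc, one_smul])
    have hk : kp (1 : pairs K H) = 1 := Subtype.ext (by simp [kp])
    simp [hk, hA, hB, e, Matrix.smul_kronecker, Matrix.kronecker_smul, smul_smul, hc]
  map_mul' d d' := by
    obtain ⟨e, h1, h2⟩ := T.factor (d : G × H).2 (d' : G × H).2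
    obtain ⟨m, hm⟩ : ∃ m : K, (m : G) =
        (((d : G × H).2 : H) : G) * (kp d' : G) * (((d : G × H).2 : H) : G)⁻¹ :=
      ⟨⟨_, Subgroup.Normal.conj_mem ‹K.Normal› _ (kp d').2 _⟩, rfl⟩
    have hk : kp (d * d') = kp d * m := Subtype.ext (by
      rw [Subgroup.coe_mul, hm]
      simp [kp, mul_assoc])
    have hB : (T.B ((d * d' : pairs K H) : G × H).2)⁻¹ =
        e • ((T.B (d' : G × H).2)⁻¹ * (T.B (d : G × H).2)⁻¹) := by
      refine Matrix.inv_eq_left_inv ?_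
      rw [Subgroup.coe_mul, Prod.snd_mul, smul_mul_assoc, ← mul_smul_comm, ← h2, mul_assoc,
        ← mul_assoc (T.B (d : G × H).2)⁻¹,
        Matrix.nonsing_inv_mul _ ((Matrix.isUnit_iff_isUnit_det _).1 (T.B_unit _)), one_mul,
        Matrix.nonsing_inv_mul _ ((Matrix.isUnit_iff_isUnit_det _).1 (T.B_unit _))]
    rw [← Matrix.mul_kronecker_mul, hB, hk, Matrix.transpose_smul, Matrix.kronecker_smul,
      ← Matrix.smul_kronecker, Matrix.transpose_mul, Subgroup.coe_mul, Prod.snd_mul, map_mul,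
      ← mul_smul_comm, ← h1]
    simp only [mul_assoc]
    rw [← mul_assoc (T.A _) (T.ρ (kp d')), T.A_conj _ _ m hm]
    simp only [mul_assoc]

/-- The twisting character. -/
noncomputable def twist (d : pairs K H) : ℂ :=
  (T.ρ (kp d) * T.A (d : G × H).2).trace * ((T.B (d : G × H).2)⁻¹).trace

theorem isCharacter_twist : IsCharacter (pairs K H) T.twist := by
  rw [show T.twist = fun d => (T.rep d).trace from funext fun d => by
    show _ = ((T.ρ (kp d) * T.A (d : G × H).2) ⊗ₖ _).trace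
    rw [Matrix.trace_kronecker, Matrix.trace_transpose]
    rfl]
  exact isCharacter_matrix T.rep

theorem conj_twist [Finite G] (d : pairs K H) :
    conj (T.twist d) = ((T.ρ (kp d) * T.A (d : G × H).2)⁻¹).trace * (T.B (d : G × H).2).trace := by
  have e : T.rep d⁻¹ = (T.rep d)⁻¹ :=
    (Matrix.inv_eq_left_inv (by rw [← map_mul, inv_mul_cancel, map_one])).symm
  have h : ∀ x, T.twist x = (T.rep x).trace := fun x => by
    show _ = ((T.ρ (kp x) * T.A (x : G × H).2) ⊗ₖ _).trace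
    rw [Matrix.trace_kronecker, Matrix.trace_transpose]
    rfl
  rw [← Char.char_inv T.isCharacter_twist, h, e]
  show (((T.ρ (kp d) * T.A (d : G × H).2) ⊗ₖ _)⁻¹).trace = _
  rw [Matrix.inv_kronecker, Matrix.trace_kronecker, ← Matrix.transpose_nonsing_inv,
    Matrix.trace_transpose,
    Matrix.nonsing_inv_nonsing_inv _ ((Matrix.isUnit_iff_isUnit_det _).1 (T.B_unit _))]

/-- The twisting character on pairs inside `K`. -/
theorem twist_inner (d : pairs K H) (x : K) (a : K.subgroupOf H) (hx : (d : G × H).1 = x)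
    (ha : (d : G × H).2 = a) :
    T.twist d = (θ : K → ℂ) x * (β : K.subgroupOf H → ℂ) a⁻¹ := by
  obtain ⟨c, hc, hA, hB⟩ := T.exists_scalar
  have e1 : T.A (a : H) = c • T.ρ ⟨((a : H) : G), a.2⟩ := by
    rw [T.A_mul 1 (a : H) ⟨((a : H) : G), a.2⟩ (by simp), hA, mul_smul_comm, mul_one]
  have e2 : (T.B (a : H))⁻¹ = c⁻¹ • T.σ a⁻¹ := by
    refine Matrix.inv_eq_left_inv ?_
    have h := T.B_mul 1 a
    rw [mul_one] at h
    rw [h, hB, mul_smul_comm, mul_one, smul_mul_smul_comm, inv_mul_cancel₀ hc, one_smul, ← map_mul,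
      inv_mul_cancel, map_one]
  have hk : kp d * (⟨((a : H) : G), a.2⟩ : K) = x := Subtype.ext (by
    rw [Subgroup.coe_mul]
    show (d : G × H).1 * (((d : G × H).2 : H) : G)⁻¹ * ((a : H) : G) = x
    rw [hx, ha, inv_mul_cancel_right])
  rw [twist, ha, e1, e2, mul_smul_comm, ← map_mul, hk, Matrix.trace_smul, Matrix.trace_smul, ← T.θ_eq,
    ← T.β_eq, smul_eq_mul, smul_eq_mul, mul_mul_mul_comm, mul_inv_cancel₀ hc, one_mul]

include T in
theorem θ_invariant (hKH : K ⊔ H = ⊤) (g : G) : Clifford.conjFn g (θ : K → ℂ) = θ := by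
  obtain ⟨d, rfl⟩ := pr1_surjective hKH g
  funext x
  obtain ⟨h, eh⟩ : ∃ h : H, h = (d : G × H).2 := ⟨_, rfl⟩
  obtain ⟨x', hx'⟩ : ∃ x' : K, (x' : G) = (h : G) * x * (h : G)⁻¹ :=
    ⟨⟨_, Subgroup.Normal.conj_mem ‹K.Normal› _ x.2 _⟩, rfl⟩
  have e : Clifford.conjN (pr1 d) x = kp d * x' * (kp d)⁻¹ := Subtype.ext (by
    rw [Clifford.coe_conjN, Subgroup.coe_mul, Subgroup.coe_mul, Subgroup.coe_inv, hx', eh]
    show (d : G × H).1 * (x : G) * (d : G × H).1⁻¹ = _
    simp [kp, mul_assoc])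
  have hd := (Matrix.isUnit_iff_isUnit_det _).1 (T.A_unit h)
  rw [Clifford.conjFn_apply, e, Char.irr_isClassFunction θ.2 x' (kp d), T.θ_eq, T.θ_eq,
    ← mul_one (T.ρ x'), ← Matrix.mul_nonsing_inv _ hd, ← mul_assoc, ← T.A_conj h x x' hx',
    Matrix.trace_mul_comm, ← mul_assoc, Matrix.nonsing_inv_mul _ hd, one_mul]

include T in
theorem β_invariant (y : H) : Clifford.conjFn y (β : K.subgroupOf H → ℂ) = β := by
  funext a
  have hd := (Matrix.isUnit_iff_isUnit_det _).1 (T.B_unit y)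
  rw [Clifford.conjFn_apply, T.β_eq, T.β_eq, ← mul_one (T.σ _), ← Matrix.mul_nonsing_inv _ hd,
    ← mul_assoc, ← T.B_conj y a (Clifford.conjN y a) rfl,
    Matrix.trace_mul_comm, ← mul_assoc, Matrix.nonsing_inv_mul _ hd, one_mul]

end TwistData

end CfsgLib.BlockA.AbelianIso
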